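import Cfsg.Agent.Lib.Fusion.Saturation

/-
Fusion systems of groups.
Main results: `isMap_group_iff`, `isMap_subgroup_iff`, `isMap_inner_iff`, `innerFusionSystem_le`,
`autGroup_group`, `mem_Z_of_sylow`, `exists_conj_sylow_normalizer`, `sylow_centralizer`,
`sylow_autInducedBy`, `exists_conj_extender_le`, `receptive_group`, `isSaturated_group`,
`fullyNormalized_group_iff`, `fullyCentralized_group_iff`.
-/

set_option autoImplicit false

namespace Cfsg.Agent.Fusion

open Cfsg Cfsg.FusionSystem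

theorem isMap_subgroup_iff {Ω : Type*} [Group Ω] {H T : Subgroup Ω} (hTH : T ≤ H)
    {P : Subgroup Ω} {f : Ω → Ω} :
    IsMap (fusionSystemOfSubgroup H T hTH) P f ↔
      P ≤ T ∧ ∃ g ∈ H, ∀ x ∈ P, g * x * g⁻¹ ∈ T ∧ f x = g * x * g⁻¹ := by
  constructor
  · rintro ⟨φ, ⟨hP, hφ, g, hg, hgx⟩, e⟩
    refine ⟨hP, g, hg, fun x hx => ⟨?_, ?_⟩⟩
    · exact hgx ⟨x, hx⟩ ▸ hφ _
    · rw [← e x hx]; exact hgx ⟨x, hx⟩
  · rintro ⟨hP, g, hg, h⟩
    exact ⟨conjHom P g, ⟨hP, fun x => (h x x.2).1, g, hg, fun x => rfl⟩,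
      fun x hx => (h x hx).2.symm⟩

theorem isMap_inner_iff {Ω : Type*} [Group Ω] {S : Subgroup Ω} {P : Subgroup Ω} {f : Ω → Ω} :
    IsMap (innerFusionSystem S) P f ↔ P ≤ S ∧ ∃ g ∈ S, ∀ x ∈ P, f x = g * x * g⁻¹ := by
  constructor
  · rintro ⟨φ, ⟨hP, g, hg, hgx⟩, e⟩
    exact ⟨hP, g, hg, fun x hx => by rw [← e x hx]; exact hgx ⟨x, hx⟩⟩
  · rintro ⟨hP, g, hg, h⟩
    exact ⟨conjHom P g, ⟨hP, g, hg, fun x => rfl⟩, fun x hx => (h x hx).symm⟩

theorem innerFusionSystem_le {Ω : Type*} [Group Ω] {S : Subgroup Ω} (F : FusionSystem S) :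
    innerFusionSystem S ≤ F :=
  le_of_isMap fun P f h => by
    obtain ⟨hP, g, hg, e⟩ := isMap_inner_iff.1 h
    exact (IsMap.conj hP hg).congr fun x hx => (e x hx).symm

variable {G : Type*} [Group G] {S : Subgroup G}

theorem isMap_group_iff {P : Subgroup G} {f : G → G} :
    IsMap (groupFusionSystem S) P f ↔
      P ≤ S ∧ ∃ g : G, ∀ x ∈ P, g * x * g⁻¹ ∈ S ∧ f x = g * x * g⁻¹ := by
  constructor
  · rintro ⟨φ, ⟨hP, hφ, g, hgx⟩, e⟩
    refine ⟨hP, g, fun x hx => ⟨?_, ?_⟩⟩
    · exact hgx ⟨x, hx⟩ ▸ hφ _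
    · rw [← e x hx]; exact hgx ⟨x, hx⟩
  · rintro ⟨hP, g, h⟩
    exact ⟨conjHom P g, ⟨hP, fun x => (h x x.2).1, g, fun x => rfl⟩,
      fun x hx => (h x hx).2.symm⟩

theorem img_conj (P : Subgroup G) (g : G) :
    img (fun x => g * x * g⁻¹) P = P.map (MulAut.conj g).toMonoidHom := by
  rw [img, ← Subgroup.closure_eq (P.map (MulAut.conj g).toMonoidHom)]
  congr 1

theorem isIso_conj {P : Subgroup G} {g : G} (hP : P ≤ S)
    (h : P.map (MulAut.conj g).toMonoidHom ≤ S) :
    IsIso (groupFusionSystem S) P (P.map (MulAut.conj g).toMonoidHom) (fun x => g * x * g⁻¹) :=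
  ⟨isMap_group_iff.2 ⟨hP, g, fun x hx => ⟨h ⟨x, hx, rfl⟩, rfl⟩⟩, img_conj P g⟩

theorem exists_conj_of_isConj {P Q : Subgroup G} (h : (groupFusionSystem S).IsConj P Q) :
    P ≤ S ∧ Q ≤ S ∧ ∃ g : G, P.map (MulAut.conj g).toMonoidHom = Q := by
  obtain ⟨f, hf⟩ := isConj_iff.1 h
  obtain ⟨hP, g, hg⟩ := isMap_group_iff.1 hf.1
  refine ⟨hP, hf.le_right, g, ?_⟩
  rw [← img_conj, ← hf.2]
  exact img_congr fun x hx => (hg x hx).2.symm

theorem autGroup_group {P : Subgroup G} (hP : P ≤ S) :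
    (groupFusionSystem S).autGroup P = autInducedBy ⊤ P := by
  ext α
  rw [mem_autGroup_iff hP, isMap_group_iff, mem_autInducedBy_iff]
  constructor
  · rintro ⟨-, g, hg⟩
    exact ⟨g, trivial, fun x => (autFn_apply α x.2).symm.trans (hg x x.2).2⟩
  · rintro ⟨g, -, hg⟩
    refine ⟨hP, g, fun x hx => ⟨?_, (autFn_apply α hx).trans (hg ⟨x, hx⟩)⟩⟩
    rw [← hg ⟨x, hx⟩]
    exact hP (α ⟨x, hx⟩).2

theorem normalizerIn_top (Q : Subgroup G) :
    normalizerIn ⊤ Q = Subgroup.normalizer (Q : Set G) := top_inf_eq _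

variable [Finite G] {p : ℕ} [Fact p.Prime] (T : Sylow p G)

theorem isSylowIn_top : IsSylowIn p (T : Subgroup G) ⊤ :=
  ⟨le_top, T.isPGroup', fun _ hC _ hp => T.is_maximal' hp hC⟩

theorem isPGroup_normalizerIn (Q : Subgroup G) :
    IsPGroup p (normalizerIn (T : Subgroup G) Q) := T.isPGroup'.to_inf_left

theorem exists_conj_sylow_normalizer {P : Subgroup G} (hP : P ≤ T) :
    ∃ g : G, P.map (MulAut.conj g).toMonoidHom ≤ T ∧
      IsSylowIn p (normalizerIn (T : Subgroup G) (P.map (MulAut.conj g).toMonoidHom))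
        (Subgroup.normalizer ((P.map (MulAut.conj g).toMonoidHom : Subgroup G) : Set G)) := by
  obtain ⟨U, hPU, hU⟩ := exists_isSylowIn_ge (A := Subgroup.normalizer (P : Set G))
    (T.isPGroup'.to_le hP) Subgroup.le_normalizer
  obtain ⟨g, -, hg⟩ := (isSylowIn_top T).exists_conj_le hU.isPGroup le_top
  refine ⟨g, ?_, ?_⟩
  · rintro _ ⟨x, hx, rfl⟩
    exact hg x (hPU hx)
  have h1 := hU.map (MulAut.conj g)
  have h2 : (Subgroup.normalizer (P : Set G)).map (MulAut.conj g).toMonoidHom =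
      Subgroup.normalizer ((P.map (MulAut.conj g).toMonoidHom : Subgroup G) : Set G) :=
    Subgroup.map_normalizer_eq_of_bijective P (MulAut.conj g).bijective
  rw [h2] at h1
  refine h1.of_card_ge (isPGroup_normalizerIn T _) inf_le_right (Subgroup.card_le_of_le ?_)
  refine le_inf ?_ h1.le
  rintro _ ⟨x, hx, rfl⟩
  exact hg x hx

theorem sylow_centralizer {Q : Subgroup G}
    (h : IsSylowIn p (normalizerIn (T : Subgroup G) Q) (Subgroup.normalizer (Q : Set G))) :
    IsSylowIn p (centralizerIn (T : Subgroup G) Q) (Subgroup.centralizer (Q : Set G)) := by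
  have h1 := h.inf_normal (Subgroup.centralizer_le_normalizer (Q : Set G)) fun a ha c hc => by
    rw [Subgroup.mem_centralizer_iff] at hc ⊢
    intro x hx
    have hx' : a⁻¹ * x * a ∈ (Q : Set G) := by
      have := (Subgroup.mem_normalizer_iff.1 (inv_mem ha) x).1 hx
      simpa using this
    have := hc _ hx'
    calc x * (a * c * a⁻¹) = a * (a⁻¹ * x * a * c) * a⁻¹ := by group
      _ = a * (c * (a⁻¹ * x * a)) * a⁻¹ := by rw [this]
      _ = a * c * a⁻¹ * x := by group
  convert h1 using 1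
  exact le_antisymm (le_inf (centralizerIn_le_normalizerIn _ _) inf_le_right)
    (le_inf (inf_le_left.trans inf_le_left) inf_le_right)

theorem sylow_autInducedBy {Q : Subgroup G}
    (h : IsSylowIn p (normalizerIn (T : Subgroup G) Q) (Subgroup.normalizer (Q : Set G))) :
    IsSylowIn p (autInducedBy (T : Subgroup G) Q) (autInducedBy ⊤ Q) := by
  rw [← normalizerIn_top] at h
  obtain ⟨R, hR⟩ := (isSylowIn_iff_exists h.le).1 h
  have h2 : IsSylowIn p ((normalizerIn (T : Subgroup G) Q).subgroupOf (normalizerIn ⊤ Q)) ⊤ :=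
    ⟨le_top, hR ▸ R.isPGroup', fun C hC _ hp => hR ▸ R.is_maximal' hp (hR ▸ hC)⟩
  have h3 := h2.image (normConj ⊤ Q)
  rw [← MonoidHom.range_eq_map, range_normConj] at h3
  convert h3 using 1
  ext α
  rw [mem_autInducedBy_iff]
  constructor
  · rintro ⟨g, hg, e⟩
    refine ⟨⟨g, mem_normalizerIn_of_aut trivial e⟩, mem_normalizerIn_of_aut hg e, ?_⟩
    exact MulEquiv.ext fun x => Subtype.ext (e x).symm
  · rintro ⟨g, hg, rfl⟩
    exact ⟨g, hg.1, fun x => rfl⟩

/-- The extension lemma for Sylow subgroups of normalizers. -/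
theorem exists_conj_extender_le {Q : Subgroup G}
    (h : IsSylowIn p (normalizerIn (T : Subgroup G) Q) (Subgroup.normalizer (Q : Set G)))
    {N : Subgroup G} (hN : IsPGroup p N)
    (hle : N ≤ normalizerIn (T : Subgroup G) Q ⊔ Subgroup.centralizer (Q : Set G)) :
    ∃ c ∈ Subgroup.centralizer (Q : Set G), ∀ n ∈ N,
      c * n * c⁻¹ ∈ normalizerIn (T : Subgroup G) Q := by
  set B := normalizerIn (T : Subgroup G) Q
  set C := Subgroup.centralizer (Q : Set G)
  have hBC : B ≤ Subgroup.normalizer (C : Set G) := by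
    intro b hb
    rw [Subgroup.mem_normalizer_iff]
    have key : ∀ a ∈ Subgroup.normalizer (Q : Set G), ∀ c ∈ C, a * c * a⁻¹ ∈ C := by
      intro a ha c hc
      refine Subgroup.mem_centralizer_iff.2 fun x hx => ?_
      have hx' : a⁻¹ * x * a ∈ (Q : Set G) := by
        have := (Subgroup.mem_normalizer_iff.1 (inv_mem ha) x).1 hx
        simpa using this
      have := Subgroup.mem_centralizer_iff.1 hc _ hx'
      calc x * (a * c * a⁻¹) = a * (a⁻¹ * x * a * c) * a⁻¹ := by group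
        _ = a * (c * (a⁻¹ * x * a)) * a⁻¹ := by rw [this]
        _ = a * c * a⁻¹ * x := by group
    intro c
    refine ⟨key b hb.2 c, fun hc => ?_⟩
    simpa [mul_assoc] using key b⁻¹ (inv_mem hb.2) _ hc
  have hW : IsSylowIn p B (B ⊔ C) :=
    h.mono le_sup_left (sup_le inf_le_right (Subgroup.centralizer_le_normalizer (Q : Set G)))
  obtain ⟨w, hw, hconj⟩ := hW.exists_conj_le hN hle
  rw [← SetLike.mem_coe, Subgroup.coe_mul_of_left_le_normalizer_right B C hBC] at hw
  obtain ⟨b, hb, c, hc, rfl⟩ := hw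
  refine ⟨c, hc, fun n hn => ?_⟩
  have := mul_mem (mul_mem (inv_mem hb) (hconj n hn)) hb
  simpa [mul_assoc] using this

theorem receptive_group {Q : Subgroup G} (hQ : Q ≤ T)
    (h : IsSylowIn p (normalizerIn (T : Subgroup G) Q) (Subgroup.normalizer (Q : Set G))) :
    (groupFusionSystem (T : Subgroup G)).IsReceptive Q := by
  refine isReceptive_iff.2 ⟨hQ, fun P f hf => ?_⟩
  obtain ⟨hP, g, hg⟩ := isMap_group_iff.1 hf.1
  have hNp : IsPGroup p ((Nx (T : Subgroup G) P f).map (MulAut.conj g).toMonoidHom) :=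
    (T.isPGroup'.to_le ((Nx_le_normalizerIn _ _ _).trans inf_le_left)).map _
  have hle : (Nx (T : Subgroup G) P f).map (MulAut.conj g).toMonoidHom ≤
      normalizerIn (T : Subgroup G) Q ⊔ Subgroup.centralizer (Q : Set G) := by
    rintro _ ⟨n, hn, rfl⟩
    obtain ⟨hnN, t, ht, htn⟩ := mem_Nx.1 hn
    have htN : t ∈ normalizerIn (T : Subgroup G) Q := by
      refine mem_normalizerIn_of_conj ht fun y hy => ?_
      obtain ⟨x, hx, rfl⟩ := hf.exists_eq hy
      rw [← htn x hx]
      exact hf.mem (normalizerIn_conj hnN hx)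
    have hc : t⁻¹ * (g * n * g⁻¹) ∈ Subgroup.centralizer (Q : Set G) := by
      refine Subgroup.mem_centralizer_iff.2 fun y hy => ?_
      obtain ⟨x, hx, rfl⟩ := hf.exists_eq hy
      have h1 := htn x hx
      rw [(hg _ (normalizerIn_conj hnN hx)).2, (hg x hx).2] at h1
      rw [(hg x hx).2]
      calc g * x * g⁻¹ * (t⁻¹ * (g * n * g⁻¹))
          = t⁻¹ * (t * (g * x * g⁻¹) * t⁻¹) * (g * n * g⁻¹) := by group
        _ = t⁻¹ * (g * (n * x * n⁻¹) * g⁻¹) * (g * n * g⁻¹) := by rw [h1]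
        _ = t⁻¹ * (g * n * g⁻¹) * (g * x * g⁻¹) := by group
    show g * n * g⁻¹ ∈ _
    have := mul_mem (Subgroup.mem_sup_left (T := Subgroup.centralizer (Q : Set G)) htN)
      (Subgroup.mem_sup_right (S := normalizerIn (T : Subgroup G) Q) hc)
    simpa using this
  obtain ⟨c, hc, hcn⟩ := exists_conj_extender_le T h hNp hle
  refine ⟨fun x => c * g * x * (c * g)⁻¹, isMap_group_iff.2
    ⟨(Nx_le_normalizerIn _ _ _).trans inf_le_left, c * g, fun n hn => ⟨?_, rfl⟩⟩, fun x hx => ?_⟩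
  · rw [show c * g * n * (c * g)⁻¹ = c * (g * n * g⁻¹) * c⁻¹ by group]
    exact (hcn _ ⟨n, hn, rfl⟩).1
  · show c * g * x * (c * g)⁻¹ = f x
    rw [show c * g * x * (c * g)⁻¹ = c * (g * x * g⁻¹) * c⁻¹ by group, ← (hg x hx).2,
      ← Subgroup.mem_centralizer_iff.1 hc _ (hf.mem hx), mul_inv_cancel_right]

theorem isSaturated_group : (groupFusionSystem (T : Subgroup G)).IsSaturated p := by
  intro P hP
  obtain ⟨g, hg, hQ⟩ := exists_conj_sylow_normalizer T hP
  refine ⟨_, isConj_iff.2 ⟨_, isIso_conj hP hg⟩, isFullyAutomized_iff.2 ⟨hg, ?_⟩,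
    receptive_group T hg hQ⟩
  rw [autGroup_group hg]
  exact sylow_autInducedBy T hQ

theorem fullyNormalized_group_iff {Q : Subgroup G} (hQ : Q ≤ T) :
    (groupFusionSystem (T : Subgroup G)).IsFullyNormalized Q ↔
      IsSylowIn p (normalizerIn (T : Subgroup G) Q) (Subgroup.normalizer (Q : Set G)) := by
  constructor
  · intro h
    obtain ⟨g, hg, hR⟩ := exists_conj_sylow_normalizer T hQ
    have h1 := hR.map (MulAut.conj g⁻¹)
    have h2 := Subgroup.map_normalizer_eq_of_bijective (Q.map (MulAut.conj g).toMonoidHom)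
      (f := (MulAut.conj g⁻¹).toMonoidHom) (MulAut.conj g⁻¹).bijective
    have h3 : (Q.map (MulAut.conj g).toMonoidHom).map (MulAut.conj g⁻¹).toMonoidHom = Q := by
      rw [Subgroup.map_map]
      exact (congrArg (Subgroup.map · Q) (MonoidHom.ext fun x => by simp [mul_assoc])).trans
        (Subgroup.map_id Q)
    rw [h2, h3] at h1
    refine h1.of_card_ge (isPGroup_normalizerIn T Q) inf_le_right ?_
    rw [Subgroup.card_map_of_injective (MulAut.conj g⁻¹).injective]
    exact h.2 _ (isConj_iff.2 ⟨_, isIso_conj hQ hg⟩)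
  · intro h
    refine fullyNormalized_of_far (p := p) T.isPGroup' (isFullyAutomized_iff.2 ⟨hQ, ?_⟩)
      (receptive_group T hQ h)
    rw [autGroup_group hQ]
    exact sylow_autInducedBy T h

theorem fullyCentralized_group_iff {Q : Subgroup G} (hQ : Q ≤ T) :
    (groupFusionSystem (T : Subgroup G)).IsFullyCentralized Q ↔
      IsSylowIn p (centralizerIn (T : Subgroup G) Q) (Subgroup.centralizer (Q : Set G)) := by
  obtain ⟨g, hg, hR⟩ := exists_conj_sylow_normalizer T hQ
  have hC := sylow_centralizer T hR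
  set R := Q.map (MulAut.conj g).toMonoidHom with hRdef
  have hconj : (groupFusionSystem (T : Subgroup G)).IsConj Q R :=
    isConj_iff.2 ⟨_, isIso_conj hQ hg⟩
  have hmap : (Subgroup.centralizer (Q : Set G)).map (MulAut.conj g).toMonoidHom =
      Subgroup.centralizer (R : Set G) := by
    ext y
    constructor
    · rintro ⟨c, hc, rfl⟩
      refine Subgroup.mem_centralizer_iff.2 ?_
      rintro _ ⟨x, hx, rfl⟩
      have := Subgroup.mem_centralizer_iff.1 hc x hx
      show g * x * g⁻¹ * (g * c * g⁻¹) = g * c * g⁻¹ * (g * x * g⁻¹)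
      calc _ = g * (x * c) * g⁻¹ := by group
        _ = g * (c * x) * g⁻¹ := by rw [this]
        _ = _ := by group
    · intro hy
      refine ⟨g⁻¹ * y * g, Subgroup.mem_centralizer_iff.2 fun x hx => ?_, by simp [mul_assoc]⟩
      have := Subgroup.mem_centralizer_iff.1 hy (g * x * g⁻¹) ⟨x, hx, rfl⟩
      calc x * (g⁻¹ * y * g) = g⁻¹ * (g * x * g⁻¹ * y) * g := by group
        _ = g⁻¹ * (y * (g * x * g⁻¹)) * g := by rw [this]
        _ = g⁻¹ * y * g * x := by group
  constructor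
  · intro h
    obtain ⟨U, hU⟩ := exists_isSylowIn p (Subgroup.centralizer (Q : Set G))
    refine hU.of_card_ge T.isPGroup'.to_inf_left inf_le_right ?_
    refine le_trans ?_ (h.2 R hconj)
    have h1 := hU.map (MulAut.conj g)
    rw [hmap] at h1
    rw [hC.card, ← h1.card, Subgroup.card_map_of_injective (MulAut.conj g).injective]
  · intro h
    refine ⟨hQ, fun X hX => ?_⟩
    have h1 := h.map (MulAut.conj g)
    rw [hmap] at h1
    refine ((fullyCentralized_of_receptive (receptive_group T hg hR)).2 X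
      (isConj_trans (isConj_symm hconj) hX)).trans (le_of_eq ?_)
    rw [hC.card, ← h1.card, Subgroup.card_map_of_injective (MulAut.conj g).injective]

end Cfsg.Agent.Fusion
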