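import Cfsg.Agent.Lib.Fusion.Basic

/-
Saturated fusion systems: receptive, fully automized, fully (K-)normalized subgroups.
Main results: `normConj`, `NK`, `card_NK`, `IsIso.map_autGroup`, `fullyCentralized_of_receptive`,
`exists_KExtension`, `exists_normalizer_map`, `receptive_of_fullyCentralized`, `fullyK_spec`,
`fullyAutomized_of_fullyNormalized`, `fullyCentralized_of_fullyNormalized`,
`receptive_of_fullyNormalized`, `exists_fullyNormalized`, `exists_fullyNormalized_map`,
`centric_of_fullyCentralized`, `isSaturated_of_criterion`.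
-/

set_option autoImplicit false

namespace Cfsg.Agent.Fusion

open Cfsg Cfsg.FusionSystem

variable {Ω : Type*} [Group Ω] {S : Subgroup Ω} {F : FusionSystem S}

/-! ### Transport along an isomorphism of the system -/

theorem congr_apply_coe {P Q : Subgroup Ω} {f : Ω → Ω} (h : IsIso F P Q f) (α : MulAut P) (x : P) :
    ((MulAut.congr h.equiv α (h.equiv x) : Q) : Ω) = f (α x : P) := by
  simp [MulAut.congr, IsIso.equiv_apply]

theorem congr_mem_autGroup {P Q : Subgroup Ω} {f : Ω → Ω} (h : IsIso F P Q f) {α : MulAut P}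
    (hα : α ∈ F.autGroup P) : MulAut.congr h.equiv α ∈ F.autGroup Q := by
  obtain ⟨g, hg, hgf, hfg⟩ := h.symm
  refine (mem_autGroup_iff h.le_right).2 ?_
  refine ((hg.trans (isIso_autFn h.le_left hα)).trans h).1.congr fun y hy => ?_
  obtain ⟨x, hx, rfl⟩ := h.exists_eq hy
  rw [autFn_apply _ hy, hgf x hx, autFn_apply α hx]
  exact (congr_apply_coe h α ⟨x, hx⟩).symm

theorem congr_mem_autGroup_iff {P Q : Subgroup Ω} {f : Ω → Ω} (h : IsIso F P Q f) {α : MulAut P} :
    MulAut.congr h.equiv α ∈ F.autGroup Q ↔ α ∈ F.autGroup P := by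
  refine ⟨fun hα => ?_, congr_mem_autGroup h⟩
  obtain ⟨g, hg, hgf, -⟩ := h.symm
  convert congr_mem_autGroup hg hα using 1
  refine MulEquiv.ext fun x => Subtype.ext ?_
  have hx : hg.equiv (h.equiv x) = x := Subtype.ext (by simp [hgf x x.2])
  conv_rhs => rw [← hx, congr_apply_coe]
  rw [congr_apply_coe, hgf _ (α x).2]

theorem map_autGroup {P Q : Subgroup Ω} {f : Ω → Ω} (h : IsIso F P Q f) :
    (F.autGroup P).map (MulAut.congr h.equiv).toMonoidHom = F.autGroup Q := by
  ext β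
  constructor
  · rintro ⟨α, hα, rfl⟩
    exact congr_mem_autGroup h hα
  · intro hβ
    refine ⟨(MulAut.congr h.equiv).symm β, ?_, MulEquiv.apply_symm_apply _ _⟩
    exact (congr_mem_autGroup_iff h).1 (by rwa [MulEquiv.apply_symm_apply])

/-- Transport a subgroup of automorphisms along an isomorphism of the system. -/
noncomputable def transK {P Q : Subgroup Ω} {f : Ω → Ω} (h : IsIso F P Q f)
    (K : Subgroup (MulAut P)) : Subgroup (MulAut Q) :=
  K.map (MulAut.congr h.equiv).toMonoidHom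

theorem mem_transK {P Q : Subgroup Ω} {f : Ω → Ω} {h : IsIso F P Q f} {K : Subgroup (MulAut P)}
    {β : MulAut Q} :
    β ∈ transK h K ↔ ∃ α ∈ K, ∀ x : P, ((β (h.equiv x) : Q) : Ω) = f (α x : P) := by
  constructor
  · rintro ⟨α, hα, rfl⟩
    exact ⟨α, hα, fun x => congr_apply_coe h α x⟩
  · rintro ⟨α, hα, e⟩
    refine ⟨α, hα, MulEquiv.ext fun y => Subtype.ext ?_⟩
    obtain ⟨x, rfl⟩ := h.equiv.surjective y
    rw [e x]
    exact congr_apply_coe h α x

theorem transK_top {P Q : Subgroup Ω} {f : Ω → Ω} (h : IsIso F P Q f) : transK h ⊤ = ⊤ :=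
  Subgroup.map_top_of_surjective _ (MulAut.congr h.equiv).surjective

theorem transK_bot {P Q : Subgroup Ω} {f : Ω → Ω} (h : IsIso F P Q f) : transK h ⊥ = ⊥ :=
  Subgroup.map_bot _

/-! ### Conjugation by the normalizer -/

/-- The action of `N_S(P)` on `P`. -/
def normConj (S P : Subgroup Ω) : normalizerIn S P →* MulAut P where
  toFun g :=
    { toFun := fun x => ⟨g * x * (g : Ω)⁻¹, normalizerIn_conj g.2 x.2⟩
      invFun := fun x => ⟨(g : Ω)⁻¹ * x * g, normalizerIn_conj_inv g.2 x.2⟩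
      left_inv := fun x => Subtype.ext (by group)
      right_inv := fun x => Subtype.ext (by group)
      map_mul' := fun x y => Subtype.ext
        (show (g : Ω) * (x * y) * (g : Ω)⁻¹ = g * x * (g : Ω)⁻¹ * (g * y * (g : Ω)⁻¹) by group) }
  map_one' := MulEquiv.ext fun x => Subtype.ext (by simp)
  map_mul' a b := MulEquiv.ext fun x => Subtype.ext
    (show (a * b : Ω) * x * (a * b : Ω)⁻¹ = a * (b * x * (b : Ω)⁻¹) * (a : Ω)⁻¹ by group)

@[simp] theorem normConj_apply {P : Subgroup Ω} (g : normalizerIn S P) (x : P) :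
    ((normConj S P g x : P) : Ω) = g * x * (g : Ω)⁻¹ := rfl

theorem mem_normalizerIn_of_aut {P : Subgroup Ω} {g : Ω} (hg : g ∈ S) {α : MulAut P}
    (e : ∀ x : P, ((α x : P) : Ω) = g * x * g⁻¹) : g ∈ normalizerIn S P := by
  refine mem_normalizerIn.2 ⟨hg, fun x => ⟨fun hx => e ⟨x, hx⟩ ▸ (α ⟨x, hx⟩).2, fun hx => ?_⟩⟩
  have h := e (α⁻¹ ⟨_, hx⟩)
  rw [MulAut.apply_inv_self] at h
  have h' : x = (α⁻¹ ⟨_, hx⟩ : P) := mul_left_cancel (mul_right_cancel h)
  rw [h']
  exact (α⁻¹ ⟨_, hx⟩ : P).2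

theorem range_normConj (S P : Subgroup Ω) : (normConj S P).range = autInducedBy S P := by
  ext α
  rw [MonoidHom.mem_range, mem_autInducedBy_iff]
  constructor
  · rintro ⟨g, rfl⟩
    exact ⟨g, g.2.1, fun x => rfl⟩
  · rintro ⟨g, hg, e⟩
    exact ⟨⟨g, mem_normalizerIn_of_aut hg e⟩, MulEquiv.ext fun x => Subtype.ext (e x).symm⟩

theorem normConj_eq_one_iff {P : Subgroup Ω} (g : normalizerIn S P) :
    normConj S P g = 1 ↔ (g : Ω) ∈ centralizerIn S P := by
  constructor
  · intro h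
    refine mem_centralizerIn_of_conj g.2.1 fun x hx => ?_
    exact congrArg (fun α : MulAut P => ((α ⟨x, hx⟩ : P) : Ω)) h
  · exact fun h => MulEquiv.ext fun x => Subtype.ext (centralizerIn_conj h x.2)

/-- `N_S^K(P)`. -/
def NK (S P : Subgroup Ω) (K : Subgroup (MulAut P)) : Subgroup Ω :=
  (K.comap (normConj S P)).map (normalizerIn S P).subtype

theorem mem_NK {P : Subgroup Ω} {K : Subgroup (MulAut P)} {g : Ω} :
    g ∈ NK S P K ↔ g ∈ S ∧ ∃ α ∈ K, ∀ x : P, ((α x : P) : Ω) = g * x * g⁻¹ := by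
  constructor
  · rintro ⟨g, hg, rfl⟩
    exact ⟨g.2.1, normConj S P g, hg, fun x => rfl⟩
  · rintro ⟨hg, α, hα, e⟩
    refine ⟨⟨g, mem_normalizerIn_of_aut hg e⟩, ?_, rfl⟩
    show normConj S P _ ∈ K
    convert hα using 1
    exact MulEquiv.ext fun x => Subtype.ext (e x).symm

theorem NK_le_normalizerIn (S P : Subgroup Ω) (K : Subgroup (MulAut P)) :
    NK S P K ≤ normalizerIn S P := Subgroup.map_subtype_le _

theorem NK_le (S P : Subgroup Ω) (K : Subgroup (MulAut P)) : NK S P K ≤ S :=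
  fun _ hg => (mem_NK.1 hg).1

theorem NK_top (S P : Subgroup Ω) : NK S P ⊤ = normalizerIn S P := by
  rw [NK, Subgroup.comap_top, ← MonoidHom.range_eq_map, Subgroup.range_subtype]

theorem NK_bot (S P : Subgroup Ω) : NK S P ⊥ = centralizerIn S P := by
  ext g
  constructor
  · rintro ⟨g, hg, rfl⟩
    exact (normConj_eq_one_iff g).1 hg
  · intro hg
    exact ⟨⟨g, centralizerIn_le_normalizerIn S P hg⟩, (normConj_eq_one_iff _).2 hg, rfl⟩

theorem centralizerIn_le_NK (S P : Subgroup Ω) (K : Subgroup (MulAut P)) :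
    centralizerIn S P ≤ NK S P K := by
  rw [← NK_bot]
  exact Subgroup.map_mono (Subgroup.comap_mono bot_le)

theorem card_NK (S P : Subgroup Ω) (K : Subgroup (MulAut P)) :
    Nat.card (NK S P K) =
      Nat.card (centralizerIn S P) * Nat.card (autInducedBy S P ⊓ K : Subgroup (MulAut P)) := by
  have h1 : Nat.card (NK S P K) = Nat.card (K.comap (normConj S P)) :=
    Subgroup.card_map_of_injective (Subgroup.subtype_injective _)
  have hle : (normConj S P).ker ≤ K.comap (normConj S P) := by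
    intro g hg
    rw [Subgroup.mem_comap, MonoidHom.mem_ker.1 hg]
    exact K.one_mem
  have h2 : Nat.card ((normConj S P).ker) = Nat.card (centralizerIn S P) := by
    rw [← Subgroup.card_map_of_injective (f := (normalizerIn S P).subtype)
      (Subgroup.subtype_injective _), ← NK_bot]
    rfl
  have h3 : Nat.card (autInducedBy S P ⊓ K : Subgroup (MulAut P)) =
      ((normConj S P).ker.subgroupOf (K.comap (normConj S P))).index := by
    set φ := (normConj S P).comp (K.comap (normConj S P)).subtype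
    have hr : φ.range = autInducedBy S P ⊓ K := by
      rw [MonoidHom.range_comp, Subgroup.range_subtype, Subgroup.map_comap_eq, range_normConj]
    rw [← hr, ← Subgroup.index_ker]
    rfl
  rw [h1, h3, ← h2, ← Nat.card_congr (Subgroup.subgroupOfEquivOfLe hle).toEquiv,
    Subgroup.card_mul_index]

/-- `Q` is fully `K`-normalized. -/
def IsFullyK (F : FusionSystem S) (Q : Subgroup Ω) (K : Subgroup (MulAut Q)) : Prop :=
  Q ≤ S ∧ ∀ (R : Subgroup Ω) (f : Ω → Ω) (h : IsIso F Q R f),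
    Nat.card (NK S R (transK h K)) ≤ Nat.card (NK S Q K)

theorem isFullyK_top_iff {Q : Subgroup Ω} : IsFullyK F Q ⊤ ↔ F.IsFullyNormalized Q := by
  refine and_congr_right fun _ => ⟨fun h R hR => ?_, fun h R f hf => ?_⟩
  · obtain ⟨f, hf⟩ := isConj_iff.1 hR
    simpa [transK_top, NK_top] using h R f hf
  · simpa [transK_top, NK_top] using h R (isConj_iff.2 ⟨f, hf⟩)

theorem isFullyK_bot_iff {Q : Subgroup Ω} : IsFullyK F Q ⊥ ↔ F.IsFullyCentralized Q := by
  refine and_congr_right fun _ => ⟨fun h R hR => ?_, fun h R f hf => ?_⟩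
  · obtain ⟨f, hf⟩ := isConj_iff.1 hR
    simpa [transK_bot, NK_bot] using h R f hf
  · simpa [transK_bot, NK_bot] using h R (isConj_iff.2 ⟨f, hf⟩)

/-! ### Images of normalizing elements -/

theorem map_normalizerIn {M P R : Subgroup Ω} {f : Ω → Ω} (hf : IsMap F M f) (hPM : P ≤ M)
    (hR : img f P = R) {g : Ω} (hgM : g ∈ M) (hg : g ∈ normalizerIn S P) :
    f g ∈ normalizerIn S R := by
  refine mem_normalizerIn.2 ⟨hf.mem hgM, fun y => ⟨fun hy => ?_, fun hy => ?_⟩⟩
  · obtain ⟨x, hx, rfl⟩ := (hf.mem_img_iff hPM).1 (hR.symm ▸ hy)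
    rw [← hf.map_conj hgM (hPM hx), ← hR]
    exact hf.mem_img (normalizerIn_conj hg hx)
  · obtain ⟨x, hx, e⟩ := (hf.mem_img_iff hPM).1 (hR.symm ▸ hy)
    have h1 := normalizerIn_conj ((normalizerIn S P).inv_mem hg) hx
    have : y = f (g⁻¹ * x * g⁻¹⁻¹) := by
      rw [hf.map_conj (M.inv_mem hgM) (hPM hx), hf.map_inv hgM, e]
      group
    rw [this, ← hR]
    exact hf.mem_img h1

theorem map_centralizerIn {M P R : Subgroup Ω} {f : Ω → Ω} (hf : IsMap F M f) (hPM : P ≤ M)
    (hR : img f P = R) {g : Ω} (hgM : g ∈ M) (hg : g ∈ centralizerIn S P) :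
    f g ∈ centralizerIn S R := by
  refine mem_centralizerIn_of_conj (hf.mem hgM) fun y hy => ?_
  obtain ⟨x, hx, rfl⟩ := (hf.mem_img_iff hPM).1 (hR.symm ▸ hy)
  rw [← hf.map_conj hgM (hPM hx), centralizerIn_conj hg hx]

/-! ### Receptive subgroups -/

theorem centralizerIn_card_le_of_receptive [Finite S] {R Q : Subgroup Ω}
    (hR : F.IsReceptive R) {f : Ω → Ω} (hf : IsIso F Q R f) :
    Nat.card (centralizerIn S Q) ≤ Nat.card (centralizerIn S R) := by
  obtain ⟨f', hf', e⟩ := (isReceptive_iff.1 hR).2 Q f hf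
  have hC := centralizerIn_le_Nx S Q f
  have hQN := le_Nx (F := F) hf.1
  rw [← hf'.card_img hC]
  have := finite_of_le (S := S) (P := centralizerIn S R) inf_le_left
  refine Subgroup.card_le_of_le (hf'.img_le hC fun g hg => ?_)
  exact map_centralizerIn hf' hQN ((img_congr e).trans hf.2) (hC hg) hg

theorem fullyCentralized_of_receptive [Finite S] {R : Subgroup Ω} (hR : F.IsReceptive R) :
    F.IsFullyCentralized R := by
  refine ⟨hR.1, fun Q hQ => ?_⟩
  obtain ⟨f, hf⟩ := isConj_iff.1 (isConj_symm hQ)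
  exact centralizerIn_card_le_of_receptive hR hf

/-- The extension theorem for a receptive subgroup whose `K`-part is Sylow. -/
theorem exists_KExtension [Finite S] {p : ℕ} [Fact p.Prime] (hS : IsPGroup p S)
    {P R : Subgroup Ω} {f : Ω → Ω} (hR : F.IsReceptive R) {K : Subgroup (MulAut R)}
    (hK : IsSylowIn p (autInducedBy S R ⊓ K) (F.autGroup R ⊓ K)) (hf : IsIso F P R f)
    (L : Subgroup (MulAut P)) (hL : ∀ α ∈ L, MulAut.congr hf.equiv α ∈ K) :
    ∃ χ ∈ F.autGroup R ⊓ K, ∃ f', IsMap F (P ⊔ NK S P L) f' ∧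
      ∀ x ∈ P, f' x = autFn χ (f x) := by
  have := finite_mulAut (P := R) hR.1
  set e := (MulAut.congr hf.equiv).toMonoidHom
  have hH : IsPGroup p ((autInducedBy S P ⊓ L : Subgroup (MulAut P)).map e) :=
    (isPGroup_autInducedBy hS).to_inf_left.map e
  have hle : (autInducedBy S P ⊓ L : Subgroup (MulAut P)).map e ≤ F.autGroup R ⊓ K := by
    rintro _ ⟨α, hα, rfl⟩
    exact ⟨congr_mem_autGroup hf (autInducedBy_le_autGroup F le_rfl hf.le_left hα.1),
      hL α hα.2⟩
  obtain ⟨χ, hχ, hconj⟩ := hK.exists_conj_le hH hle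
  refine ⟨χ, hχ, ?_⟩
  have hfχ : IsIso F P R (fun x => autFn χ (f x)) :=
    hf.trans (isIso_autFn hR.1 hχ.1)
  obtain ⟨f', hf', heq⟩ := (isReceptive_iff.1 hR).2 P _ hfχ
  refine ⟨f', hf'.mono (sup_le (le_Nx hfχ.1) fun g hg => ?_), heq⟩
  obtain ⟨hgS, α, hα, hgα⟩ := mem_NK.1 hg
  have hα' : α ∈ autInducedBy S P := mem_autInducedBy_iff.2 ⟨g, hgS, hgα⟩
  obtain ⟨h, hh, hβ⟩ := mem_autInducedBy_iff.1 (hconj _ ⟨α, ⟨hα', hα⟩, rfl⟩).1
  refine mem_Nx.2 ⟨mem_normalizerIn_of_aut hgS hgα, h, hh, fun x hx => ?_⟩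
  have key := hβ (χ (hf.equiv ⟨x, hx⟩))
  rw [MulAut.mul_apply, MulAut.mul_apply, MulAut.inv_apply_self] at key
  have e1 : f x = (hf.equiv ⟨x, hx⟩ : R) := rfl
  have e2 : f (g * x * g⁻¹) = (hf.equiv (α ⟨x, hx⟩) : R) :=
    (congrArg f (hgα ⟨x, hx⟩).symm).trans (hf.equiv_apply _).symm
  rw [e1, e2, autFn_apply χ (hf.equiv _).2, autFn_apply χ (hf.equiv _).2, ← key]
  exact congrArg (fun y : R => ((χ y : R) : Ω))
    (Subtype.ext ((congr_apply_coe hf α ⟨x, hx⟩).trans (hf.equiv_apply _).symm).symm)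

theorem exists_normalizer_map [Finite S] {p : ℕ} [Fact p.Prime] (hS : IsPGroup p S)
    {P R : Subgroup Ω} (hA : F.IsFullyAutomized p R) (hR : F.IsReceptive R)
    (h : F.IsConj P R) :
    ∃ f, IsMap F (normalizerIn S P) f ∧ img f P = R ∧
      ∀ g ∈ normalizerIn S P, f g ∈ normalizerIn S R := by
  obtain ⟨f, hf⟩ := isConj_iff.1 h
  have hK : IsSylowIn p (autInducedBy S R ⊓ ⊤) (F.autGroup R ⊓ ⊤) := by
    simpa using (isFullyAutomized_iff.1 hA).2
  obtain ⟨χ, hχ, f', hf', e⟩ := exists_KExtension hS hR hK hf ⊤ fun _ _ => trivial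
  have hle : normalizerIn S P ≤ P ⊔ NK S P ⊤ := by rw [NK_top]; exact le_sup_right
  have himg : img f' P = R := by
    rw [img_congr e]
    exact (hf.trans (isIso_autFn hR.1 hχ.1)).2
  exact ⟨f', hf'.mono hle, himg, fun g hg =>
    map_normalizerIn (hf'.mono hle) (le_normalizerIn hf.le_left) himg hg hg⟩

theorem fullyNormalized_of_far [Finite S] {p : ℕ} [Fact p.Prime] (hS : IsPGroup p S)
    {R : Subgroup Ω} (hA : F.IsFullyAutomized p R) (hR : F.IsReceptive R) :
    F.IsFullyNormalized R := by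
  refine ⟨hR.1, fun Q hQ => ?_⟩
  obtain ⟨f, hf, -, hfN⟩ := exists_normalizer_map hS hA hR (isConj_symm hQ)
  rw [← hf.card_img le_rfl]
  have := finite_of_le (S := S) (P := normalizerIn S R) inf_le_left
  exact Subgroup.card_le_of_le (hf.img_le le_rfl hfN)

theorem receptive_of_fullyCentralized [Finite S] {p : ℕ} [Fact p.Prime] (hS : IsPGroup p S)
    (hF : F.IsSaturated p) {Q : Subgroup Ω} (hQ : F.IsFullyCentralized Q) :
    F.IsReceptive Q := by
  obtain ⟨R, hQR, hA, hR⟩ := hF Q hQ.1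
  obtain ⟨f, hf, hfQ, hfN⟩ := exists_normalizer_map hS hA hR hQR
  have hQN : Q ≤ normalizerIn S Q := le_normalizerIn hQ.1
  have hC := centralizerIn_le_normalizerIn S Q
  have hCR : img f (centralizerIn S Q) = centralizerIn S R := by
    refine eq_of_le_of_card inf_le_left
      (hf.img_le hC fun g hg => map_centralizerIn hf hQN hfQ (hC hg) hg) ?_
    rw [hf.card_img hC]
    exact hQ.2 R hQR
  obtain ⟨inv, hinv, hinvf, hfinv⟩ := hf.isIso.symm
  refine isReceptive_iff.2 ⟨hQ.1, fun P φ hφ => ?_⟩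
  have hQf : IsIso F Q R f := ⟨hf.mono hQN, hfQ⟩
  obtain ⟨χ, hχ, e⟩ := (isReceptive_iff.1 hR).2 P _ (hφ.trans hQf)
  have hle : Nx S P φ ≤ Nx S P (fun x => f (φ x)) := by
    intro g hg
    obtain ⟨hgN, h, hh, hgh⟩ := mem_Nx.1 hg
    have hhN : h ∈ normalizerIn S Q := by
      have := finite_of_le hQ.1
      refine mem_normalizerIn_of_conj hh fun y hy => ?_
      obtain ⟨x, hx, rfl⟩ := hφ.exists_eq hy
      rw [← hgh x hx]
      exact hφ.mem (normalizerIn_conj hgN hx)
    refine mem_Nx.2 ⟨hgN, f h, hf.mem hhN, fun x hx => ?_⟩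
    show f (φ (g * x * g⁻¹)) = _
    rw [hgh x hx, hf.map_conj hhN (hQN (hφ.mem hx))]
  have himg : ∀ g ∈ Nx S P φ, χ g ∈ img f (normalizerIn S Q) := by
    intro g hg
    obtain ⟨hgN, h, hh, hgh⟩ := mem_Nx.1 hg
    have hhN : h ∈ normalizerIn S Q := by
      have := finite_of_le hQ.1
      refine mem_normalizerIn_of_conj hh fun y hy => ?_
      obtain ⟨x, hx, rfl⟩ := hφ.exists_eq hy
      rw [← hgh x hx]
      exact hφ.mem (normalizerIn_conj hgN hx)
    have hc : (f h)⁻¹ * χ g ∈ centralizerIn S R := by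
      refine mem_centralizerIn_of_conj (S.mul_mem (S.inv_mem (hf.mem hhN)) (hχ.mem (hle hg))) fun y hy => ?_
      obtain ⟨x, hx, rfl⟩ := (hφ.trans hQf).exists_eq hy
      have hxN : x ∈ Nx S P (fun x => f (φ x)) := le_Nx (hφ.trans hQf).1 hx
      have h1 : χ g * f (φ x) * (χ g)⁻¹ = f h * f (φ x) * (f h)⁻¹ := by
        have h2 : χ (g * x * g⁻¹) = f (φ (g * x * g⁻¹)) := e _ (normalizerIn_conj hgN hx)
        rw [hχ.map_conj (hle hg) hxN, e x hx, hgh x hx,
          hf.map_conj hhN (hQN (hφ.mem hx))] at h2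
        exact h2
      calc (f h)⁻¹ * χ g * f (φ x) * ((f h)⁻¹ * χ g)⁻¹
          = (f h)⁻¹ * (χ g * f (φ x) * (χ g)⁻¹) * f h := by group
        _ = f (φ x) := by rw [h1]; group
    rw [← hCR] at hc
    obtain ⟨c, hc, hcf⟩ := (hf.mem_img_iff hC).1 hc
    have : χ g = f (h * c) := by
      rw [hf.map_mul hhN (hC hc), hcf]
      group
    rw [this]
    exact hf.mem_img (mul_mem hhN (hC hc))
  refine ⟨fun g => inv (χ g), (hχ.mono hle).comp hinv.1 himg, fun x hx => ?_⟩
  show inv (χ x) = φ x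
  rw [e x hx]
  exact hinvf _ (hQN (hφ.mem hx))

theorem exists_fullyNormalized [Finite S] (F : FusionSystem S) {P : Subgroup Ω} (hP : P ≤ S) :
    ∃ R, F.IsConj P R ∧ F.IsFullyNormalized R := by
  let C := {R : Subgroup Ω // F.IsConj P R}
  have : Finite C := Finite.of_injective (fun R : C => R.1.subgroupOf S) fun R R' h => by
    apply Subtype.ext
    have h' : R.1.subgroupOf S = R'.1.subgroupOf S := h
    rw [← Subgroup.map_subgroupOf_eq_of_le (isConj_le R.2).2, h',
      Subgroup.map_subgroupOf_eq_of_le (isConj_le R'.2).2]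
  have : Nonempty C := ⟨⟨P, isConj_refl F hP⟩⟩
  obtain ⟨R, hR⟩ := Finite.exists_max (fun R : C => Nat.card (normalizerIn S R.1))
  exact ⟨R.1, R.2, (isConj_le R.2).2, fun Q hQ => hR ⟨Q, isConj_trans R.2 hQ⟩⟩

theorem fullyK_spec [Finite S] {p : ℕ} [Fact p.Prime] (hS : IsPGroup p S)
    (hF : F.IsSaturated p) {Q : Subgroup Ω} {K : Subgroup (MulAut Q)} (hQ : IsFullyK F Q K) :
    F.IsReceptive Q ∧ IsSylowIn p (autInducedBy S Q ⊓ K) (F.autGroup Q ⊓ K) := by
  obtain ⟨R, hQR, hA, hR⟩ := hF Q hQ.1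
  obtain ⟨f, hf⟩ := isConj_iff.1 hQR
  have := finite_mulAut hR.1
  have := finite_mulAut hQ.1
  obtain ⟨U, hU⟩ := exists_isSylowIn p (F.autGroup R ⊓ transK hf K)
  obtain ⟨a, ha, haU⟩ := (isFullyAutomized_iff.1 hA).2.exists_conj_le hU.isPGroup
    (hU.le.trans inf_le_left)
  have hf' : IsIso F Q R (fun x => autFn a (f x)) := hf.trans (isIso_autFn hR.1 ha)
  have hcongr : ∀ α : MulAut Q,
      MulAut.congr hf'.equiv α = a * MulAut.congr hf.equiv α * a⁻¹ := by
    intro α
    refine MulEquiv.ext fun y => Subtype.ext ?_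
    obtain ⟨x, rfl⟩ := hf'.equiv.surjective y
    rw [congr_apply_coe]
    have hinv : a⁻¹ (hf'.equiv x) = hf.equiv x := by
      have : hf'.equiv x = a (hf.equiv x) :=
        Subtype.ext (autFn_apply a (hf.mem x.2))
      rw [this, MulAut.inv_apply_self]
    rw [MulAut.mul_apply, MulAut.mul_apply, hinv, autFn_apply a (hf.mem (α x).2)]
    exact congrArg (fun y : R => ((a y : R) : Ω))
      (Subtype.ext (congr_apply_coe hf α x).symm)
  -- the transported subgroup has a Sylow subgroup inside `Aut_S(R)`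
  set K' := transK hf' K with hK'
  have hUK : U.map (MulAut.conj a).toMonoidHom ≤ autInducedBy S R ⊓ K' := by
    rintro _ ⟨u, hu, rfl⟩
    refine ⟨haU u hu, ?_⟩
    obtain ⟨α, hα, rfl⟩ := (hU.le hu).2
    exact ⟨α, hα, hcongr α⟩
  have hAK : (F.autGroup R ⊓ transK hf K).map (MulAut.conj a).toMonoidHom =
      F.autGroup R ⊓ K' := by
    ext β
    constructor
    · rintro ⟨γ, ⟨hγ, α, hα, rfl⟩, rfl⟩
      exact ⟨mul_mem (mul_mem ha hγ) (Subgroup.inv_mem _ ha), α, hα, hcongr α⟩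
    · rintro ⟨hβ, α, hα, rfl⟩
      refine ⟨MulAut.congr hf.equiv α, ⟨?_, α, hα, rfl⟩, (hcongr α).symm⟩
      have : MulAut.congr hf.equiv α = a⁻¹ * (MulAut.congr hf'.equiv α) * a := by
        rw [hcongr]; group
      rw [this]
      exact mul_mem (mul_mem (Subgroup.inv_mem _ ha) hβ) ha
  have hSylR : IsSylowIn p (autInducedBy S R ⊓ K') (F.autGroup R ⊓ K') := by
    have h1 := hU.map (MulAut.conj a)
    rw [hAK] at h1
    refine h1.of_card_ge (isPGroup_autInducedBy hS).to_inf_left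
      (inf_le_inf_right _ (autInducedBy_le_autGroup F le_rfl hR.1)) ?_
    exact Subgroup.card_le_of_le hUK
  -- compare cardinalities
  have hmain := hQ.2 R _ hf'
  rw [card_NK, card_NK, ← hK'] at hmain
  have hc := centralizerIn_card_le_of_receptive hR hf
  set T := (autInducedBy S Q ⊓ K : Subgroup (MulAut Q)).map (MulAut.congr hf'.equiv).toMonoidHom
  have hT : IsPGroup p T := (isPGroup_autInducedBy hS).to_inf_left.map _
  have hTle : T ≤ F.autGroup R ⊓ K' := by
    rintro _ ⟨α, hα, rfl⟩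
    exact ⟨congr_mem_autGroup hf' (autInducedBy_le_autGroup F le_rfl hQ.1 hα.1), α, hα.2, rfl⟩
  have hs := hSylR.card_ge hT hTle
  have hTcard : Nat.card T = Nat.card (autInducedBy S Q ⊓ K : Subgroup (MulAut Q)) :=
    Subgroup.card_map_of_injective (MulAut.congr hf'.equiv).injective
  have hcpos : 0 < Nat.card (centralizerIn S R) := by
    have := finite_of_le (S := S) (P := centralizerIn S R) inf_le_left
    exact Nat.card_pos
  have hspos : 0 < Nat.card T := Nat.card_pos
  have hc' : Nat.card (centralizerIn S R) ≤ Nat.card (centralizerIn S Q) := by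
    rw [← hTcard] at hmain
    by_contra hlt
    nlinarith
  have hs' : Nat.card (autInducedBy S R ⊓ K' : Subgroup (MulAut R)) ≤ Nat.card T := by
    rw [← hTcard] at hmain
    by_contra hlt
    nlinarith
  refine ⟨receptive_of_fullyCentralized hS hF ⟨hQ.1, fun X hX => ?_⟩, ?_⟩
  · exact ((fullyCentralized_of_receptive hR).2 X (isConj_trans (isConj_symm hQR) hX)).trans hc'
  · have h2 : IsSylowIn p T (F.autGroup R ⊓ K') := hSylR.of_card_ge hT hTle hs'
    have h3 := h2.map (MulAut.congr hf'.equiv).symm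
    convert h3 using 1
    · rw [Subgroup.map_map]
      exact (Subgroup.map_id _).symm.trans (congrArg (Subgroup.map · _)
        (MonoidHom.ext fun α => ((MulAut.congr hf'.equiv).symm_apply_apply α).symm))
    · rw [hK', transK, ← map_autGroup hf', ← Subgroup.map_inf _ _ _
        (MulAut.congr hf'.equiv).injective, Subgroup.map_map]
      exact (Subgroup.map_id _).symm.trans (congrArg (Subgroup.map · _)
        (MonoidHom.ext fun α => ((MulAut.congr hf'.equiv).symm_apply_apply α).symm))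

theorem fullyAutomized_of_fullyNormalized [Finite S] {p : ℕ} [Fact p.Prime] (hS : IsPGroup p S)
    (hF : F.IsSaturated p) {Q : Subgroup Ω} (hQ : F.IsFullyNormalized Q) :
    F.IsFullyAutomized p Q :=
  isFullyAutomized_iff.2 ⟨hQ.1, by
    simpa using (fullyK_spec hS hF (isFullyK_top_iff.2 hQ)).2⟩

theorem receptive_of_fullyNormalized [Finite S] {p : ℕ} [Fact p.Prime] (hS : IsPGroup p S)
    (hF : F.IsSaturated p) {Q : Subgroup Ω} (hQ : F.IsFullyNormalized Q) :
    F.IsReceptive Q :=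
  (fullyK_spec hS hF (isFullyK_top_iff.2 hQ)).1

theorem fullyCentralized_of_fullyNormalized [Finite S] {p : ℕ} [Fact p.Prime] (hS : IsPGroup p S)
    (hF : F.IsSaturated p) {Q : Subgroup Ω} (hQ : F.IsFullyNormalized Q) :
    F.IsFullyCentralized Q :=
  fullyCentralized_of_receptive (receptive_of_fullyNormalized hS hF hQ)

theorem exists_fullyNormalized_map [Finite S] {p : ℕ} [Fact p.Prime] (hS : IsPGroup p S)
    (hF : F.IsSaturated p) {P : Subgroup Ω} (hP : P ≤ S) :
    ∃ R f, F.IsFullyNormalized R ∧ IsMap F (normalizerIn S P) f ∧ img f P = R ∧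
      ∀ g ∈ normalizerIn S P, f g ∈ normalizerIn S R := by
  obtain ⟨R, hR, hA, hRc⟩ := hF P hP
  obtain ⟨f, hf, h1, h2⟩ := exists_normalizer_map hS hA hRc hR
  exact ⟨R, f, fullyNormalized_of_far hS hA hRc, hf, h1, h2⟩

theorem centric_of_fullyCentralized [Finite S] {P : Subgroup Ω} (hP : F.IsFullyCentralized P)
    (hC : centralizerIn S P ≤ P) : F.IsCentric P := by
  refine ⟨hP.1, fun Q hQ => ?_⟩
  obtain ⟨f, hf⟩ := isConj_iff.1 hQ
  have h1 : img f (centralizerIn S P) ≤ centralizerIn S Q := hf.1.img_le hC fun g hg =>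
    map_centralizerIn hf.1 le_rfl hf.2 (hC hg) hg
  have h2 : img f (centralizerIn S P) = centralizerIn S Q := by
    refine eq_of_le_of_card inf_le_left h1 ?_
    rw [hf.1.card_img hC]
    exact hP.2 Q hQ
  rw [← h2]
  exact hf.1.img_le hC fun g hg => hf.mem (hC hg)

theorem normalizerIn_self (S : Subgroup Ω) : normalizerIn S S = S :=
  le_antisymm inf_le_left (le_normalizerIn le_rfl)

theorem lt_normalizerIn [Finite S] {p : ℕ} [Fact p.Prime] (hS : IsPGroup p S) {P M : Subgroup Ω}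
    (hM : M ≤ S) (hP : P < M) : P < normalizerIn M P := by
  have := finite_of_le hM
  have : Group.IsNilpotent M := (hS.to_le hM).isNilpotent
  have hlt : P.subgroupOf M < ⊤ :=
    lt_top_iff_ne_top.2 fun h => hP.not_ge (Subgroup.subgroupOf_eq_top.1 h)
  have := Group.normalizerCondition_of_isNilpotent (G := M) _ hlt
  refine lt_of_le_of_ne (le_normalizerIn hP.le) fun he => this.not_ge fun g hg => ?_
  show (g : Ω) ∈ P
  rw [he]
  refine mem_normalizerIn.2 ⟨g.2, fun x => ⟨fun hx => ?_, fun hx => ?_⟩⟩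
  · exact (Subgroup.mem_normalizer_iff.1 hg ⟨x, hP.le hx⟩).1 hx
  · have hxM : x ∈ M := by
      have := mul_mem (mul_mem (inv_mem g.2) (hP.le hx)) g.2
      simpa [mul_assoc] using this
    exact (Subgroup.mem_normalizer_iff.1 hg ⟨x, hxM⟩).2 hx

end Cfsg.Agent.Fusion
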