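import Cfsg.Agent.Lib.Fusion.Criterion
import Cfsg.Agent.Lib.Fusion.Group
import Cfsg.Agent.Lib.FusionChain.Radical
import Cfsg.Agent.Lib.StrongPEmb.Basic

/-
Essential subgroups and the Alperin-Goldschmidt theorem.
Main results: `ExtUp`, `upGroup`, `extUp_of_conj`, `exists_conj_of_extUp`, `dichotomy`,
`radical_of_essential`, `alperin_essential`, `eq_inner_of_no_essential`.
-/

set_option autoImplicit false

namespace Cfsg.Agent.Fusion

open Cfsg Cfsg.FusionSystem

variable {Ω : Type*} [Group Ω] {S : Subgroup Ω} {F : FusionSystem S}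

/-- The automorphism extends to a strictly larger subgroup. -/
def ExtUp (F : FusionSystem S) (P : Subgroup Ω) (α : MulAut P) : Prop :=
  ∃ (Q : Subgroup Ω) (_ : P < Q) (f : Ω → Ω), IsMap F Q f ∧ ∀ x ∈ P, f x = autFn α x

/-- The group generated by the automorphisms extending to larger subgroups. -/
def upGroup (F : FusionSystem S) (P : Subgroup Ω) : Subgroup (MulAut P) :=
  Subgroup.closure {α | ExtUp F P α}

theorem upGroup_le_autGroup {P : Subgroup Ω} (hP : P ≤ S) : upGroup F P ≤ F.autGroup P := by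
  refine (Subgroup.closure_le _).2 ?_
  rintro α ⟨Q, hQ, f, hf, e⟩
  exact (mem_autGroup_iff hP).2 ((hf.mono hQ.le).congr e)

theorem extUp_set_eq (F : FusionSystem S) (P : Subgroup Ω) :
    {α : MulAut P | ∃ (Q : Subgroup Ω) (hPQ : P < Q) (φ : Q →* Ω), φ ∈ F.Hom Q ∧
      ∀ x : P, φ (Subgroup.inclusion hPQ.le x) = α x} = {α | ExtUp F P α} := by
  ext α
  constructor
  · rintro ⟨Q, hQ, φ, hφ, e⟩
    refine ⟨Q, hQ, toFn φ, isMap_toFn hφ, fun x hx => ?_⟩
    rw [toFn_apply φ (hQ.le hx), autFn_apply α hx]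
    exact e ⟨x, hx⟩
  · rintro ⟨Q, hQ, f, ⟨φ, hφ, hf⟩, e⟩
    refine ⟨Q, hQ, φ, hφ, fun x => ?_⟩
    exact (hf _ _).trans ((e x x.2).trans (autFn_apply α x.2))

theorem extUp_of_autS {p : ℕ} [Finite S] [Fact p.Prime] (hS : IsPGroup p S) {P : Subgroup Ω}
    (hPS : P < S) {t : MulAut P} (ht : t ∈ autInducedBy S P) : ExtUp F P t := by
  obtain ⟨g, hg, e⟩ := mem_autInducedBy_iff.1 ht
  refine ⟨normalizerIn S P, lt_normalizerIn hS le_rfl hPS, fun x => g * x * g⁻¹,
    IsMap.conj inf_le_left hg, fun x hx => ?_⟩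
  rw [autFn_apply t hx]
  exact (e ⟨x, hx⟩).symm

theorem autS_le_upGroup {p : ℕ} [Finite S] [Fact p.Prime] (hS : IsPGroup p S) {P : Subgroup Ω}
    (hPS : P < S) : autInducedBy S P ≤ upGroup F P :=
  fun _ ht => Subgroup.subset_closure (extUp_of_autS hS hPS ht)

theorem autGroup_le_upGroup_of_not_centric [Finite S] {P : Subgroup Ω} (hr : F.IsReceptive P)
    (hC : ¬ centralizerIn S P ≤ P) : F.autGroup P ≤ upGroup F P := by
  intro α hα
  obtain ⟨f, hf, e⟩ := FusionChain.exists_extension hr hα (centralizerIn_le_normalizerIn S P)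
    fun c hc => by
      rw [(normConj_eq_one_iff _).2 hc, mul_one, mul_inv_cancel]
      exact Subgroup.one_mem _
  exact Subgroup.subset_closure ⟨_, left_lt_sup.2 hC, f, hf, e⟩

/-- In a centric subgroup: an automorphism moving a noninner element of `Aut_S` into `Aut_S` extends. -/
theorem extUp_of_conj [Finite S] {P : Subgroup Ω} (hr : F.IsReceptive P) {α : MulAut P}
    (hα : α ∈ F.autGroup P) {t : MulAut P} (ht : t ∈ autInducedBy S P) (hti : t ∉ Cfsg.Inn P)
    (hc : α * t * α⁻¹ ∈ autInducedBy S P) : ExtUp F P α := by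
  obtain ⟨g, hg, e⟩ := mem_autInducedBy_iff.1 ht
  have hgN := mem_normalizerIn_of_aut hg e
  have hgP : g ∉ P := fun hgP => hti ⟨⟨g, hgP⟩, MulEquiv.ext fun x => Subtype.ext (e x).symm⟩
  have ht' : normConj S P ⟨g, hgN⟩ = t := MulEquiv.ext fun x => Subtype.ext (e x).symm
  -- the elements moved into `Aut_S` by `α` form a subgroup
  set M : Subgroup Ω := (((autInducedBy S P).comap (MulAut.conj α).toMonoidHom).comap
    (normConj S P)).map (normalizerIn S P).subtype with hM
  have hgM : g ∈ M := ⟨⟨g, hgN⟩, show MulAut.conj α _ ∈ autInducedBy S P by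
    rw [MulAut.conj_apply, ht']; exact hc, rfl⟩
  obtain ⟨f, hf, hfe⟩ := FusionChain.exists_extension (M := M) hr hα (Subgroup.map_subtype_le _)
    fun x hx => by
      obtain ⟨y, hy, rfl⟩ := hx
      exact hy
  exact ⟨_, left_lt_sup.2 fun h => hgP (h hgM), f, hf, hfe⟩

theorem exists_conj_of_extUp [Finite S] {p : ℕ} [Fact p.Prime] (hS : IsPGroup p S) {P : Subgroup Ω}
    (hPS : P ≤ S) (hC : centralizerIn S P ≤ P) {α : MulAut P} (h : ExtUp F P α) :
    ∃ t ∈ autInducedBy S P, t ∉ Cfsg.Inn P ∧ α * t * α⁻¹ ∈ autInducedBy S P := by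
  obtain ⟨Q, hQ, f, hf, e⟩ := h
  obtain ⟨g, hg, hgP⟩ := SetLike.exists_of_lt (lt_normalizerIn hS hf.le hQ)
  have hgN : g ∈ normalizerIn S P := ⟨hf.le hg.1, hg.2⟩
  refine ⟨normConj S P ⟨g, hgN⟩, (range_normConj S P).le ⟨_, rfl⟩, fun hi => hgP ?_,
    mem_autInducedBy_iff.2 ⟨f g, hf.mem hg.1, fun y => ?_⟩⟩
  · exact FusionChain.mem_of_conj_mem_inn hC hgN.1 hPS hi fun x => rfl
  · obtain ⟨x, rfl⟩ := α.surjective y
    rw [MulAut.mul_apply, MulAut.mul_apply, MulAut.inv_apply_self, ← autFn_apply α x.2, ← e x x.2,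
      ← hf.map_conj hg.1 (hQ.le x.2), ← autFn_apply α (normConj S P ⟨g, hgN⟩ x).2,
      ← e _ (normConj S P ⟨g, hgN⟩ x).2]
    rfl

theorem inn_subgroupOf_normal (F : FusionSystem S) (P : Subgroup Ω) :
    ((Cfsg.Inn P).subgroupOf (F.autGroup P)).Normal :=
  (Cfsg.innNormal P).subgroupOf _

/-- The dichotomy for proper fully normalized subgroups. -/
theorem dichotomy [Finite S] {p : ℕ} [Fact p.Prime] (hS : IsPGroup p S) (hF : F.IsSaturated p)
    {P : Subgroup Ω} (hPS : P < S) (hPn : F.IsFullyNormalized P) :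
    (¬ F.IsEssential p P ∧ upGroup F P = F.autGroup P) ∨
    (F.IsEssential p P ∧ ∃ _ : ((Cfsg.Inn P).subgroupOf (F.autGroup P)).Normal,
      Cfsg.IsStronglyPEmbedded p (((upGroup F P).subgroupOf (F.autGroup P)).map
        (QuotientGroup.mk' ((Cfsg.Inn P).subgroupOf (F.autGroup P))))) := by
  have hr := receptive_of_fullyNormalized hS hF hPn
  have hA := (isFullyAutomized_iff.1 (fullyAutomized_of_fullyNormalized hS hF hPn)).2
  have hle : upGroup F P ≤ F.autGroup P := upGroup_le_autGroup hPn.1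
  by_cases hC : centralizerIn S P ≤ P
  swap
  · exact .inl ⟨fun he => hC (he.1.2 P (isConj_refl F hPn.1)),
      le_antisymm hle (autGroup_le_upGroup_of_not_centric hr hC)⟩
  have := finite_mulAut hPn.1
  have hI := inn_subgroupOf_normal F P
  set A := F.autGroup P
  set T := autInducedBy S P
  set π := QuotientGroup.mk' ((Cfsg.Inn P).subgroupOf A)
  have hsurj : Function.Surjective π := QuotientGroup.mk'_surjective _
  have hker : ∀ a : A, π a = 1 ↔ (a : MulAut P) ∈ Cfsg.Inn P := fun a => by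
    rw [← MonoidHom.mem_ker, QuotientGroup.ker_mk', Subgroup.mem_subgroupOf]
  have hIT : Cfsg.Inn P ≤ T := inn_le_autInducedBy hPn.1
  have hTH : T ≤ upGroup F P := autS_le_upGroup hS hPS
  obtain ⟨R, hR⟩ := (isSylowIn_iff_exists hA.le).1 hA
  set R' : Sylow p (A ⧸ (Cfsg.Inn P).subgroupOf A) := R.mapSurjective hsurj
  have hR' : (R' : Subgroup _) = (T.subgroupOf A).map π := by
    rw [Sylow.coe_mapSurjective, hR]
  -- a noninner element of `Aut_S(P)`
  obtain ⟨g, hg, hgP⟩ := SetLike.exists_of_lt (lt_normalizerIn hS le_rfl hPS)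
  have hgi : normConj S P ⟨g, hg⟩ ∉ Cfsg.Inn P := fun hi =>
    hgP (FusionChain.mem_of_conj_mem_inn hC hg.1 hPn.1 hi fun x => rfl)
  have hdvd : p ∣ Nat.card (A ⧸ (Cfsg.Inn P).subgroupOf A) := by
    refine dvd_trans ?_ (Subgroup.card_subgroup_dvd_card (R' : Subgroup _))
    refine (R'.isPGroup'.card_eq_or_dvd).resolve_left fun h1 => hgi ?_
    have hmem : π ⟨normConj S P ⟨g, hg⟩, hA.le ((range_normConj S P).le ⟨_, rfl⟩)⟩ ∈
        (R' : Subgroup _) := by
      rw [hR']
      exact ⟨_, show normConj S P ⟨g, hg⟩ ∈ T from (range_normConj S P).le ⟨_, rfl⟩, rfl⟩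
    rw [Subgroup.eq_bot_of_card_eq _ h1, Subgroup.mem_bot, hker] at hmem
    exact hmem
  set H := (upGroup F P).subgroupOf A
  have hmapH : (H.map π).comap π = H := by
    refine Subgroup.comap_map_eq_self fun a ha => ?_
    exact hTH (hIT ((hker a).1 ha))
  by_cases hHA : upGroup F P = A
  · refine .inl ⟨fun he => ?_, hHA⟩
    obtain ⟨-, -, _, E, hE⟩ := he
    obtain ⟨R₁, hR₁⟩ := StrongPEmb.exists_sylow_le hE
    obtain ⟨a, ha⟩ := MulAction.exists_smul_eq (A ⧸ (Cfsg.Inn P).subgroupOf A) R' R₁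
    refine hE.2.1 (eq_top_iff.2 fun q _ => ?_)
    have hconjT : ∀ t : A, (t : MulAut P) ∈ T → a * π t * a⁻¹ ∈ E := fun t ht => by
      have h1 : π t ∈ (R' : Subgroup _) := hR'.ge ⟨t, ht, rfl⟩
      have h2 : MulAut.conj a • π t ∈ ((a • R' : Sylow p _) : Subgroup _) :=
        Subgroup.smul_mem_pointwise_smul (π t) (MulAut.conj a) (R' : Subgroup _) h1
      rw [ha] at h2
      exact hR₁ h2
    have hsub : upGroup F P ≤ (E.comap ((MulAut.conj a).toMonoidHom.comp π)).map A.subtype := by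
      refine (Subgroup.closure_le _).2 fun α hα => ?_
      obtain ⟨t, ht, hti, hc⟩ := exists_conj_of_extUp hS hPn.1 hC hα
      have hαA : α ∈ A := hle (Subgroup.subset_closure hα)
      refine ⟨⟨α, hαA⟩, ?_, rfl⟩
      show a * π ⟨α, hαA⟩ * a⁻¹ ∈ E
      set x := a * π ⟨t, hA.le ht⟩ * a⁻¹ with hx
      have hx1 : x ≠ 1 := fun h => hti ((hker _).1 (by
        rw [hx, mul_inv_eq_one, mul_eq_left] at h
        exact h))
      obtain ⟨k, hk⟩ := (R'.isPGroup'.map (MulAut.conj a).toMonoidHom)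
        ⟨x, π ⟨t, hA.le ht⟩, hR'.ge ⟨_, ht, rfl⟩, rfl⟩
      have hk' : orderOf x ∣ p ^ k := orderOf_dvd_of_pow_eq_one (congrArg Subtype.val hk)
      obtain ⟨j, -, hj⟩ := (Nat.dvd_prime_pow Fact.out).1 hk'
      have hj0 : 0 < j := Nat.pos_of_ne_zero fun h => hx1 (orderOf_eq_one_iff.1 (by simp [hj, h]))
      set y := x ^ p ^ (j - 1)
      have hy : orderOf y = p := by
        rw [orderOf_pow' _ (pow_ne_zero _ (Fact.out : p.Prime).ne_zero), hj,
          Nat.gcd_eq_right (pow_dvd_pow p (Nat.sub_le j 1)),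
          Nat.pow_div (Nat.sub_le j 1) (Fact.out : p.Prime).pos, Nat.sub_sub_self hj0, pow_one]
      refine StrongPEmb.mem_of_conj_mem hE hy (E.pow_mem (hconjT _ ht) _) ?_
      have hz := hconjT (⟨α, hαA⟩ * ⟨t, hA.le ht⟩ * ⟨α, hαA⟩⁻¹) hc
      have e : a * π (⟨α, hαA⟩ * ⟨t, hA.le ht⟩ * ⟨α, hαA⟩⁻¹) * a⁻¹ =
          (a * π ⟨α, hαA⟩ * a⁻¹) * x * (a * π ⟨α, hαA⟩ * a⁻¹)⁻¹ := by
        rw [map_mul, map_mul, map_inv, hx]
        group
      rw [e] at hz
      rw [← conj_pow]
      exact E.pow_mem hz _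
    obtain ⟨b, rfl⟩ := hsurj (a⁻¹ * q * a)
      |>.imp (fun b (hb : π b = _) => (show a * π b * a⁻¹ = q by rw [hb]; group))
    obtain ⟨b', hb', e⟩ := hsub (hHA.ge b.2)
    obtain rfl : b' = b := Subtype.ext e
    exact hb'
  · have hSP : Cfsg.IsStronglyPEmbedded p (H.map π) := by
      refine (StrongPEmb.isStronglyPEmbedded_iff_forall _).2 ⟨hdvd, fun htop => hHA ?_, R', ?_⟩
      · refine le_antisymm hle fun α hα => ?_
        have : (⟨α, hα⟩ : A) ∈ (H.map π).comap π := by rw [htop]; trivial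
        rw [hmapH] at this
        exact this
      · intro Q hQR hQ n hn
        obtain ⟨α, rfl⟩ := hsurj n
        obtain ⟨q, hq, hq1⟩ := Q.ne_bot_iff_exists_ne_one.1 hQ |> fun ⟨x, hx⟩ =>
          (⟨(x : _), x.2, fun h => hx (Subtype.ext h)⟩ : ∃ q ∈ Q, q ≠ 1)
        obtain ⟨t, ht, rfl⟩ := hR'.le (hQR hq)
        refine Subgroup.mem_map_of_mem π (show (α : MulAut P) ∈ upGroup F P from ?_)
        refine Subgroup.subset_closure (extUp_of_conj hr α.2 ht (fun h => hq1 ((hker t).2 h)) ?_)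
        obtain ⟨t', ht', e⟩ := hR'.le (hQR ((Subgroup.mem_normalizer_iff.1 hn _).1 hq))
        rw [← map_inv, ← map_mul, ← map_mul] at e
        have h2 : ((t'⁻¹ * (α * t * α⁻¹) : A) : MulAut P) ∈ T := hIT ((hker _).1 (by
          rw [map_mul, map_inv, e, inv_mul_cancel]))
        have h3 := T.mul_mem ht' h2
        simpa using h3
    exact .inr ⟨⟨centric_of_fullyCentralized (fullyCentralized_of_receptive hr) hC, hPn, hI,
      _, hSP⟩, hI, hSP⟩

/-- Essential subgroups are radical. -/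
theorem radical_of_essential [Finite S] {p : ℕ} [Fact p.Prime] (hS : IsPGroup p S)
    {P : Subgroup Ω} (hP : F.IsEssential p P) : F.IsRadical p P := by
  obtain ⟨hc, -, hI, E, hE⟩ := hP
  have := finite_mulAut hc.1
  refine ⟨hc.1, le_antisymm ?_ (FusionChain.inn_le_pCoreAut hS hc.1)⟩
  set π := QuotientGroup.mk' ((Cfsg.Inn P).subgroupOf (F.autGroup P))
  set U := (Cfsg.pCore p (F.autGroup P)).map π
  have hn : (Cfsg.pCore p (F.autGroup P)).Normal := Subgroup.sSup_normal _ fun _ h => h.1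
  have hUp : IsPGroup p U := (Sylow.sSup_of_normal
    {N : Subgroup (F.autGroup P) | N.Normal ∧ IsPGroup p N} (fun _ h => h.2) (fun _ h => h.1)).map π
  have : U.Normal := hn.map π (QuotientGroup.mk'_surjective _)
  have hU : U = ⊥ := by
    by_contra hne
    obtain ⟨R, hR⟩ := StrongPEmb.exists_sylow_le hE
    refine hE.2.1 (eq_top_iff.2 ?_)
    rw [← Subgroup.normalizer_eq_top U]
    exact StrongPEmb.normalizer_le hE hUp hne ((hUp.le_sylow_of_normal R).trans hR)
  rintro _ ⟨a, ha, rfl⟩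
  have : π a = 1 := Subgroup.mem_bot.1 (hU ▸ Subgroup.mem_map_of_mem π ha)
  rw [← MonoidHom.mem_ker, QuotientGroup.ker_mk'] at this
  exact this

/-- Alperin's theorem: induction over `S` and the essential subgroups. -/
theorem alperin_essential [Finite S] {p : ℕ} [Fact p.Prime] (hS : IsPGroup p S)
    (hF : F.IsSaturated p) (M : Subgroup Ω → (Ω → Ω) → Prop)
    (hcongr : ∀ P f g, IsMap F P f → M P f → (∀ x ∈ P, f x = g x) → M P g)
    (hmono : ∀ P P' f, IsMap F P f → P' ≤ P → M P f → M P' f)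
    (hcomp : ∀ P P' f g, IsMap F P f → IsMap F P' g → (∀ x ∈ P, f x ∈ P') → M P f → M P' g →
      M P (fun x => g (f x)))
    (hbase : ∀ R : Subgroup Ω, (R = S ∨ F.IsEssential p R) →
      ∀ α ∈ F.autGroup R, M R (autFn α))
    {P : Subgroup Ω} {f : Ω → Ω} (hf : IsMap F P f) : M P f := by
  refine FusionChain.alperin_induction hS hF M hcongr hmono hcomp
    (fun R hn _ _ α hα big => ?_) hf
  rcases eq_or_lt_of_le hn.1 with rfl | hlt
  · exact hbase R (.inl rfl) α hα
  rcases dichotomy hS hF hlt hn with ⟨-, hH⟩ | ⟨he, -⟩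
  swap
  · exact hbase R (.inr he) α hα
  have := finite_mulAut hn.1
  have hmem : α ∈ Submonoid.closure {β | ExtUp F R β} := by
    rw [← Subgroup.closure_toSubmonoid_of_finite]
    exact hH.ge hα
  clear hα
  suffices α ∈ F.autGroup R ∧ M R (autFn α) from this.2
  induction hmem using Submonoid.closure_induction with
  | mem β hβ =>
    obtain ⟨Q, hQ, g, hg, e⟩ := hβ
    refine ⟨(mem_autGroup_iff hn.1).2 ((hg.mono hQ.le).congr e),
      hcongr R g _ (hg.mono hQ.le) (hmono Q R g hg hQ.le (big Q g hg ?_)) e⟩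
    have := finite_of_le hg.le
    exact lt_of_le_of_ne (Subgroup.card_le_of_le hQ.le) fun h =>
      hQ.ne (Subgroup.eq_of_le_of_card_ge hQ.le h.ge)
  | one =>
    refine ⟨one_mem _, hcongr R _ _ ((isIso_autFn le_rfl (one_mem _)).1.mono hn.1)
      (hmono S R _ (isIso_autFn le_rfl (one_mem _)).1 hn.1 (hbase S (.inl rfl) 1 (one_mem _)))
      fun x hx => ?_⟩
    rw [autFn_apply _ hx, autFn_apply _ (hn.1 hx)]
    rfl
  | mul a b _ _ ha hb =>
    refine ⟨mul_mem ha.1 hb.1, hcongr R (fun x => autFn a (autFn b x)) _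
      ((isIso_autFn hn.1 hb.1).1.comp (isIso_autFn hn.1 ha.1).1 fun x hx => autFn_mem b hx)
      (hcomp R R _ _ (isIso_autFn hn.1 hb.1).1 (isIso_autFn hn.1 ha.1).1
        (fun x hx => autFn_mem b hx) hb.2 ha.2) fun x hx => ?_⟩
    rw [autFn_apply (a * b) hx, autFn_apply a (autFn_mem b hx), MulAut.mul_apply]
    exact congrArg (fun y : R => ((a y : R) : Ω)) (Subtype.ext (autFn_apply b hx))

theorem eq_inner_of_isPGroup_aut [Finite S] {p : ℕ} [Fact p.Prime] (hS : IsPGroup p S)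
    (hF : F.IsSaturated p) (h : ∀ P : Subgroup Ω, P ≤ S → IsPGroup p (F.autGroup P)) :
    F = innerFusionSystem S := by
  refine ext_of_le (le_of_isMap fun P f hf => ?_) (innerFusionSystem_le F)
  refine alperin_essential hS hF (fun P f => IsMap (innerFusionSystem S) P f)
    (fun _ _ _ _ h e => h.congr e) (fun _ _ _ _ hle h => h.mono hle)
    (fun _ _ _ _ _ _ hm h1 h2 => h1.comp h2 hm) (fun R hR α hα => ?_) hf
  rcases hR with rfl | he
  · have hsyl := (isFullyAutomized_iff.1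
      (fullyAutomized_of_fullyNormalized hS hF (isFullyNormalized_self F))).2
    have hαS : α ∈ autInducedBy R R := hsyl.2.2 _ hsyl.le le_rfl (h R le_rfl) ▸ hα
    obtain ⟨g, hg, e⟩ := mem_autInducedBy_iff.1 hαS
    exact isMap_inner_iff.2 ⟨le_rfl, g, hg, fun x hx => (autFn_apply α hx).trans (e ⟨x, hx⟩)⟩
  · exfalso
    obtain ⟨hc, -, hI, E, hE⟩ := id he
    have := finite_mulAut hc.1
    have hrad := radical_of_essential hS he
    have htop : Cfsg.pCore p (F.autGroup R) = ⊤ :=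
      top_le_iff.1 (le_sSup ⟨inferInstance, (h R hc.1).to_subgroup ⊤⟩)
    have hI' : (Cfsg.Inn R).subgroupOf (F.autGroup R) = ⊤ := by
      rw [← hrad.2, htop, Subgroup.subgroupOf, Subgroup.comap_map_eq_self_of_injective
        (Subgroup.subtype_injective _)]
    have := hE.1
    rw [Subgroup.card_eq_card_quotient_mul_card_subgroup (⊥ : Subgroup (F.autGroup R ⧸ _)),
      Subgroup.card_bot, mul_one, ← Subgroup.index] at this
    rw [Subgroup.index_bot, ← Subgroup.index, hI', Subgroup.index_top] at this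
    exact (Fact.out : p.Prime).ne_one (Nat.dvd_one.1 this)

end Cfsg.Agent.Fusion
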