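import Cfsg.Agent.Lib.Fusion.Essential

/-
Strongly closed and normal subgroups of a saturated system.
Main results: `stronglyClosed_iff`, `stronglyClosed_of_normal`, `normalizes_of_stronglyClosed`,
`le_radical_of_normal`, `isNormal_of_essentials`, `isNormal_of_stronglyClosed_le`,
`isNormal_of_chain`, `chain_of_normal`, `isNormal_of_extend`, `isNormal_of_central_series`,
`isCentral_iff`.
-/

set_option autoImplicit false

open scoped Pointwise

namespace Cfsg.Agent.Fusion

open Cfsg Cfsg.FusionSystem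

variable {Ω : Type*} [Group Ω] {S : Subgroup Ω} {F : FusionSystem S}

theorem stronglyClosed_iff {Q : Subgroup Ω} :
    F.StronglyClosed Q ↔
      Q ≤ S ∧ ∀ (P : Subgroup Ω) (f : Ω → Ω), IsMap F P f → ∀ x ∈ P, x ∈ Q → f x ∈ Q := by
  refine and_congr_right fun _ => ⟨fun h P f hf x hxP hxQ => ?_, fun h R hR φ hφ x => ?_⟩
  · obtain ⟨φ, hφ, e⟩ := hf.mono (inf_le_left : P ⊓ Q ≤ P)
    rw [← e x ⟨hxP, hxQ⟩]
    exact h (P ⊓ Q) inf_le_right φ hφ _
  · rw [← toFn_coe φ x]
    exact h R (toFn φ) (isMap_toFn hφ) x x.2 (hR x.2)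

/-- Strong closure gives invariance under conjugation by `S`. -/
theorem conj_mem_of_stronglyClosed {Q : Subgroup Ω} (hQ : F.StronglyClosed Q) {s x : Ω}
    (hs : s ∈ S) (hx : x ∈ Q) : s * x * s⁻¹ ∈ Q :=
  (stronglyClosed_iff.1 hQ).2 S _ (IsMap.conj le_rfl hs) x (hQ.1 hx) hx

theorem normalizes_of_stronglyClosed {Q : Subgroup Ω} (hQ : F.StronglyClosed Q) :
    S ≤ Subgroup.normalizer (Q : Set Ω) := by
  intro s hs
  refine Subgroup.mem_normalizer_iff.2 fun x => ⟨conj_mem_of_stronglyClosed hQ hs, fun hx => ?_⟩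
  simpa [mul_assoc] using conj_mem_of_stronglyClosed hQ (S.inv_mem hs) hx

theorem stronglyClosed_of_normal [Finite S] {Q : Subgroup Ω} (hQ : F.IsNormal Q) :
    F.StronglyClosed Q := by
  refine stronglyClosed_iff.2 ⟨hQ.1, fun P f hf x hxP hxQ => ?_⟩
  obtain ⟨g, -, hg, hgQ⟩ := (FusionChain.isNormal_iff.1 hQ).2 P f hf
  rw [← hg x hxP]
  exact hgQ x hxQ

theorem autFn_mem_of_stronglyClosed {Q P : Subgroup Ω} (hQ : F.StronglyClosed Q) (hP : P ≤ S)
    {α : MulAut P} (hα : α ∈ F.autGroup P) {x : Ω} (hx : x ∈ P) (hxQ : x ∈ Q) :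
    autFn α x ∈ Q :=
  (stronglyClosed_iff.1 hQ).2 P _ (isIso_autFn hP hα).1 x hx hxQ

/-- `P Q = P` as soon as the elements of `Q` normalizing `P` lie in `P`. -/
theorem le_of_normalizer_inf_le [Finite S] {p : ℕ} [Fact p.Prime] (hS : IsPGroup p S)
    {P Q : Subgroup Ω} (hP : P ≤ S) (hQ : Q ≤ S) (hn : P ≤ Subgroup.normalizer (Q : Set Ω))
    (h : ∀ q ∈ Q, q ∈ normalizerIn S P → q ∈ P) : Q ≤ P := by
  by_contra hQP
  obtain ⟨g, hg, hgP⟩ := SetLike.exists_of_lt
    (lt_normalizerIn hS (sup_le hP hQ) (left_lt_sup.2 hQP))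
  have hgS : g ∈ normalizerIn S P := ⟨sup_le hP hQ hg.1, hg.2⟩
  have hg1 : g ∈ (P : Set Ω) * (Q : Set Ω) := by
    rw [← Subgroup.coe_mul_of_left_le_normalizer_right P Q hn]
    exact hg.1
  obtain ⟨x, hx, q, hq, rfl⟩ := hg1
  refine hgP (P.mul_mem hx (h q hq ?_))
  have := (normalizerIn S P).mul_mem ((normalizerIn S P).inv_mem (le_normalizerIn hP hx)) hgS
  simpa using this

/-- A normal subgroup lies in every centric radical subgroup. -/
theorem le_radical_of_normal [Finite S] {p : ℕ} [Fact p.Prime] (hS : IsPGroup p S)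
    {Q R : Subgroup Ω} (hQ : F.IsNormal Q) (hc : F.IsCentric R) (hr : F.IsRadical p R) :
    Q ≤ R := by
  have hsc := stronglyClosed_of_normal hQ
  refine le_of_normalizer_inf_le hS hc.1 hQ.1 (hc.1.trans (normalizes_of_stronglyClosed hsc))
    fun q hq hqN => ?_
  have hqK : normConj S R ⟨q, hqN⟩ ∈ autInducedBy Q R :=
    mem_autInducedBy_iff.2 ⟨q, hq, fun x => rfl⟩
  have hle : autInducedBy Q R ≤ FusionChain.pCoreAut F p R := by
    refine FusionChain.le_pCoreAut ((isPGroup_autInducedBy hS).to_le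
      (autInducedBy_le_of_le hQ.1)) (autInducedBy_le_autGroup F hQ.1 hc.1) fun α hα k hk => ?_
    obtain ⟨g, hg, e⟩ := mem_autInducedBy_iff.1 hk
    obtain ⟨f, hf, hfα, hfQ⟩ :=
      (FusionChain.isNormal_iff.1 hQ).2 R _ (isIso_autFn hc.1 hα).1
    refine mem_autInducedBy_iff.2 ⟨f g, hfQ g hg, fun y => ?_⟩
    obtain ⟨x, rfl⟩ := α.surjective y
    rw [MulAut.mul_apply, MulAut.mul_apply, MulAut.inv_apply_self, ← autFn_apply α x.2,
      ← hfα x x.2, ← hf.map_conj (Subgroup.mem_sup_right hg) (Subgroup.mem_sup_left x.2), ← e x,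
      hfα _ (k x).2, autFn_apply α (k x).2]
  exact FusionChain.mem_of_mem_pCoreAut hc hr hqN.1 (hle hqK) fun x => rfl

/-- Normality is detected on `S` and the essential subgroups. -/
theorem isNormal_of_essentials [Finite S] {p : ℕ} [Fact p.Prime] (hS : IsPGroup p S)
    (hF : F.IsSaturated p) {Q : Subgroup Ω} (hQ : Q ≤ S)
    (h : ∀ R : Subgroup Ω, (R = S ∨ F.IsEssential p R) →
      Q ≤ R ∧ ∀ α ∈ F.autGroup R, ∀ q ∈ Q, autFn α q ∈ Q) : F.IsNormal Q := by
  refine FusionChain.isNormal_iff.2 ⟨hQ, fun P f hf => ?_⟩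
  refine alperin_essential hS hF
    (fun P f => ∃ g, IsMap F (P ⊔ Q) g ∧ (∀ x ∈ P, g x = f x) ∧ ∀ q ∈ Q, g q ∈ Q) ?_ ?_ ?_ ?_ hf
  · rintro P f g - ⟨k, hk, h1, h2⟩ he
    exact ⟨k, hk, fun x hx => (h1 x hx).trans (he x hx), h2⟩
  · rintro P P' f - hle ⟨k, hk, h1, h2⟩
    exact ⟨k, hk.mono (sup_le_sup_right hle Q), fun x hx => h1 x (hle hx), h2⟩
  · rintro P P' f g - - hfP ⟨k, hk, h1, h2⟩ ⟨l, hl, h3, h4⟩
    refine ⟨fun x => l (k x), hk.comp hl fun x hx => hk.forall_mem_sup le_sup_left le_sup_right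
      (fun y hy => Subgroup.mem_sup_left (h1 y hy ▸ hfP y hy))
      (fun y hy => Subgroup.mem_sup_right (h2 y hy)) hx, fun x hx => ?_,
      fun q hq => h4 _ (h2 q hq)⟩
    show l (k x) = g (f x)
    rw [h1 x hx, h3 _ (hfP x hx)]
  · intro R hR α hα
    obtain ⟨hQR, hinv⟩ := h R hR
    have hRS : R ≤ S := hR.elim (fun e => e.le) fun e => e.1.1
    exact ⟨autFn α, by rw [sup_eq_left.2 hQR]; exact (isIso_autFn hRS hα).1, fun x _ => rfl,
      fun q hq => hinv α hα q hq⟩

/-- A strongly closed subgroup inside all centric radical subgroups is normal. -/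
theorem isNormal_of_stronglyClosed_le [Finite S] {p : ℕ} [Fact p.Prime] (hS : IsPGroup p S)
    (hF : F.IsSaturated p) {Q : Subgroup Ω} (hQ : F.StronglyClosed Q)
    (h : ∀ R : Subgroup Ω, F.IsFullyNormalized R → F.IsCentric R → F.IsRadical p R → Q ≤ R) :
    F.IsNormal Q :=
  FusionChain.isNormal_of_radicals hS hF hQ.1 fun R hn hc hr =>
    ⟨h R hn hc hr, fun α hα q hq => autFn_mem_of_stronglyClosed hQ hc.1 hα (h R hn hc hr hq) hq⟩

/-- A subgroup with a strongly closed central series is normal. -/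
theorem isNormal_of_chain [Finite S] {p : ℕ} [Fact p.Prime] (hS : IsPGroup p S)
    (hF : F.IsSaturated p) {Q : Subgroup Ω} (n : ℕ) (V : ℕ → Subgroup Ω) (h0 : V 0 = ⊥)
    (hn : V n = Q) (hmono : Monotone V) (hQ : F.StronglyClosed Q)
    (hV : ∀ i ≤ n, 1 ≤ i → F.StronglyClosed (V i))
    (hcomm : ∀ i < n, ⁅Q, V (i + 1)⁆ ≤ V i) : F.IsNormal Q := by
  have hV' : ∀ i ≤ n, F.StronglyClosed (V i) := fun i hi => by
    rcases Nat.eq_zero_or_pos i with rfl | hpos
    · rw [h0]
      refine stronglyClosed_iff.2 ⟨bot_le, fun P f hf x _ hx => ?_⟩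
      rw [Subgroup.mem_bot.1 hx, hf.map_one]
      exact one_mem _
    · exact hV i hi hpos
  refine isNormal_of_stronglyClosed_le hS hF hQ fun R _ hc hr => ?_
  suffices ∀ j ≤ n, V j ≤ R from hn ▸ this n le_rfl
  intro j
  induction j with
  | zero => exact fun _ => h0 ▸ bot_le
  | succ j ih =>
    intro hj
    have hVj := hV' (j + 1) hj
    refine le_of_normalizer_inf_le hS hc.1 hVj.1
      (hc.1.trans (normalizes_of_stronglyClosed hVj)) fun q hq hqN => ?_
    -- the chain `1 ≤ R ∩ V 1 ≤ ⋯ ≤ R ∩ V n ≤ R`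
    let U : ℕ → Subgroup R := fun i => if i ≤ n then (V i).subgroupOf R else ⊤
    refine FusionChain.mem_of_mem_pCoreAut hc hr hqN.1
      (FusionChain.mem_pCoreAut_of_chain hS hc.1 (n + 1) U ?_ ?_ (fun i hi => ?_)
        (fun a ha i hi x hx => ?_)
        (autInducedBy_le_autGroup F le_rfl hc.1 ((range_normConj S R).le ⟨⟨q, hqN⟩, rfl⟩))
        fun i hi x hx => ?_) fun x => rfl
    · simp [U, h0]
    · simp [U]
    · simp only [U]
      split_ifs with h1 h2
      · exact Subgroup.comap_mono (hmono i.le_succ)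
      · exact le_top
      · omega
      · exact le_top
    · simp only [U] at hx ⊢
      split_ifs with h1
      · rw [if_pos h1] at hx
        show ((a x : R) : Ω) ∈ V i
        rw [← autFn_apply a x.2]
        exact autFn_mem_of_stronglyClosed (hV' i h1) hc.1 ha x.2 hx
      · trivial
    · show x⁻¹ * normConj S R ⟨q, hqN⟩ x ∈ U i
      have hi' : i ≤ n := by omega
      have hval : ((x⁻¹ * normConj S R ⟨q, hqN⟩ x : R) : Ω) = (x : Ω)⁻¹ * q * x * q⁻¹ := by
        show (x : Ω)⁻¹ * (q * x * q⁻¹) = _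
        group
      simp only [U, if_pos hi']
      show ((x⁻¹ * normConj S R ⟨q, hqN⟩ x : R) : Ω) ∈ V i
      rw [hval]
      by_cases h1 : i + 1 ≤ n
      · simp only [U, if_pos h1] at hx
        refine hcomm i (by omega) ?_
        have := Subgroup.commutator_mem_commutator (hn ▸ hmono hj hq) (inv_mem hx : (x : Ω)⁻¹ ∈ V (i + 1))
        rw [commutatorElement_def] at this
        have := inv_mem this
        simpa [mul_assoc] using this
      · obtain rfl : i = n := by omega
        refine mul_mem ?_ (inv_mem (hmono hj hq))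
        have := conj_mem_of_stronglyClosed (hV' i le_rfl) (inv_mem (hc.1 x.2)) (hmono hj hq)
        simpa using this

/-- A strongly closed abelian subgroup is normal. -/
theorem isNormal_of_abelian [Finite S] {p : ℕ} [Fact p.Prime] (hS : IsPGroup p S)
    (hF : F.IsSaturated p) {Q : Subgroup Ω} (hQ : F.StronglyClosed Q)
    (hab : IsMulCommutative Q) : F.IsNormal Q := by
  refine isNormal_of_chain hS hF 1 (fun i => if i = 0 then ⊥ else Q) rfl rfl (fun i j hij => ?_) hQ
    (fun i _ hi => by rwa [if_neg (by omega)]) fun i hi => ?_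
  · simp only
    split_ifs with h1 h2
    · exact le_rfl
    · exact bot_le
    · omega
    · exact le_rfl
  · obtain rfl : i = 0 := by omega
    simp only [if_true]
    rw [if_neg (by omega), le_bot_iff, Subgroup.commutator_eq_bot_iff_le_centralizer]
    exact Subgroup.le_centralizer_iff_isMulCommutative.2 hab

/-- `R` is normal when every map inside `R` extends to an automorphism of `R`. -/
theorem isNormal_of_extend [Finite S] {p : ℕ} [Fact p.Prime] (hS : IsPGroup p S)
    (hF : F.IsSaturated p) {R : Subgroup Ω} (hRS : R ≤ S)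
    (h : ∀ P f, P ≤ R → IsMap F P f → ∃ α ∈ F.autGroup R, ∀ x ∈ P, autFn α x = f x) :
    F.IsNormal R := by
  have hsc : F.StronglyClosed R := by
    refine stronglyClosed_iff.2 ⟨hRS, fun P f hf x hxP hxR => ?_⟩
    obtain ⟨α, -, e⟩ := h (P ⊓ R) f inf_le_right (hf.mono inf_le_left)
    rw [← e x ⟨hxP, hxR⟩]
    exact autFn_mem α hxR
  refine isNormal_of_stronglyClosed_le hS hF hsc fun P _ hc hr => ?_
  refine le_of_normalizer_inf_le hS hc.1 hRS (hc.1.trans (normalizes_of_stronglyClosed hsc))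
    fun q hq hqN => ?_
  have := finite_mulAut hc.1
  have := finite_of_le hc.1
  -- the automorphisms trivial on `P / (P ∩ R)` and acting on `P ∩ R` as elements of `R`
  let L : Subgroup (MulAut P) :=
    { carrier := {α | α ∈ F.autGroup P ∧ (∀ x : P, (x : Ω)⁻¹ * (α x : P) ∈ R) ∧
        ∃ r ∈ R, ∀ x : P, (x : Ω) ∈ R → ((α x : P) : Ω) = r * x * r⁻¹}
      one_mem' := ⟨one_mem _, fun x => by simp, 1, one_mem _, fun x _ => by simp⟩
      mul_mem' := by
        rintro a b ⟨ha, ha1, r, hr', ha2⟩ ⟨hb, hb1, s, hs, hb2⟩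
        refine ⟨mul_mem ha hb, fun x => ?_, r * s, mul_mem hr' hs, fun x hx => ?_⟩
        · have := mul_mem (hb1 x) (ha1 (b x))
          simpa [mul_assoc] using this
        · have hbx : ((b x : P) : Ω) ∈ R := hb2 x hx ▸ mul_mem (mul_mem hs hx) (inv_mem hs)
          rw [MulAut.mul_apply, ha2 _ hbx, hb2 x hx]
          group
      inv_mem' := by
        rintro a ⟨ha, ha1, r, hr', ha2⟩
        refine ⟨inv_mem ha, fun x => ?_, r⁻¹, inv_mem hr', fun x hx => ?_⟩
        · have h1 := ha1 (a⁻¹ x)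
          rw [MulAut.apply_inv_self] at h1
          simpa using inv_mem h1
        · have hy : ((a⁻¹ x : P) : Ω) ∈ R := by
            have h1 := ha1 (a⁻¹ x)
            rw [MulAut.apply_inv_self] at h1
            have := mul_mem hx (inv_mem h1)
            simpa using this
          have h2 := ha2 _ hy
          rw [MulAut.apply_inv_self] at h2
          rw [h2]
          group }
  have hL : L ≤ FusionChain.pCoreAut F p P := by
    refine FusionChain.le_pCoreAut (FusionChain.isPGroup_of_coprime_trivial fun β hβ => ?_)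
      (fun α hα => hα.1) fun α hα k hk => ?_
    · obtain ⟨b, hb⟩ := β
      obtain ⟨-, hb1, r, hr', hb2⟩ := id hb
      refine Subtype.ext (MulEquiv.ext fun x => ?_)
      have hcop : (orderOf b).Coprime p := by
        rwa [← Subgroup.orderOf_coe] at hβ
      refine FusionChain.eq_self_of_stab (hS.to_le hc.1) b hcop (R.subgroupOf P) (fun u hu => ?_) x
        (hb1 x)
      have hpow : ∀ k : ℕ, (((b ^ k) u : P) : Ω) = r ^ k * u * (r ^ k)⁻¹ := by
        intro k
        induction k with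
        | zero => simp
        | succ k ih =>
          have hm : (((b ^ k) u : P) : Ω) ∈ R := by
            rw [ih]
            exact mul_mem (mul_mem (pow_mem hr' k) hu) (inv_mem (pow_mem hr' k))
          rw [pow_succ', MulAut.mul_apply, hb2 _ hm, ih]
          group
      obtain ⟨k, hk⟩ := hS ⟨r, hRS hr'⟩
      have hrk : r ^ p ^ k = 1 := congrArg Subtype.val hk
      have hu' : (b ^ p ^ k) u = u := Subtype.ext (by rw [hpow, hrk]; simp)
      obtain ⟨j, hj⟩ := exists_pow_eq_self_of_coprime (hcop.pow_right k).symm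
      have hfix : ∀ j : ℕ, ((b ^ p ^ k) ^ j) u = u := by
        intro j
        induction j with
        | zero => simp
        | succ j ih => rw [pow_succ, MulAut.mul_apply, hu', ih]
      rw [← hj]
      exact hfix j
    · obtain ⟨hk0, hk1, r, hr', hk2⟩ := hk
      refine ⟨mul_mem (mul_mem hα hk0) (inv_mem hα), fun y => ?_, ?_⟩
      · obtain ⟨x, rfl⟩ := α.surjective y
        rw [MulAut.mul_apply, MulAut.mul_apply, MulAut.inv_apply_self]
        have hm := autFn_mem_of_stronglyClosed hsc hc.1 hα (x⁻¹ * k x : P).2 (hk1 x)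
        rw [autFn_apply α (x⁻¹ * k x : P).2] at hm
        have hm' : ((α (x⁻¹ * k x) : P) : Ω) ∈ R := hm
        simpa using hm'
      · obtain ⟨β, hβ, hβα⟩ := h (P ⊓ R) (autFn α) inf_le_right
          ((isIso_autFn hc.1 hα).1.mono inf_le_left)
        refine ⟨(β ⟨r, hr'⟩ : R), (β ⟨r, hr'⟩).2, fun y hy => ?_⟩
        have hxR : ((α⁻¹ y : P) : Ω) ∈ R := by
          have := autFn_mem_of_stronglyClosed hsc hc.1 (inv_mem hα) y.2 hy
          rwa [autFn_apply _ y.2] at this
        obtain ⟨x, rfl⟩ := α.surjective y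
        rw [MulAut.inv_apply_self] at hxR
        rw [MulAut.mul_apply, MulAut.mul_apply, MulAut.inv_apply_self]
        have hkx : ((k x : P) : Ω) ∈ R := hk2 x hxR ▸ mul_mem (mul_mem hr' hxR) (inv_mem hr')
        rw [← autFn_apply α (k x).2, ← hβα _ ⟨(k x).2, hkx⟩, ← autFn_apply α x.2,
          ← hβα _ ⟨x.2, hxR⟩, autFn_apply β hkx, autFn_apply β hxR]
        have he : (⟨((k x : P) : Ω), hkx⟩ : R) = ⟨r, hr'⟩ * ⟨x, hxR⟩ * ⟨r, hr'⟩⁻¹ :=
          Subtype.ext (hk2 x hxR)
        rw [he, map_mul, map_mul, map_inv]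
        rfl
  refine FusionChain.mem_of_mem_pCoreAut (α := normConj S P ⟨q, hqN⟩) hc hr hqN.1
    (hL ⟨autInducedBy_le_autGroup F le_rfl hc.1 ((range_normConj S P).le ⟨_, rfl⟩), fun x => ?_,
      q, hq, fun x _ => rfl⟩) fun x => rfl
  show (x : Ω)⁻¹ * (q * x * q⁻¹) ∈ R
  have := mul_mem (conj_mem_of_stronglyClosed hsc (inv_mem (hc.1 x.2)) hq) (inv_mem hq)
  simpa [mul_assoc] using this

end Cfsg.Agent.Fusion
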