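import Cfsg.Agent.EqLemmas

/-
Sylow subgroups of a subgroup, both seen inside the ambient group.
Main results: `IsSylowIn`, `exists_isSylowIn_ge`, `IsSylowIn.exists_conj_le`, `IsSylowIn.map`,
`isSylowIn_iff_card`, `IsSylowIn.of_normal_inf`, `IsSylowIn.image`, `IsSylowIn.sup_eq`.
-/

set_option autoImplicit false

namespace Cfsg.Agent.Fusion

variable {M : Type*} [Group M] {p : ℕ}

/-- `B` is a Sylow `p`-subgroup of `A`, both seen inside `M`. -/
def IsSylowIn (p : ℕ) (B A : Subgroup M) : Prop :=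
  B ≤ A ∧ IsPGroup p B ∧ ∀ C : Subgroup M, B ≤ C → C ≤ A → IsPGroup p C → C = B

theorem IsSylowIn.le {B A : Subgroup M} (h : IsSylowIn p B A) : B ≤ A := h.1

theorem IsSylowIn.isPGroup {B A : Subgroup M} (h : IsSylowIn p B A) : IsPGroup p B := h.2.1

theorem isPGroup_subgroupOf {B A : Subgroup M} (h : B ≤ A) :
    IsPGroup p (B.subgroupOf A) ↔ IsPGroup p B :=
  ⟨fun hB => hB.of_equiv (Subgroup.subgroupOfEquivOfLe h),
    fun hB => hB.of_equiv (Subgroup.subgroupOfEquivOfLe h).symm⟩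

theorem isSylowIn_iff_exists {B A : Subgroup M} (hle : B ≤ A) :
    IsSylowIn p B A ↔ ∃ R : Sylow p A, (R : Subgroup A) = B.subgroupOf A := by
  constructor
  · intro h
    refine ⟨⟨B.subgroupOf A, (isPGroup_subgroupOf hle).2 h.2.1, ?_⟩, rfl⟩
    intro Q hQ hle'
    have h2 : Q.map A.subtype = B := h.2.2 _ (by
      intro x hx
      exact Subgroup.mem_map.2 ⟨⟨x, hle hx⟩, hle' hx, rfl⟩) (Subgroup.map_subtype_le Q)
      (hQ.map _)
    apply Subgroup.map_injective A.subtype_injective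
    rw [h2, Subgroup.map_subgroupOf_eq_of_le hle]
  · rintro ⟨R, hR⟩
    refine ⟨hle, (isPGroup_subgroupOf hle).1 (hR ▸ R.isPGroup'), fun C hBC hCA hC => ?_⟩
    have h3 : C.subgroupOf A = (R : Subgroup A) :=
      R.is_maximal' ((isPGroup_subgroupOf hCA).2 hC) (by rw [hR]; exact fun x hx => hBC hx)
    rw [hR] at h3
    rw [← Subgroup.map_subgroupOf_eq_of_le hle, ← h3, Subgroup.map_subgroupOf_eq_of_le hCA]

theorem IsSylowIn.map_sylow {A : Subgroup M} (R : Sylow p A) :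
    IsSylowIn p ((R : Subgroup A).map A.subtype) A :=
  (isSylowIn_iff_exists (Subgroup.map_subtype_le _)).2
    ⟨R, by rw [Subgroup.subgroupOf, Subgroup.comap_map_eq_self_of_injective A.subtype_injective]⟩

theorem exists_isSylowIn_ge {A H : Subgroup M} (hH : IsPGroup p H) (hle : H ≤ A) :
    ∃ B, H ≤ B ∧ IsSylowIn p B A := by
  obtain ⟨R, hR⟩ := ((isPGroup_subgroupOf hle).2 hH).exists_le_sylow
  refine ⟨_, ?_, IsSylowIn.map_sylow R⟩
  rw [← Subgroup.map_subgroupOf_eq_of_le hle]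
  exact Subgroup.map_mono hR

theorem exists_isSylowIn (p : ℕ) (A : Subgroup M) : ∃ B : Subgroup M, IsSylowIn p B A :=
  let ⟨B, _, hB⟩ := exists_isSylowIn_ge (A := A) IsPGroup.of_bot bot_le
  ⟨B, hB⟩

theorem IsSylowIn.exists_conj_le [Finite M] [Fact p.Prime] {A B H : Subgroup M}
    (hB : IsSylowIn p B A) (hH : IsPGroup p H) (hle : H ≤ A) :
    ∃ a ∈ A, ∀ h ∈ H, a * h * a⁻¹ ∈ B := by
  obtain ⟨R, hR⟩ := (isSylowIn_iff_exists hB.1).1 hB
  obtain ⟨Q, hQ⟩ := ((isPGroup_subgroupOf hle).2 hH).exists_le_sylow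
  obtain ⟨a, ha⟩ := MulAction.exists_smul_eq A Q R
  refine ⟨a, a.2, fun h hh => ?_⟩
  have h1 : (⟨h, hle hh⟩ : A) ∈ Q := hQ hh
  have h2 : a * ⟨h, hle hh⟩ * a⁻¹ ∈ (R : Subgroup A) := by
    rw [← ha]
    exact Subgroup.smul_mem_pointwise_smul _ (MulAut.conj a) (Q : Subgroup A) h1
  rw [hR] at h2
  exact h2

theorem IsSylowIn.card [Finite M] [Fact p.Prime] {A B : Subgroup M} (hB : IsSylowIn p B A) :
    Nat.card B = p ^ (Nat.card A).factorization p := by
  obtain ⟨R, hR⟩ := (isSylowIn_iff_exists hB.1).1 hB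
  rw [← R.card_eq_multiplicity, hR]
  exact (Nat.card_congr (Subgroup.subgroupOfEquivOfLe hB.1).toEquiv).symm

theorem IsSylowIn.card_ge [Finite M] [Fact p.Prime] {A B C : Subgroup M} (hB : IsSylowIn p B A)
    (hC : IsPGroup p C) (hCA : C ≤ A) : Nat.card C ≤ Nat.card B := by
  obtain ⟨D, hCD, hD⟩ := exists_isSylowIn_ge hC hCA
  rw [hB.card, ← hD.card]
  exact Subgroup.card_le_of_le hCD

theorem IsSylowIn.of_card_ge [Finite M] [Fact p.Prime] {A B C : Subgroup M} (hB : IsSylowIn p B A)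
    (hC : IsPGroup p C) (hCA : C ≤ A) (h : Nat.card B ≤ Nat.card C) : IsSylowIn p C A :=
  ⟨hCA, hC, fun D hCD hDA hD =>
    (Subgroup.eq_of_le_of_card_ge hCD ((hB.card_ge hD hDA).trans h)).symm⟩

theorem isSylowIn_iff_card [Finite M] [Fact p.Prime] {A B : Subgroup M} (hle : B ≤ A) :
    IsSylowIn p B A ↔ Nat.card B = p ^ (Nat.card A).factorization p := by
  refine ⟨fun h => h.card, fun h => ?_⟩
  obtain ⟨C, hC⟩ := exists_isSylowIn p A
  exact hC.of_card_ge (IsPGroup.of_card h) hle (by rw [h, hC.card])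

theorem IsSylowIn.map {N : Type*} [Group N] {A B : Subgroup M} (hB : IsSylowIn p B A)
    (f : M ≃* N) : IsSylowIn p (B.map f.toMonoidHom) (A.map f.toMonoidHom) := by
  refine ⟨Subgroup.map_mono hB.1, hB.2.1.map _, fun C hBC hCA hC => ?_⟩
  have hC' : IsPGroup p (C.comap f.toMonoidHom) := hC.comap_of_injective _ f.injective
  have h := hB.2.2 _ (Subgroup.map_le_iff_le_comap.1 hBC) (fun x hx => by
    obtain ⟨a, ha, hax⟩ := hCA hx
    exact f.injective hax ▸ ha) hC'
  rw [← h, Subgroup.map_comap_eq_self_of_surjective f.surjective]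

theorem IsSylowIn.mono {A A' B : Subgroup M} (hB : IsSylowIn p B A) (hle : B ≤ A')
    (hA : A' ≤ A) : IsSylowIn p B A' :=
  ⟨hle, hB.2.1, fun C h1 h2 h3 => hB.2.2 C h1 (h2.trans hA) h3⟩

/-- For a finite group: a Sylow subgroup meets a normal subgroup in a Sylow subgroup. -/
theorem IsSylowIn.inf_normal [Finite M] [Fact p.Prime] {A B N : Subgroup M}
    (hB : IsSylowIn p B A) (hN : N ≤ A) (hnorm : ∀ a ∈ A, ∀ n ∈ N, a * n * a⁻¹ ∈ N) :
    IsSylowIn p (B ⊓ N) N := by
  refine ⟨inf_le_right, hB.2.1.to_inf_left, fun C hBC hCN hC => ?_⟩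
  obtain ⟨a, ha, hconj⟩ := hB.exists_conj_le hC (hCN.trans hN)
  refine (Subgroup.eq_of_le_of_card_ge hBC ?_).symm
  have hinj : Function.Injective (fun c : C =>
      (⟨a * c * a⁻¹, hconj c c.2, hnorm a ha c (hCN c.2)⟩ : (B ⊓ N : Subgroup M))) := by
    intro x y hxy
    have := Subtype.ext_iff.1 hxy
    simpa using this
  exact Nat.card_le_card_of_injective _ hinj

/-- For a finite group: the image of a Sylow subgroup is a Sylow subgroup of the image. -/
theorem IsSylowIn.image {N : Type*} [Group N] [Finite M] [Fact p.Prime] {A B : Subgroup M}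
    (hB : IsSylowIn p B A) (f : M →* N) : IsSylowIn p (B.map f) (A.map f) := by
  obtain ⟨R, hR⟩ := (isSylowIn_iff_exists hB.1).1 hB
  have hsurj : Function.Surjective (f.subgroupMap A) := f.subgroupMap_surjective A
  refine (isSylowIn_iff_exists (Subgroup.map_mono hB.1)).2 ⟨R.mapSurjective hsurj, ?_⟩
  rw [Sylow.coe_mapSurjective, hR]
  ext y
  constructor
  · rintro ⟨x, hx, rfl⟩
    exact Subgroup.mem_map.2 ⟨x, hx, rfl⟩
  · rintro ⟨x, hx, hxy⟩
    exact ⟨⟨x, hB.1 hx⟩, hx, Subtype.ext hxy⟩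

/-- `A` is generated by a Sylow `p`-subgroup and the subgroup `O^p(A)`. -/
theorem IsSylowIn.sup_pResidual {M : Type*} [Group M] [Finite M] [Fact p.Prime] {B : Subgroup M}
    (hB : IsSylowIn p B ⊤) : B ⊔ Cfsg.pResidual p M = ⊤ := by
  have hp : p.Prime := Fact.out
  refine (Subgroup.eq_top_of_le_card _ ?_)
  set W := B ⊔ Cfsg.pResidual p M with hW
  -- every prime power dividing the order of `M` divides the order of `W`
  apply Nat.le_of_dvd Nat.card_pos
  refine (Nat.dvd_iff_prime_pow_dvd_dvd _ _).2 fun q k hq hdvd => ?_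
  by_cases hqp : q = p
  · subst hqp
    refine dvd_trans ?_ (Subgroup.card_dvd_of_le (le_sup_left : B ≤ W))
    rw [hB.card, Nat.card_congr Subgroup.topEquiv.toEquiv]
    exact pow_dvd_pow _ ((hp.pow_dvd_iff_le_factorization Nat.card_pos.ne').1 hdvd)
  · have : Fact q.Prime := ⟨hq⟩
    obtain ⟨Q, hQ⟩ := Sylow.exists_subgroup_card_pow_prime q hdvd
    have hQW : Q ≤ W := fun x hx => by
      refine Subgroup.mem_sup_right (Subgroup.subset_closure ?_)
      have hd : orderOf x ∣ q ^ k := hQ ▸ Subgroup.orderOf_dvd_natCard Q hx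
      exact Nat.Coprime.coprime_dvd_left hd (((Nat.coprime_primes hq hp).2 hqp).pow_left k)
    exact hQ ▸ Subgroup.card_dvd_of_le hQW

end Cfsg.Agent.Fusion
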