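import Cfsg.Agent.Lib.Fusion.Criterion
import Cfsg.Agent.Lib.Fusion.Normal

/-
Factor systems of a fusion system modulo a strongly closed subgroup.
Setting: `θ : S →* Ω'` with kernel `S₀` and image `S'` (`QData`).
Main results: `thF`, `mem_preimageAlong`, `mem_imageAlong`, `exists_inducedHom`, `isMap_factor_iff`,
`exists_factorSystem`, `isSaturated_factor`.
-/

set_option autoImplicit false

open scoped Classical

namespace Cfsg.Agent.Fusion

open Cfsg Cfsg.FusionSystem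

variable {Ω : Type*} [Group Ω] {S : Subgroup Ω} {Ω' : Type*} [Group Ω']

/-- A homomorphism on `S` as a function on the ambient type. -/
noncomputable def thF (θ : S →* Ω') (x : Ω) : Ω' := if h : x ∈ S then θ ⟨x, h⟩ else 1

theorem thF_apply (θ : S →* Ω') {x : Ω} (h : x ∈ S) : thF θ x = θ ⟨x, h⟩ := dif_pos h

theorem thF_mul (θ : S →* Ω') {x y : Ω} (hx : x ∈ S) (hy : y ∈ S) :
    thF θ (x * y) = thF θ x * thF θ y := by
  rw [thF_apply θ hx, thF_apply θ hy, thF_apply θ (S.mul_mem hx hy), ← map_mul]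
  rfl

theorem thF_inv (θ : S →* Ω') {x : Ω} (hx : x ∈ S) : thF θ x⁻¹ = (thF θ x)⁻¹ := by
  rw [thF_apply θ hx, thF_apply θ (S.inv_mem hx), ← map_inv]
  rfl

theorem thF_conj (θ : S →* Ω') {x y : Ω} (hx : x ∈ S) (hy : y ∈ S) :
    thF θ (x * y * x⁻¹) = thF θ x * thF θ y * (thF θ x)⁻¹ := by
  rw [thF_mul θ (S.mul_mem hx hy) (S.inv_mem hx), thF_mul θ hx hy, thF_inv θ hx]

theorem mem_preimageAlong {θ : S →* Ω'} {P' : Subgroup Ω'} {x : Ω} :
    x ∈ preimageAlong θ P' ↔ x ∈ S ∧ thF θ x ∈ P' := by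
  constructor
  · rintro ⟨s, hs, rfl⟩
    exact ⟨s.2, by rw [Subgroup.coe_subtype, thF_apply θ s.2]; exact hs⟩
  · rintro ⟨hx, h⟩
    exact ⟨⟨x, hx⟩, by rwa [thF_apply θ hx] at h, rfl⟩

theorem mem_imageAlong {θ : S →* Ω'} {P : Subgroup Ω} {y : Ω'} :
    y ∈ imageAlong θ P ↔ ∃ x ∈ P, x ∈ S ∧ thF θ x = y := by
  constructor
  · rintro ⟨s, hs, rfl⟩
    exact ⟨s, hs, s.2, thF_apply θ s.2⟩
  · rintro ⟨x, hx, hxS, rfl⟩
    exact ⟨⟨x, hxS⟩, hx, (thF_apply θ hxS).symm⟩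

theorem preimageAlong_le (θ : S →* Ω') (P' : Subgroup Ω') : preimageAlong θ P' ≤ S :=
  fun _ hx => (mem_preimageAlong.1 hx).1

theorem inducedAlong_iff {θ : S →* Ω'} {P : Subgroup Ω} (hP : P ≤ S) {φ : P →* Ω}
    (hφ : ∀ x : P, φ x ∈ S) {P' : Subgroup Ω'} (hP' : ∀ x ∈ P, thF θ x ∈ P') {φ' : P' →* Ω'} :
    InducedAlong θ φ φ' ↔ ∀ x ∈ P, toFn φ' (thF θ x) = thF θ (toFn φ x) := by
  constructor
  · rintro ⟨_, _, _, h⟩ x hx
    rw [toFn_apply φ' (hP' x hx), toFn_apply φ hx, thF_apply θ (hφ ⟨x, hx⟩)]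
    refine Eq.trans ?_ (h ⟨x, hx⟩)
    exact congrArg φ' (Subtype.ext (thF_apply θ (hP hx)))
  · intro h
    have hP'' : ∀ x : P, θ ⟨x, hP x.2⟩ ∈ P' := fun x => thF_apply θ (hP x.2) ▸ hP' x x.2
    refine ⟨hP, hφ, hP'', fun x => ?_⟩
    have := h x x.2
    rw [toFn_coe φ x, thF_apply θ (hφ x), toFn_apply φ' (hP' x x.2)] at this
    refine Eq.trans ?_ this
    exact congrArg φ' (Subtype.ext (thF_apply θ (hP x.2)).symm)

theorem inducedAlong_le {θ : S →* Ω'} {P : Subgroup Ω} {φ : P →* Ω} {P' : Subgroup Ω'}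
    {φ' : P' →* Ω'} (h : InducedAlong θ φ φ') :
    P ≤ S ∧ (∀ x : P, φ x ∈ S) ∧ ∀ x ∈ P, thF θ x ∈ P' := by
  obtain ⟨hP, hφ, hP', -⟩ := h
  exact ⟨hP, hφ, fun x hx => (thF_apply θ (hP hx)).symm ▸ hP' ⟨x, hx⟩⟩

/-- A subgroup `S₀` that is the kernel of `θ` on `S`, strongly closed in `F`, with `S'` the image. -/
structure QData (F : FusionSystem S) (S₀ : Subgroup Ω) (θ : S →* Ω') (S' : Subgroup Ω') : Prop where
  closed : F.StronglyClosed S₀
  ker_iff : ∀ s : S, θ s = 1 ↔ (s : Ω) ∈ S₀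
  range_eq : θ.range = S'

namespace QData

variable {F : FusionSystem S} {S₀ : Subgroup Ω} {θ : S →* Ω'} {S' : Subgroup Ω'}

theorem le (D : QData F S₀ θ S') : S₀ ≤ S := D.closed.1

theorem thF_mem (D : QData F S₀ θ S') {x : Ω} (hx : x ∈ S) : thF θ x ∈ S' :=
  D.range_eq ▸ ⟨⟨x, hx⟩, (thF_apply θ hx).symm⟩

theorem exists_eq (D : QData F S₀ θ S') {y : Ω'} (hy : y ∈ S') : ∃ x ∈ S, thF θ x = y := by
  obtain ⟨s, rfl⟩ := (D.range_eq.symm ▸ hy : y ∈ θ.range)
  exact ⟨s, s.2, thF_apply θ s.2⟩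

theorem thF_eq_iff (D : QData F S₀ θ S') {x y : Ω} (hx : x ∈ S) (hy : y ∈ S) :
    thF θ x = thF θ y ↔ x⁻¹ * y ∈ S₀ := by
  rw [← inv_mul_eq_one, ← thF_inv θ hx, ← thF_mul θ (S.inv_mem hx) hy,
    thF_apply θ (S.mul_mem (S.inv_mem hx) hy)]
  exact D.ker_iff _

theorem le_preimage (D : QData F S₀ θ S') (P' : Subgroup Ω') : S₀ ≤ preimageAlong θ P' := fun x hx =>
  mem_preimageAlong.2 ⟨D.le hx, by rw [thF_apply θ (D.le hx), (D.ker_iff _).2 hx]; exact P'.one_mem⟩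

theorem image_preimage (D : QData F S₀ θ S') {P' : Subgroup Ω'} (h : P' ≤ S') :
    imageAlong θ (preimageAlong θ P') = P' := by
  refine le_antisymm (fun y hy => ?_) fun y hy => ?_
  · obtain ⟨x, hx, -, rfl⟩ := mem_imageAlong.1 hy
    exact (mem_preimageAlong.1 hx).2
  · obtain ⟨x, hx, rfl⟩ := D.exists_eq (h hy)
    exact mem_imageAlong.2 ⟨x, mem_preimageAlong.2 ⟨hx, hy⟩, hx, rfl⟩

theorem preimage_image (D : QData F S₀ θ S') {P : Subgroup Ω} (h : P ≤ S) :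
    preimageAlong θ (imageAlong θ P) = P ⊔ S₀ := by
  refine le_antisymm (fun x hx => ?_) (sup_le (fun x hx => ?_) (D.le_preimage _))
  · obtain ⟨hxS, y, hy, hyS, e⟩ := (mem_preimageAlong.1 hx).imp id mem_imageAlong.1
    have : x = y * (y⁻¹ * x) := (mul_inv_cancel_left y x).symm
    rw [this]
    exact Subgroup.mul_mem _ (Subgroup.mem_sup_left hy)
      (Subgroup.mem_sup_right ((D.thF_eq_iff hyS hxS).1 e))
  · exact mem_preimageAlong.2 ⟨h hx, mem_imageAlong.2 ⟨x, hx, h hx, rfl⟩⟩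

/-- A map is compatible with the congruence modulo `S₀`. -/
theorem map_congr (D : QData F S₀ θ S') {P : Subgroup Ω} {f : Ω → Ω} (hf : IsMap F P f) {x y : Ω}
    (hx : x ∈ P) (hy : y ∈ P) (e : thF θ x = thF θ y) : thF θ (f x) = thF θ (f y) := by
  rw [D.thF_eq_iff (hf.mem hx) (hf.mem hy), ← hf.map_inv hx, ← hf.map_mul (P.inv_mem hx) hy]
  exact (stronglyClosed_iff.1 D.closed).2 P f hf _ (P.mul_mem (P.inv_mem hx) hy)
    ((D.thF_eq_iff (hf.le hx) (hf.le hy)).1 e)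

/-- Every map induces a homomorphism on the image of its source. -/
theorem exists_inducedHom (D : QData F S₀ θ S') {P : Subgroup Ω} {f : Ω → Ω} (hf : IsMap F P f)
    {P' : Subgroup Ω'} (hP' : ∀ y ∈ P', ∃ x ∈ P, thF θ x = y) :
    ∃ φ' : P' →* Ω', ∀ x ∈ P, thF θ x ∈ P' → toFn φ' (thF θ x) = thF θ (f x) := by
  choose s hs hsy using hP'
  refine ⟨MonoidHom.mk' (fun y : P' => thF θ (f (s y y.2))) fun a b => ?_, fun x hx hxP' => ?_⟩
  · show thF θ (f (s (a * b : Ω') _)) = thF θ (f (s a a.2)) * thF θ (f (s b b.2))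
    rw [← thF_mul θ (hf.mem (hs _ _)) (hf.mem (hs _ _)), ← hf.map_mul (hs _ _) (hs _ _)]
    refine D.map_congr hf (hs _ _) (P.mul_mem (hs _ _) (hs _ _)) ?_
    rw [thF_mul θ (hf.le (hs _ _)) (hf.le (hs _ _)), hsy, hsy, hsy]
  · rw [toFn_apply _ hxP']
    exact D.map_congr hf (hs _ _) hx (hsy _ _)

theorem map_S₀_surj [Finite S] (D : QData F S₀ θ S') {P : Subgroup Ω} {f : Ω → Ω}
    (hf : IsMap F P f) (hP : S₀ ≤ P) : img f S₀ = S₀ :=
  eq_of_le_of_card D.le (hf.img_le hP fun x hx => (stronglyClosed_iff.1 D.closed).2 P f hf x (hP hx) hx)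
    (hf.card_img hP).ge

/-- The image of a map on a full preimage is a full preimage. -/
theorem img_eq_preimage [Finite S] (D : QData F S₀ θ S') {P : Subgroup Ω} {f : Ω → Ω}
    (hf : IsMap F P f) (hP : S₀ ≤ P) {R' : Subgroup Ω'} (h1 : ∀ x ∈ P, thF θ (f x) ∈ R')
    (h2 : ∀ y ∈ R', ∃ x ∈ P, thF θ (f x) = y) : img f P = preimageAlong θ R' := by
  refine le_antisymm (hf.img_le le_rfl fun x hx => mem_preimageAlong.2 ⟨hf.mem hx, h1 x hx⟩) fun y hy => ?_
  obtain ⟨hyS, hy'⟩ := mem_preimageAlong.1 hy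
  obtain ⟨x, hx, e⟩ := h2 _ hy'
  have hmem : (f x)⁻¹ * y ∈ img f S₀ := by
    rw [D.map_S₀_surj hf hP]
    exact (D.thF_eq_iff (hf.mem hx) hyS).1 e
  obtain ⟨z, hz, hzy⟩ := (hf.mem_img_iff hP).1 hmem
  exact (hf.mem_img_iff le_rfl).2 ⟨x * z, P.mul_mem hx (hP hz), by
    rw [hf.map_mul hx (hP hz), hzy, mul_inv_cancel_left]⟩

/-- The factor system exists. -/
theorem exists_factorSystem [Finite S] (D : QData F S₀ θ S') :
    ∃ E : FusionSystem S', F.IsFactorSystem S₀ θ E := by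
  have hpre : ∀ {P' : Subgroup Ω'}, ∀ x ∈ preimageAlong θ P', thF θ x ∈ P' :=
    fun x hx => (mem_preimageAlong.1 hx).2
  have hsurj : ∀ {P' : Subgroup Ω'}, P' ≤ S' → ∀ y ∈ P', ∃ x ∈ preimageAlong θ P', thF θ x = y :=
    fun hP y hy => let ⟨x, hx, e⟩ := D.exists_eq (hP hy)
      ⟨x, mem_preimageAlong.2 ⟨hx, e ▸ hy⟩, e⟩
  refine ⟨{
    Hom := fun P' => {φ' | P' ≤ S' ∧ ∃ φ ∈ F.Hom (preimageAlong θ P'), InducedAlong θ φ φ'}
    le_of_mem := ?_
    injective_of_mem := ?_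
    conj_mem := ?_
    comp_mem := ?_
    inv_mem := ?_ }, D.le, D.ker_iff, D.range_eq, fun _ _ => Iff.rfl⟩
  · rintro P' φ' ⟨hP, φ, hφ, hi⟩
    obtain ⟨hS, hφS, -⟩ := inducedAlong_le hi
    refine ⟨hP, fun y => ?_⟩
    obtain ⟨x, hx, e⟩ := hsurj hP y y.2
    have := (inducedAlong_iff hS hφS hpre).1 hi x hx
    rw [e, toFn_coe φ' y] at this
    rw [this]
    exact D.thF_mem (toFn_apply φ hx ▸ hφS ⟨x, hx⟩)
  · rintro P' φ' ⟨hP, φ, hφ, hi⟩
    obtain ⟨hS, hφS, -⟩ := inducedAlong_le hi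
    refine (injective_iff_map_eq_one φ').2 fun y hy => ?_
    obtain ⟨x, hx, e⟩ := hsurj hP y y.2
    have h := (inducedAlong_iff hS hφS hpre).1 hi x hx
    rw [e, toFn_coe φ' y, hy] at h
    have hm : IsMap F (preimageAlong θ P') (toFn φ) := isMap_toFn hφ
    have hker : toFn φ x ∈ S₀ := by
      have h' := h.symm
      rw [thF_apply θ (hm.mem hx)] at h'
      exact (D.ker_iff _).1 h'
    rw [← D.map_S₀_surj hm (D.le_preimage _)] at hker
    obtain ⟨z, hz, hzx⟩ := (hm.mem_img_iff (D.le_preimage _)).1 hker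
    have hxz : z = x := hm.inj (D.le_preimage _ hz) hx hzx
    apply Subtype.ext
    rw [← e, ← hxz, thF_apply θ (D.le hz), (D.ker_iff _).2 hz]
    rfl
  · intro P' g' hP hg'
    obtain ⟨g, hg, rfl⟩ := D.exists_eq hg'
    refine ⟨hP, _, F.conj_mem (preimageAlong_le θ P') hg, ?_⟩
    refine (inducedAlong_iff (preimageAlong_le θ P') (fun x => ?_) hpre).2 fun x hx => ?_
    · exact S.mul_mem (S.mul_mem hg (preimageAlong_le θ P' x.2)) (S.inv_mem hg)
    rw [toFn_apply _ (hpre x hx), toFn_apply _ hx]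
    exact (thF_conj θ hg (preimageAlong_le θ P' hx)).symm
  · rintro P' Q' φ' ψ' ⟨hP, φ, hφ, hi⟩ ⟨hQ, ψ, hψ, hj⟩ hval
    obtain ⟨hS, hφS, -⟩ := inducedAlong_le hi
    obtain ⟨hS', hψS, -⟩ := inducedAlong_le hj
    have hi' := (inducedAlong_iff hS hφS hpre).1 hi
    have hj' := (inducedAlong_iff hS' hψS hpre).1 hj
    have hmem : ∀ x : preimageAlong θ P', φ x ∈ preimageAlong θ Q' := fun x => by
      refine mem_preimageAlong.2 ⟨hφS x, ?_⟩
      rw [← toFn_coe φ x, ← hi' x x.2, toFn_apply φ' (hpre _ x.2)]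
      exact hval _
    refine ⟨hP, _, F.comp_mem hφ hψ hmem, (inducedAlong_iff hS (fun x => hψS _) hpre).2 fun x hx => ?_⟩
    have h2 : toFn φ' (thF θ x) ∈ Q' := by rw [toFn_apply φ' (hpre _ hx)]; exact hval _
    rw [toFn_apply _ (hpre x hx), toFn_apply _ hx]
    show ψ' ⟨φ' ⟨thF θ x, _⟩, _⟩ = thF θ (ψ ⟨φ ⟨x, hx⟩, _⟩)
    have h3 := hj' (φ ⟨x, hx⟩) (hmem ⟨x, hx⟩)
    rw [← toFn_apply ψ (hmem ⟨x, hx⟩), ← h3]
    have h4 := hi' x hx
    rw [toFn_apply φ' (hpre x hx), toFn_apply φ hx] at h4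
    rw [← h4, toFn_apply ψ' (hval _)]
  · rintro P' φ' ⟨hP, φ, hφ, hi⟩
    obtain ⟨hS, hφS, -⟩ := inducedAlong_le hi
    have hi' := (inducedAlong_iff hS hφS hpre).1 hi
    have hm : IsMap F (preimageAlong θ P') (toFn φ) := isMap_toFn hφ
    have himg : img (toFn φ) (preimageAlong θ P') = preimageAlong θ φ'.range := by
      refine D.img_eq_preimage hm (D.le_preimage _) (fun x hx => ?_) fun y hy => ?_
      · rw [← hi' x hx, toFn_apply φ' (hpre x hx)]
        exact ⟨_, rfl⟩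
      · obtain ⟨z, rfl⟩ := hy
        obtain ⟨x, hx, e⟩ := hsurj hP z z.2
        exact ⟨x, hx, by rw [← hi' x hx, e, toFn_coe]⟩
    have hiso : IsIso F (preimageAlong θ P') (preimageAlong θ φ'.range) (toFn φ) := ⟨hm, himg⟩
    obtain ⟨g, hg, hgf, hfg⟩ := hiso.symm
    obtain ⟨ψ, hψ, hψg⟩ := hg.1
    have hR : φ'.range ≤ S' := by
      rintro _ ⟨z, rfl⟩
      obtain ⟨x, hx, e⟩ := hsurj hP z z.2
      rw [← toFn_coe φ' z, ← e, hi' x hx]
      exact D.thF_mem (hm.mem hx)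
    obtain ⟨ψ', hψ'⟩ := D.exists_inducedHom hg.1 (P' := φ'.range) (hsurj hR)
    refine ⟨ψ', ⟨hR, ψ, hψ, ?_⟩, fun z => ?_⟩
    · refine (inducedAlong_iff (preimageAlong_le θ _) (F.le_of_mem hψ).2 hpre).2 fun x hx => ?_
      rw [hψ' x hx (hpre x hx), toFn_apply ψ hx, hψg]
    · obtain ⟨x, hx, e⟩ := hsurj hP z z.2
      have hfx : toFn φ x ∈ preimageAlong θ φ'.range := hiso.mem hx
      have h1 := hψ' _ hfx (hpre _ hfx)
      rw [hgf x hx, ← hi' x hx, e, toFn_coe φ' z] at h1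
      rw [← toFn_apply ψ' (x := φ' z) ⟨z, rfl⟩, h1]

variable {E : FusionSystem S'}

/-- The maps of the factor system, in function form. -/
theorem isMap_factor_iff (hE : F.IsFactorSystem S₀ θ E) {P' : Subgroup Ω'} {f' : Ω' → Ω'} :
    IsMap E P' f' ↔ P' ≤ S' ∧ ∃ f, IsMap F (preimageAlong θ P') f ∧
      ∀ x ∈ preimageAlong θ P', f' (thF θ x) = thF θ (f x) := by
  constructor
  · rintro ⟨φ', hφ', e⟩
    obtain ⟨hP, φ, hφ, hi⟩ := (hE.2.2.2 P' φ').1 hφ'
    obtain ⟨hS, hφS, -⟩ := inducedAlong_le hi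
    refine ⟨hP, toFn φ, isMap_toFn hφ, fun x hx => ?_⟩
    have hxP := (mem_preimageAlong.1 hx).2
    rw [← (inducedAlong_iff hS hφS fun x hx => (mem_preimageAlong.1 hx).2).1 hi x hx,
      toFn_apply φ' hxP, e]
  · rintro ⟨hP, f, hf, h⟩
    have hD : ∀ y ∈ P', ∃ x ∈ preimageAlong θ P', thF θ x = y := fun y hy => by
      obtain ⟨s, rfl⟩ := (hE.2.2.1.symm ▸ hP hy : y ∈ θ.range)
      exact ⟨s, mem_preimageAlong.2 ⟨s.2, by rwa [thF_apply θ s.2]⟩, thF_apply θ s.2⟩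
    obtain ⟨φ, hφ, e⟩ := hf
    refine ⟨MonoidHom.mk' (fun y : P' => f' y) fun a b => ?_, ?_, fun y hy => rfl⟩
    · obtain ⟨x, hx, ea⟩ := hD a a.2
      obtain ⟨z, hz, eb⟩ := hD b b.2
      have hf : IsMap F (preimageAlong θ P') f := ⟨φ, hφ, e⟩
      show f' (a * b : Ω') = f' a * f' b
      rw [← ea, ← eb, ← thF_mul θ (hf.le hx) (hf.le hz), h x hx, h z hz,
        h _ (mul_mem hx hz), hf.map_mul hx hz, thF_mul θ (hf.mem hx) (hf.mem hz)]
    · refine (hE.2.2.2 P' _).2 ⟨hP, φ, hφ, (inducedAlong_iff (F.le_of_mem hφ).1 (F.le_of_mem hφ).2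
        fun x hx => (mem_preimageAlong.1 hx).2).2 fun x hx => ?_⟩
      rw [toFn_apply φ hx, e, toFn_apply _ (mem_preimageAlong.1 hx).2, ← h x hx]
      rfl

theorem ofFactor (hS₀ : F.StronglyClosed S₀) (hE : F.IsFactorSystem S₀ θ E) : QData F S₀ θ S' :=
  ⟨hS₀, hE.2.1, hE.2.2.1⟩

/-- A map whose source contains `S₀` induces a map of the factor system. -/
theorem isMap_image (D : QData F S₀ θ S') (hE : F.IsFactorSystem S₀ θ E) {P : Subgroup Ω}
    {f : Ω → Ω} (hf : IsMap F P f) (hP : S₀ ≤ P) :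
    ∃ f', IsMap E (imageAlong θ P) f' ∧ ∀ x ∈ P, f' (thF θ x) = thF θ (f x) := by
  obtain ⟨φ', hφ'⟩ := D.exists_inducedHom hf (P' := imageAlong θ P) fun y hy => by
    obtain ⟨x, hx, -, e⟩ := mem_imageAlong.1 hy
    exact ⟨x, hx, e⟩
  have hpre : preimageAlong θ (imageAlong θ P) = P := by
    rw [D.preimage_image hf.le, sup_eq_left.2 hP]
  have key : ∀ x ∈ P, toFn φ' (thF θ x) = thF θ (f x) := fun x hx =>
    hφ' x hx (mem_imageAlong.2 ⟨x, hx, hf.le hx, rfl⟩)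
  refine ⟨toFn φ', (isMap_factor_iff hE).2 ⟨fun y hy => ?_, f, hpre.symm ▸ hf, hpre.symm ▸ key⟩, key⟩
  obtain ⟨x, -, hx, rfl⟩ := mem_imageAlong.1 hy
  exact D.thF_mem hx

/-- An isomorphism of the factor system lifts to one between the full preimages. -/
theorem exists_lift_iso [Finite S] (D : QData F S₀ θ S') (hE : F.IsFactorSystem S₀ θ E)
    {P' R' : Subgroup Ω'} {f' : Ω' → Ω'} (hf' : IsIso E P' R' f') :
    ∃ f, IsIso F (preimageAlong θ P') (preimageAlong θ R') f ∧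
      ∀ x ∈ preimageAlong θ P', f' (thF θ x) = thF θ (f x) := by
  obtain ⟨hP, f, hf, h⟩ := (isMap_factor_iff hE).1 hf'.1
  refine ⟨f, ⟨hf, D.img_eq_preimage hf (D.le_preimage _)
    (fun x hx => h x hx ▸ hf'.mem (mem_preimageAlong.1 hx).2) fun y hy => ?_⟩, h⟩
  obtain ⟨z, hz, e⟩ := hf'.exists_eq hy
  obtain ⟨x, hx, ex⟩ := D.exists_eq (hP hz)
  exact ⟨x, mem_preimageAlong.2 ⟨hx, ex ▸ hz⟩, by
    rw [← h x (mem_preimageAlong.2 ⟨hx, ex ▸ hz⟩), ex, e]⟩

theorem finite_S' [Finite S] (D : QData F S₀ θ S') : Finite S' := by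
  rw [← D.range_eq]
  exact Finite.of_surjective θ.rangeRestrict θ.rangeRestrict_surjective

theorem isPGroup_S' {p : ℕ} (hS : IsPGroup p S) (D : QData F S₀ θ S') : IsPGroup p S' := by
  rw [← D.range_eq]
  exact hS.of_surjective θ.rangeRestrict θ.rangeRestrict_surjective

theorem preimage_normalizer [Finite S] (D : QData F S₀ θ S') {P' : Subgroup Ω'} (hP : P' ≤ S') :
    preimageAlong θ (normalizerIn S' P') = normalizerIn S (preimageAlong θ P') := by
  have := finite_of_le (preimageAlong_le θ P')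
  have := D.finite_S'
  have := finite_of_le hP
  ext g
  constructor
  · intro hg
    obtain ⟨hgS, hg'⟩ := mem_preimageAlong.1 hg
    refine mem_normalizerIn_of_conj hgS fun x hx => ?_
    obtain ⟨hxS, hx'⟩ := mem_preimageAlong.1 hx
    exact mem_preimageAlong.2 ⟨S.mul_mem (S.mul_mem hgS hxS) (S.inv_mem hgS),
      thF_conj θ hgS hxS ▸ normalizerIn_conj hg' hx'⟩
  · intro hg
    refine mem_preimageAlong.2 ⟨hg.1, mem_normalizerIn_of_conj (D.thF_mem hg.1) fun y hy => ?_⟩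
    obtain ⟨x, hx, rfl⟩ := D.exists_eq (hP hy)
    rw [← thF_conj θ hg.1 hx]
    exact (mem_preimageAlong.1 (normalizerIn_conj hg (mem_preimageAlong.2 ⟨hx, hy⟩))).2

theorem card_preimage [Finite S] (D : QData F S₀ θ S') {P' : Subgroup Ω'} (hP : P' ≤ S') :
    Nat.card (preimageAlong θ P') = Nat.card S₀ * Nat.card P' := by
  have h1 : Nat.card (preimageAlong θ P') = Nat.card (P'.comap θ) :=
    Subgroup.card_map_of_injective S.subtype_injective
  have h2 : θ.ker = S₀.subgroupOf S := by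
    ext s
    exact D.ker_iff s
  have hle : θ.ker ≤ P'.comap θ := fun s hs => by
    rw [Subgroup.mem_comap, MonoidHom.mem_ker.1 hs]
    exact P'.one_mem
  have h3 : Nat.card θ.ker = Nat.card S₀ :=
    h2 ▸ Nat.card_congr (Subgroup.subgroupOfEquivOfLe D.le).toEquiv
  have hr : (θ.comp (P'.comap θ).subtype).range = P' := by
    rw [MonoidHom.range_comp, Subgroup.range_subtype, Subgroup.map_comap_eq, D.range_eq,
      inf_eq_right.2 hP]
  rw [h1, ← h3, ← hr, ← Subgroup.index_ker, hr,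
    ← Subgroup.card_mul_index ((θ.comp (P'.comap θ).subtype).ker)]
  congr 1
  exact Nat.card_congr (Subgroup.subgroupOfEquivOfLe hle).toEquiv

theorem fullyNormalized_preimage [Finite S] (D : QData F S₀ θ S') (hE : F.IsFactorSystem S₀ θ E)
    {N' : Subgroup Ω'} (hN : E.IsFullyNormalized N') : F.IsFullyNormalized (preimageAlong θ N') := by
  refine ⟨preimageAlong_le θ _, fun Q hQ => ?_⟩
  obtain ⟨f, hf⟩ := isConj_iff.1 hQ
  have hQS₀ : S₀ ≤ Q := by
    rw [← D.map_S₀_surj hf.1 (D.le_preimage _), ← hf.2]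
    exact Subgroup.closure_mono (Set.image_mono (D.le_preimage _))
  have hQ' : preimageAlong θ (imageAlong θ Q) = Q := by
    rw [D.preimage_image hf.le_right, sup_eq_left.2 hQS₀]
  obtain ⟨f', hf', e⟩ := D.isMap_image hE hf.1 (D.le_preimage _)
  rw [D.image_preimage hN.1] at hf'
  have hiso : IsIso E N' (imageAlong θ Q) f' := by
    refine ⟨hf', IsIso.img_eq_of hf' le_rfl (fun y hy => ?_) fun y hy => ?_⟩
    · obtain ⟨x, hx, rfl⟩ := D.exists_eq (hN.1 hy)
      have hxP : x ∈ preimageAlong θ N' := mem_preimageAlong.2 ⟨hx, hy⟩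
      rw [e x hxP]
      exact mem_imageAlong.2 ⟨f x, hf.mem hxP, hf.1.mem hxP, rfl⟩
    · obtain ⟨z, hz, hzS, rfl⟩ := mem_imageAlong.1 hy
      obtain ⟨x, hx, rfl⟩ := hf.exists_eq hz
      exact ⟨thF θ x, (mem_preimageAlong.1 hx).2, e x hx⟩
  have h := hN.2 _ (isConj_iff.2 ⟨f', hiso⟩)
  rw [← hQ', ← D.preimage_normalizer hiso.le_right, ← D.preimage_normalizer hN.1,
    D.card_preimage (P' := normalizerIn S' _) inf_le_left,
    D.card_preimage (P' := normalizerIn S' _) inf_le_left]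
  exact Nat.mul_le_mul_left _ h

theorem preimage_S' (D : QData F S₀ θ S') : preimageAlong θ S' = S :=
  le_antisymm (preimageAlong_le θ S') fun _ hx => mem_preimageAlong.2 ⟨hx, D.thF_mem hx⟩

theorem fullyAutomized_top [Finite S] {p : ℕ} [Fact p.Prime] (hS : IsPGroup p S)
    (hA : F.IsFullyAutomized p S) (D : QData F S₀ θ S') (hE : F.IsFactorSystem S₀ θ E) :
    E.IsFullyAutomized p S' := by
  have := D.finite_S'
  refine isFullyAutomized_iff.2 ⟨le_rfl, autInducedBy_le_autGroup E le_rfl le_rfl,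
    isPGroup_autInducedBy (D.isPGroup_S' hS), fun C hC hC' hCp => le_antisymm ?_ hC⟩
  intro α hα
  obtain ⟨-, f, hf, h⟩ := (isMap_factor_iff hE).1 ((mem_autGroup_iff le_rfl).1 (hC' hα))
  rw [D.preimage_S'] at hf h
  obtain ⟨a, ha, hae⟩ := exists_aut_of_isIso (F := F)
    ⟨hf, eq_of_le_of_card le_rfl hf.img_le_S (hf.card_img le_rfl).ge⟩
  have hlift : ∀ x : S, ((α ⟨thF θ x, D.thF_mem x.2⟩ : S') : Ω') = thF θ (a x : S) := fun x => by
    rw [hae x, ← h x x.2, autFn_apply α (D.thF_mem x.2)]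
  have hpow : ∀ (n : ℕ) (x : S),
      (((α ^ n) ⟨thF θ x, D.thF_mem x.2⟩ : S') : Ω') = thF θ ((a ^ n) x : S) := by
    intro n
    induction n with
    | zero => intro x; simp
    | succ n ih =>
      intro x
      rw [pow_succ', pow_succ', MulAut.mul_apply, MulAut.mul_apply, ← hlift]
      exact congrArg (fun y : S' => ((α y : S') : Ω')) (Subtype.ext (ih x))
  have := finite_mulAut (S := S) (P := S) le_rfl
  have hp : p.Prime := Fact.out
  set m := orderOf a / p ^ (orderOf a).factorization p with hm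
  have hmp : p.Coprime m := Nat.coprime_ordCompl hp (orderOf_pos a).ne'
  have hbm : (a ^ m) ^ p ^ (orderOf a).factorization p = 1 := by
    rw [← pow_mul, hm, mul_comm, Nat.mul_div_cancel' (Nat.ordProj_dvd _ _), pow_orderOf_eq_one]
  have hU : IsPGroup p (Subgroup.zpowers (a ^ m)) := by
    rintro ⟨_, k, rfl⟩
    refine ⟨(orderOf a).factorization p, Subtype.ext ?_⟩
    show ((a ^ m) ^ k) ^ _ = 1
    rw [← zpow_natCast, ← zpow_mul, mul_comm, zpow_mul, zpow_natCast, hbm, one_zpow]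
  obtain ⟨c, hc, hconj⟩ := (isFullyAutomized_iff.1 hA).2.exists_conj_le hU
    ((Subgroup.zpowers_le).2 (pow_mem ha m))
  obtain ⟨s, hs, hse⟩ := mem_autInducedBy_iff.1 (hconj _ (Subgroup.mem_zpowers _))
  set t : S := c⁻¹ ⟨s, hs⟩ with ht
  have ham : ∀ x : S, (a ^ m) x = t * x * t⁻¹ := by
    intro x
    apply c.injective
    rw [map_mul, map_mul, map_inv, ht, MulAut.apply_inv_self]
    apply Subtype.ext
    have := hse (c x)
    rw [MulAut.mul_apply, MulAut.mul_apply, MulAut.inv_apply_self] at this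
    exact this
  have hαm : α ^ m ∈ autInducedBy S' S' := by
    refine mem_autInducedBy_iff.2 ⟨thF θ t, D.thF_mem t.2, fun y => ?_⟩
    obtain ⟨x, hx, e⟩ := D.exists_eq y.2
    have : y = ⟨thF θ (⟨x, hx⟩ : S), D.thF_mem hx⟩ := Subtype.ext e.symm
    rw [this, hpow, ham]
    exact thF_conj θ t.2 hx
  obtain ⟨k, hk⟩ := hCp ⟨α, hα⟩
  have hord : orderOf α ∣ p ^ k := orderOf_dvd_of_pow_eq_one (congrArg Subtype.val hk)
  obtain ⟨j, hj⟩ := exists_pow_eq_self_of_coprime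
    (Nat.Coprime.coprime_dvd_right hord (hmp.symm.pow_right k))
  exact hj ▸ Subgroup.pow_mem _ hαm j

theorem receptive_factor [Finite S] {p : ℕ} [Fact p.Prime] (hS : IsPGroup p S)
    (hF : F.IsSaturated p) (D : QData F S₀ θ S') (hE : F.IsFactorSystem S₀ θ E)
    {N' : Subgroup Ω'} (hN' : E.IsFullyNormalized N') : E.IsReceptive N' := by
  set N := preimageAlong θ N' with hNdef
  have hNn := D.fullyNormalized_preimage hE hN'
  have hA := fullyAutomized_of_fullyNormalized hS hF hNn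
  have hR := receptive_of_fullyNormalized hS hF hNn
  have hNS : N ≤ S := preimageAlong_le θ N'
  have := finite_mulAut hNS
  refine isReceptive_iff.2 ⟨hN'.1, fun P' f' hf' => ?_⟩
  obtain ⟨f, hf, hff'⟩ := D.exists_lift_iso hE hf'
  set P := preimageAlong θ P' with hPdef
  set G := preimageAlong θ (Nx S' P' f') with hG
  have hGS : G ≤ S := preimageAlong_le θ _
  -- the automorphisms congruent to conjugation by an element of `S`
  let B : Subgroup (MulAut N) :=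
    { carrier := {a | a ∈ F.autGroup N ∧ ∃ s ∈ normalizerIn S N, ∀ x : N,
        thF θ (a x : N) = thF θ (s * x * s⁻¹)}
      one_mem' := ⟨one_mem _, 1, one_mem _, fun x => by simp⟩
      mul_mem' := by
        rintro a b ⟨ha, s, hs, h1⟩ ⟨hb, t, ht, h2⟩
        refine ⟨mul_mem ha hb, s * t, mul_mem hs ht, fun x => ?_⟩
        rw [MulAut.mul_apply, h1, thF_conj θ hs.1 (hNS (b x).2), h2,
          ← thF_conj θ hs.1 (hNS (normalizerIn_conj ht x.2))]
        exact congrArg (thF θ) (by group)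
      inv_mem' := by
        rintro a ⟨ha, s, hs, h1⟩
        refine ⟨inv_mem ha, s⁻¹, inv_mem hs, fun x => ?_⟩
        have h2 := h1 (a⁻¹ x)
        rw [MulAut.apply_inv_self, thF_conj θ hs.1 (hNS (a⁻¹ x).2)] at h2
        rw [thF_conj θ (S.inv_mem hs.1) (hNS x.2), h2, thF_inv θ hs.1]
        group }
  have hTB : autInducedBy S N ≤ B := fun a ha => by
    obtain ⟨s, hs, e⟩ := mem_autInducedBy_iff.1 ha
    exact ⟨autInducedBy_le_autGroup F le_rfl hNS ha, s, mem_normalizerIn_of_aut hs e, fun x => by rw [e]⟩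
  have hBsyl := (isFullyAutomized_iff.1 hA).2.mono hTB fun a ha => ha.1
  have hH : (autInducedBy G P).map (MulAut.congr hf.equiv).toMonoidHom ≤ B := by
    rintro _ ⟨α, hα, rfl⟩
    have hαS : α ∈ autInducedBy S P := autInducedBy_le_of_le hGS hα
    refine ⟨congr_mem_autGroup hf (autInducedBy_le_autGroup F le_rfl hf.le_left hαS), ?_⟩
    obtain ⟨g, hg, hgα⟩ := mem_autInducedBy_iff.1 hα
    obtain ⟨hgS, hg'⟩ := mem_preimageAlong.1 hg
    obtain ⟨hgN', h', hh', hgh⟩ := mem_Nx.1 hg'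
    obtain ⟨h, hh, rfl⟩ := D.exists_eq hh'
    have hhN : h ∈ normalizerIn S N := by
      rw [hNdef, ← D.preimage_normalizer hN'.1]
      refine mem_preimageAlong.2 ⟨hh, ?_⟩
      have := D.finite_S'
      have := finite_of_le hN'.1
      refine mem_normalizerIn_of_conj hh' fun y hy => ?_
      obtain ⟨x, hx, rfl⟩ := hf'.exists_eq hy
      rw [← hgh x hx]
      exact hf'.mem (normalizerIn_conj hgN' hx)
    refine ⟨h, hhN, fun y => ?_⟩
    obtain ⟨x, rfl⟩ := hf.equiv.surjective y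
    have hxS := preimageAlong_le θ P' x.2
    show thF θ (MulAut.congr hf.equiv α (hf.equiv x) : N) = _
    rw [congr_apply_coe, hgα x, hf.equiv_apply, ← hff' _ (hgα x ▸ (α x).2),
      thF_conj θ hgS hxS, hgh _ (mem_preimageAlong.1 x.2).2, hff' x x.2,
      thF_conj θ hh (hf.1.mem x.2)]
  obtain ⟨a, ⟨haF, s, hs, has⟩, hconj⟩ := hBsyl.exists_conj_le
    (((isPGroup_autInducedBy (P := P) hS).to_le (autInducedBy_le_of_le hGS)).map _) hH
  set cs := normConj S N ⟨s, hs⟩ with hcs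
  have hcsT : cs ∈ autInducedBy S N := range_normConj S N ▸ ⟨_, rfl⟩
  set κ := cs⁻¹ * a with hκ
  have hκF : κ ∈ F.autGroup N :=
    mul_mem (inv_mem (autInducedBy_le_autGroup F le_rfl hNS hcsT)) haF
  have hκθ : ∀ x : N, thF θ (κ x : N) = thF θ x := fun x => by
    have e1 : (a x : Ω) = s * (κ x : N) * s⁻¹ := by
      conv_lhs => rw [show a x = cs (κ x) by rw [hκ, MulAut.mul_apply, MulAut.apply_inv_self]]
      rfl
    have h1 := has x
    rw [e1, thF_conj θ hs.1 (hNS (κ x).2), thF_conj θ hs.1 (hNS x.2)] at h1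
    exact mul_left_cancel (mul_right_cancel h1)
  have hf₂ : IsIso F P N (fun x => autFn κ (f x)) := hf.trans (isIso_autFn hNS hκF)
  obtain ⟨ψ, hψ, hψe⟩ := (isReceptive_iff.1 hR).2 P _ hf₂
  have hGle : G ≤ Nx S P (fun x => autFn κ (f x)) := by
    intro g hg
    obtain ⟨hgS, hg'⟩ := mem_preimageAlong.1 hg
    have hgN : g ∈ normalizerIn S P := by
      rw [hPdef, ← D.preimage_normalizer hf'.le_left]
      exact mem_preimageAlong.2 ⟨hgS, (mem_Nx.1 hg').1⟩
    have hα : normConj S P ⟨g, hgN⟩ ∈ autInducedBy G P :=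
      mem_autInducedBy_iff.2 ⟨g, hg, fun x => rfl⟩
    have h3 : κ * MulAut.congr hf.equiv (normConj S P ⟨g, hgN⟩) * κ⁻¹ ∈ autInducedBy S N := by
      have := mul_mem (mul_mem (inv_mem hcsT) (hconj _ ⟨_, hα, rfl⟩)) hcsT
      convert this using 1
      simp only [hκ, mul_inv_rev, inv_inv, mul_assoc, MulEquiv.coe_toMonoidHom]
    obtain ⟨h, hh, e⟩ := mem_autInducedBy_iff.1 h3
    refine mem_Nx.2 ⟨hgN, h, hh, fun x hx => ?_⟩
    have key := e (κ (hf.equiv ⟨x, hx⟩))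
    rw [MulAut.mul_apply, MulAut.mul_apply, MulAut.inv_apply_self] at key
    rw [autFn_apply κ (hf.mem hx), autFn_apply κ (hf.mem (normalizerIn_conj hgN hx))]
    refine Eq.trans ?_ key
    exact congrArg (fun y : N => ((κ y : N) : Ω))
      (Subtype.ext (congr_apply_coe hf (normConj S P ⟨g, hgN⟩) ⟨x, hx⟩).symm)
  have hψG : IsMap F G ψ := hψ.mono hGle
  obtain ⟨ψ', hψ', hψ'e⟩ := D.isMap_image hE hψG (D.le_preimage _)
  have hNxS' : Nx S' P' f' ≤ S' := (Nx_le_normalizerIn S' P' f').trans inf_le_left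
  rw [hG, D.image_preimage hNxS'] at hψ'
  refine ⟨ψ', hψ', fun y hy => ?_⟩
  obtain ⟨x, hx, rfl⟩ := D.exists_eq (hf'.le_left hy)
  have hxP : x ∈ P := mem_preimageAlong.2 ⟨hx, hy⟩
  have hxG : x ∈ G := mem_preimageAlong.2 ⟨hx, le_Nx hf'.1 hy⟩
  rw [hψ'e x hxG, hψe x hxP, hff' x hxP, autFn_apply κ (hf.mem hxP), hκθ]

/-- The factor system of a saturated system is saturated. -/
theorem isSaturated_factor [Finite S] {p : ℕ} [Fact p.Prime] (hS : IsPGroup p S)
    (hF : F.IsSaturated p) (D : QData F S₀ θ S') (hE : F.IsFactorSystem S₀ θ E) :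
    E.IsSaturated p := by
  have := D.finite_S'
  exact isSaturated_of_criterion (D.isPGroup_S' hS)
    (D.fullyAutomized_top hS (fullyAutomized_of_fullyNormalized hS hF (isFullyNormalized_self F)) hE)
    fun N hN => D.receptive_factor hS hF hE hN

end QData

end Cfsg.Agent.Fusion
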