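import Cfsg.Agent.Lib.Fusion.SectionFree
import Cfsg.Agent.Lib.Fusion.Quotient

/-
Sections of local models of a factor system by a normal subgroup.
Main results: `QData.image_iso`, `QData.centric_preimage`, `isSectionFree_factor`.
-/

set_option autoImplicit false

open scoped Classical

namespace Cfsg.Agent.Fusion

open Cfsg Cfsg.FusionSystem

universe u u' v

variable {Ω : Type u} [Group Ω] {S : Subgroup Ω} {F : FusionSystem S} {p : ℕ}
  {Ω' : Type u'} [Group Ω'] {S' : Subgroup Ω'} {S₀ : Subgroup Ω} {θ : S →* Ω'}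
  {E : FusionSystem S'}

namespace QData

/-- An isomorphism from a full preimage induces one of the factor system. -/
theorem image_iso [Finite S] (D : QData F S₀ θ S') (hE : F.IsFactorSystem S₀ θ E)
    {P' : Subgroup Ω'} (hP : P' ≤ S') {R : Subgroup Ω} {f : Ω → Ω}
    (hf : IsIso F (preimageAlong θ P') R f) :
    S₀ ≤ R ∧ preimageAlong θ (imageAlong θ R) = R ∧ ∃ f', IsIso E P' (imageAlong θ R) f' ∧
      ∀ x ∈ preimageAlong θ P', f' (thF θ x) = thF θ (f x) := by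
  have hR : S₀ ≤ R := by
    rw [← D.map_S₀_surj hf.1 (D.le_preimage _), ← hf.2]
    exact Subgroup.closure_mono (Set.image_mono (D.le_preimage _))
  refine ⟨hR, by rw [D.preimage_image hf.le_right, sup_eq_left.2 hR], ?_⟩
  obtain ⟨f', hf', e⟩ := D.isMap_image hE hf.1 (D.le_preimage _)
  rw [D.image_preimage hP] at hf'
  refine ⟨f', ⟨hf', IsIso.img_eq_of hf' le_rfl (fun y hy => ?_) fun y hy => ?_⟩, e⟩
  · obtain ⟨x, hx, rfl⟩ := D.exists_eq (hP hy)
    have hxP : x ∈ preimageAlong θ P' := mem_preimageAlong.2 ⟨hx, hy⟩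
    rw [e x hxP]
    exact mem_imageAlong.2 ⟨f x, hf.mem hxP, hf.1.mem hxP, rfl⟩
  · obtain ⟨z, hz, hzS, rfl⟩ := mem_imageAlong.1 hy
    obtain ⟨x, hx, rfl⟩ := hf.exists_eq hz
    exact ⟨thF θ x, (mem_preimageAlong.1 hx).2, e x hx⟩

theorem centric_preimage [Finite S] (D : QData F S₀ θ S') (hE : F.IsFactorSystem S₀ θ E)
    {P' : Subgroup Ω'} (hc : E.IsCentric P') : F.IsCentric (preimageAlong θ P') := by
  refine ⟨preimageAlong_le θ _, fun R hR => ?_⟩
  obtain ⟨f, hf⟩ := isConj_iff.1 hR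
  obtain ⟨-, hpre, f', hf', -⟩ := D.image_iso hE hc.1 hf
  intro y hy
  rw [← hpre]
  refine mem_preimageAlong.2 ⟨hy.1, hc.2 _ (isConj_iff.2 ⟨f', hf'⟩)
    (mem_centralizerIn.2 ⟨D.thF_mem hy.1, fun z hz => ?_⟩)⟩
  obtain ⟨x, hx, hxS, rfl⟩ := mem_imageAlong.1 hz
  rw [← thF_mul θ hy.1 hxS, ← thF_mul θ hxS hy.1, (mem_centralizerIn.1 hy).2 x hx]

end QData

/-- `H`-freeness passes to the factor system by a normal subgroup. -/
theorem isSectionFree_factor [Finite S] [Fact p.Prime] (hS : IsPGroup p S) (hF : F.IsSaturated p)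
    (hS₀ : F.IsNormal S₀) (hE : F.IsFactorSystem S₀ θ E) {H : Type v} [Group H]
    (hfree : F.IsSectionFree p H) : E.IsSectionFree p H := by
  have D : QData F S₀ θ S' := ⟨stronglyClosed_of_normal hS₀, hE.2.1, hE.2.2.1⟩
  have := D.finite_S'
  have hS' := D.isPGroup_S' hS
  have hsatE := D.isSaturated_factor hS hF hE
  have hp : p.Prime := Fact.out
  intro P' hP'n hP'c E' hE' L _ κ' hκ' hH
  have hP'S := hP'n.1
  have hPn := D.fullyNormalized_preimage hE hP'n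
  have hPc := D.centric_preimage hE hP'c
  set P := preimageAlong θ P' with hP
  obtain ⟨EP, hEP⟩ := exists_normalizerSystem (F := F) hPn.1
  have hM := nc_normalizer hS hF hPn hPc hEP
  have : Finite hM.Mdl := hM.finite_mdl
  have : Finite (normalizerIn S' P') := finite_of_le (S := S') inf_le_left
  have hnc' := nc_normalizer hS' hsatE hP'n hP'c hE'
  have hPW : P ≤ normalizerIn S P := le_normalizerIn hPn.1
  have hS₀P : S₀ ≤ P := D.le_preimage _
  have hWeq : normalizerIn S P = preimageAlong θ (normalizerIn S' P') :=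
    (D.preimage_normalizer hP'S).symm
  -- conjugation on `P` preserves the kernel
  have hconjP : ∀ (m : hM.Mdl) (x : Ω) (hx : x ∈ P),
      m * hM.emb ⟨x, hPW hx⟩ * m⁻¹ =
        hM.emb ⟨autFn ((hM.proj m : EP.autGroup P) : MulAut P) x, hPW (autFn_mem _ hx)⟩ :=
    fun m x hx => (hM.emb_conj m ⟨x, hx⟩).trans
      (congrArg hM.emb (Subtype.ext (autFn_apply _ hx).symm))
  have hprojF : ∀ m : hM.Mdl, ((hM.proj m : EP.autGroup P) : MulAut P) ∈ F.autGroup P := fun m =>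
    autGroup_normalizer hPn.1 hEP ▸ (hM.proj m).2
  have hprojS₀ : ∀ (m : hM.Mdl), ∀ q ∈ S₀,
      autFn ((hM.proj m : EP.autGroup P) : MulAut P) q ∈ S₀ := fun m q hq =>
    (stronglyClosed_iff.1 D.closed).2 P _ (isIso_autFn hPn.1 (hprojF m)).1 q (hS₀P hq) hq
  set KQ : Subgroup hM.Mdl := (S₀.subgroupOf (normalizerIn S P)).map hM.emb
  have hKQn : KQ.Normal := ⟨by
    rintro _ ⟨q, hq, rfl⟩ m
    exact ⟨⟨_, hPW (autFn_mem _ (hS₀P hq))⟩, hprojS₀ m q hq, (hconjP m q (hS₀P hq)).symm⟩⟩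
  set π : normalizerIn S P →* normalizerIn S' P' := MonoidHom.mk'
    (fun w => ⟨thF θ w, (mem_preimageAlong.1 (hWeq.le w.2)).2⟩)
    fun a b => Subtype.ext (thF_mul θ a.2.1 b.2.1)
  have hπ : Function.Surjective π := fun y => by
    obtain ⟨x, hx, e⟩ := D.exists_eq y.2.1
    exact ⟨⟨x, hWeq.ge (mem_preimageAlong.2 ⟨hx, e.symm ▸ y.2⟩)⟩, Subtype.ext e⟩
  have hπker : ∀ w : normalizerIn S P, π w = 1 ↔ (w : Ω) ∈ S₀ := fun w => by
    rw [← D.ker_iff ⟨w, w.2.1⟩, ← thF_apply θ w.2.1]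
    exact Subtype.ext_iff
  set mk := QuotientGroup.mk' KQ with hmk
  have hker : π.ker ≤ (mk.comp hM.emb).ker := fun w hw =>
    (QuotientGroup.eq_one_iff _).2 ⟨w, (hπker w).1 hw, rfl⟩
  set ι : normalizerIn S' P' →* hM.Mdl ⧸ KQ := π.liftOfSurjective hπ ⟨mk.comp hM.emb, hker⟩
  have hιπ : ∀ w, ι (π w) = mk (hM.emb w) := fun w =>
    π.liftOfRightInverse_comp_apply _ (Function.rightInverse_surjInv hπ) _ w
  have hιker : ∀ w : normalizerIn S P, ι (π w) = 1 → (w : Ω) ∈ S₀ := fun w hw => by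
    rw [hιπ] at hw
    obtain ⟨q, hq, e⟩ := (QuotientGroup.eq_one_iff _).1 hw
    exact hM.emb_injective e ▸ hq
  have hιinj : Function.Injective ι := (injective_iff_map_eq_one ι).2 fun y hy => by
    obtain ⟨w, rfl⟩ := hπ y
    exact (hπker w).2 (hιker w hy)
  have hιθ : ∀ (x : Ω) (hx : x ∈ normalizerIn S P),
      ι ⟨thF θ x, (mem_preimageAlong.1 (hWeq.le hx)).2⟩ = mk (hM.emb ⟨x, hx⟩) :=
    fun x hx => hιπ ⟨x, hx⟩
  have hlift : ∀ {A : Subgroup Ω'}, A ≤ normalizerIn S' P' → preimageAlong θ A ≤ normalizerIn S P :=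
    fun hA x hx => hWeq.ge (mem_preimageAlong.2 ⟨(mem_preimageAlong.1 hx).1, hA (mem_preimageAlong.1 hx).2⟩)
  have hreal : E'.IsRealizedBy ι := by
    refine ⟨hιinj, fun A hA φ hφ => ?_⟩
    constructor
    · intro hmem
      obtain ⟨-, -, f', hf', e, hfP⟩ := (isMap_normalizer_iff hP'S hE').1 (isMap_toFn hmem)
      obtain ⟨hle, f, hf, hff'⟩ := (QData.isMap_factor_iff hE).1 hf'
      set W := preimageAlong θ (A ⊔ P')
      have hAP : A ⊔ P' ≤ normalizerIn S' P' := sup_le hA (le_normalizerIn hP'S)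
      have hWN : W ≤ normalizerIn S P := hlift hAP
      have hPW' : P ≤ W := fun x hx => mem_preimageAlong.2
        ⟨(mem_preimageAlong.1 hx).1, Subgroup.mem_sup_right (mem_preimageAlong.1 hx).2⟩
      have hfW : ∀ w ∈ W, f w ∈ normalizerIn S P := fun w hw => by
        refine hWeq.ge (mem_preimageAlong.2 ⟨hf.mem hw, ?_⟩)
        rw [← hff' w hw]
        exact hf'.forall_mem_sup le_sup_left le_sup_right
          (fun y hy => by rw [e y hy, toFn_apply φ hy]; exact hφ _)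
          (fun y hy => le_normalizerIn hP'S (hfP y hy)) (mem_preimageAlong.1 hw).2
      have hfE : IsMap EP W f := (isMap_normalizer_iff hPn.1 hEP).2
        ⟨hWN, hfW, f, hf.mono (sup_le le_rfl hPW'), fun _ _ => rfl, fun x hx =>
          mem_preimageAlong.2 ⟨hf.mem (hPW' hx), by
            rw [← hff' x (hPW' hx)]; exact hfP _ (mem_preimageAlong.1 hx).2⟩⟩
      obtain ⟨m, hm⟩ := (isMap_realized_iff hM.isRealizedBy_emb hWN hfW
        fun a ha b hb => hf.map_mul ha hb).1 hfE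
      refine ⟨mk m, fun a => ?_⟩
      obtain ⟨x, hx, ex⟩ := D.exists_eq ((hA a.2).1)
      have hxW : x ∈ W := mem_preimageAlong.2 ⟨hx, ex.symm ▸ Subgroup.mem_sup_left a.2⟩
      have h1 : (⟨(a : Ω'), hA a.2⟩ : normalizerIn S' P') =
          ⟨thF θ x, (mem_preimageAlong.1 (hWeq.le (hWN hxW))).2⟩ := Subtype.ext ex.symm
      have h2 : (⟨φ a, hφ a⟩ : normalizerIn S' P') =
          ⟨thF θ (f x), (mem_preimageAlong.1 (hWeq.le (hfW x hxW))).2⟩ := Subtype.ext (by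
        show φ a = thF θ (f x)
        rw [← hff' x hxW, ex, e a a.2, toFn_coe])
      rw [h1, h2, hιθ x (hWN hxW), hιθ _ (hfW x hxW), ← map_inv, ← map_mul, ← map_mul,
        hm x hxW]
    · rintro ⟨mq, hm⟩
      obtain ⟨m, rfl⟩ := QuotientGroup.mk'_surjective KQ mq
      set W := preimageAlong θ A ⊔ P
      have hWN : W ≤ normalizerIn S P := sup_le (hlift hA) hPW
      have hrange : ∀ (w : Ω) (hw : w ∈ W),
          ∃ s, m * hM.emb ⟨w, hWN hw⟩ * m⁻¹ = hM.emb s := by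
        intro w hw
        have hle : W ≤ (hM.emb.range.comap ((MulAut.conj m).toMonoidHom.comp hM.emb)).map
            (normalizerIn S P).subtype := by
          refine sup_le (fun x hx => ⟨⟨x, hlift hA hx⟩, ?_, rfl⟩)
            fun x hx => ⟨⟨x, hPW hx⟩, ⟨_, (hconjP m x hx).symm⟩, rfl⟩
          obtain ⟨y, hy⟩ := hπ ⟨φ ⟨_, (mem_preimageAlong.1 hx).2⟩, hφ _⟩
          have h1 := hm ⟨_, (mem_preimageAlong.1 hx).2⟩
          rw [← hy, hιπ, hιθ x (hlift hA hx), ← map_inv, ← map_mul, ← map_mul, hmk,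
            QuotientGroup.mk'_eq_mk'] at h1
          obtain ⟨z, ⟨q, -, hq⟩, h1⟩ := h1
          exact ⟨y * q, by rw [map_mul, hq]; exact h1⟩
        obtain ⟨⟨w, hwN⟩, ⟨s, hs⟩, rfl⟩ := hle hw
        exact ⟨s, hs.symm⟩
      obtain ⟨g, hg, hgm⟩ := exists_map_of_conj hM.isRealizedBy_emb hWN m hrange
      obtain ⟨-, -, g₀, hg₀, hgg₀, -⟩ := (isMap_normalizer_iff hPn.1 hEP).1 hg
      have hgF : IsMap F W g := (hg₀.mono le_sup_left).congr hgg₀
      obtain ⟨g', hg', hgg'⟩ := D.isMap_image hE hgF (hS₀P.trans le_sup_right)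
      have hgA : ∀ a : A, g' a = φ a := fun a => by
        obtain ⟨x, hx, ex⟩ := D.exists_eq ((hA a.2).1)
        have hxA : x ∈ preimageAlong θ A := mem_preimageAlong.2 ⟨hx, ex.symm ▸ a.2⟩
        obtain ⟨hgx, e⟩ := hgm x (Subgroup.mem_sup_left hxA)
        have h1 := hm a
        have h2 : (⟨(a : Ω'), hA a.2⟩ : normalizerIn S' P') =
            ⟨thF θ x, (mem_preimageAlong.1 (hWeq.le (hlift hA hxA))).2⟩ := Subtype.ext ex.symm
        rw [h2, hιθ x (hlift hA hxA), ← map_inv, ← map_mul, ← map_mul, e, ← hιθ _ hgx] at h1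
        rw [← ex, hgg' x (Subgroup.mem_sup_left hxA)]
        exact (congrArg Subtype.val (hιinj h1)).symm
      have hAP : A ⊔ P' ≤ imageAlong θ W := sup_le
        (fun y hy => by
          obtain ⟨x, hx, ex⟩ := D.exists_eq ((hA hy).1)
          exact mem_imageAlong.2 ⟨x, Subgroup.mem_sup_left (mem_preimageAlong.2 ⟨hx, ex.symm ▸ hy⟩),
            hx, ex⟩)
        (fun y hy => by
          obtain ⟨x, hx, ex⟩ := D.exists_eq (hP'S hy)
          exact mem_imageAlong.2 ⟨x, Subgroup.mem_sup_right (mem_preimageAlong.2 ⟨hx, ex.symm ▸ hy⟩),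
            hx, ex⟩)
      refine mem_of_isMap ((isMap_normalizer_iff hP'S hE').2 ⟨hA,
        fun y hy => (hgA ⟨y, hy⟩).symm ▸ hφ ⟨y, hy⟩, g', hg'.mono hAP, fun _ _ => rfl,
        fun y hy => ?_⟩) fun a => (hgA a).symm
      obtain ⟨x, hx, ex⟩ := D.exists_eq (hP'S hy)
      have hxP : x ∈ P := mem_preimageAlong.2 ⟨hx, ex.symm ▸ hy⟩
      obtain ⟨hgx, e⟩ := hgm x (Subgroup.mem_sup_right hxP)
      rw [← ex, hgg' x (Subgroup.mem_sup_right hxP)]
      have h1 : g x = autFn ((hM.proj m : EP.autGroup P) : MulAut P) x :=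
        congrArg Subtype.val (hM.emb_injective (e.symm.trans (hconjP m x hxP)))
      rw [h1]
      exact (mem_preimageAlong.1 (autFn_mem _ hxP)).2
  have hn : ∀ (g : hM.Mdl ⧸ KQ) (x : normalizerIn S' P'), (x : Ω') ∈ P' →
      ∃ y : normalizerIn S' P', (y : Ω') ∈ P' ∧ g * ι x * g⁻¹ = ι y := by
    intro g x hx
    obtain ⟨m, rfl⟩ := QuotientGroup.mk'_surjective KQ g
    obtain ⟨w, rfl⟩ := hπ x
    have hwP : (w : Ω) ∈ P := mem_preimageAlong.2 ⟨w.2.1, hx⟩
    refine ⟨π ⟨_, hPW (autFn_mem ((hM.proj m : EP.autGroup P) : MulAut P) hwP)⟩,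
      (mem_preimageAlong.1 (autFn_mem _ hwP)).2, ?_⟩
    rw [hιπ, hιπ, ← map_inv, ← map_mul, ← map_mul, hconjP m w hwP]
  have hC : ∀ g : hM.Mdl ⧸ KQ, (∀ x : normalizerIn S' P', (x : Ω') ∈ P' → g * ι x * g⁻¹ = ι x) →
      (∃ k : ℕ, orderOf g = p ^ k) → ∃ z : normalizerIn S' P', (z : Ω') ∈ P' ∧ ι z = g := by
    rintro g hg ⟨n, hn⟩
    obtain ⟨c₀, rfl⟩ := QuotientGroup.mk'_surjective KQ g
    obtain ⟨d, hd, k, hk⟩ := Agent.Involves.exists_primary_pow (q := p) c₀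
    obtain ⟨i, hi⟩ := exists_pow_eq_self_of_coprime (G := hM.Mdl ⧸ KQ) (n := d) (x := mk c₀)
      (hn.symm ▸ ((hp.coprime_iff_not_dvd.2 hd).pow_left n).symm)
    set c := (c₀ ^ d) ^ i with hc
    have hmkc : mk c = mk c₀ := by rw [hc, map_pow, map_pow]; exact hi
    have hcp : IsPGroup p (Subgroup.zpowers c) := by
      refine IsPGroup.to_le (IsPGroup.of_card (n := k) ((Nat.card_zpowers _).trans hk)) ?_
      exact (Subgroup.zpowers_le).2 (pow_mem (Subgroup.mem_zpowers _) i)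
    obtain ⟨T₀, hT₀⟩ := hM.isModel_emb.2.2.1
    obtain ⟨R, hR⟩ := hcp.exists_le_sylow
    obtain ⟨m₀, hm₀⟩ := MulAction.exists_smul_eq hM.Mdl R T₀
    have hy : m₀ * c * m₀⁻¹ ∈ hM.emb.range := by
      rw [← hT₀, ← hm₀]
      exact Subgroup.smul_mem_pointwise_smul _ (MulAut.conj m₀) (R : Subgroup hM.Mdl)
        (hR (Subgroup.mem_zpowers c))
    obtain ⟨y, hy⟩ := hy
    set a := ((hM.proj m₀ : EP.autGroup P) : MulAut P)
    have hyP : (y : Ω) ∈ P := by
      refine mem_preimageAlong.2 ⟨y.2.1, hP'c.2 P' (isConj_refl E hP'S)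
        (mem_centralizerIn.2 ⟨D.thF_mem y.2.1, fun z hz => ?_⟩)⟩
      obtain ⟨x', hx', rfl⟩ := D.exists_eq (hP'S hz)
      have hx'P : x' ∈ P := mem_preimageAlong.2 ⟨hx', hz⟩
      obtain ⟨⟨x, hx⟩, hax⟩ := a.surjective ⟨x', hx'P⟩
      have hax' : autFn a x = x' := by rw [autFn_apply a hx]; exact congrArg Subtype.val hax
      have h1 := hg (π ⟨x, hPW hx⟩) (mem_preimageAlong.1 hx).2
      rw [hιπ, ← hmkc, ← map_inv, ← map_mul, ← map_mul] at h1
      have h4 := congrArg (fun t => mk m₀ * t * (mk m₀)⁻¹) h1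
      simp only [← map_inv, ← map_mul] at h4
      have h5 : m₀ * (c * hM.emb ⟨x, hPW hx⟩ * c⁻¹) * m₀⁻¹ =
          hM.emb (y * ⟨x', hPW hx'P⟩ * y⁻¹) := by
        rw [map_mul, map_mul, map_inv, hy,
          show (⟨x', hPW hx'P⟩ : normalizerIn S P) = ⟨autFn a x, hPW (autFn_mem a hx)⟩ from
            Subtype.ext hax'.symm, ← hconjP m₀ x hx]
        group
      have h6 : m₀ * hM.emb ⟨x, hPW hx⟩ * m₀⁻¹ = hM.emb ⟨x', hPW hx'P⟩ := by
        rw [hconjP m₀ x hx]
        exact congrArg hM.emb (Subtype.ext hax')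
      rw [h5, h6, ← hιπ, ← hιπ] at h4
      have h7 := congrArg Subtype.val (hιinj h4)
      simp only [map_mul, map_inv, Subgroup.coe_mul, Subgroup.coe_inv] at h7
      exact mul_inv_eq_iff_eq_mul.1 h7
    obtain ⟨⟨x, hx⟩, hax⟩ := a.surjective ⟨y, hyP⟩
    have h2 : hM.emb ⟨x, hPW hx⟩ = c := by
      have h3 := hconjP m₀ x hx
      rw [show (⟨autFn a x, hPW (autFn_mem a hx)⟩ : normalizerIn S P) = y from
        Subtype.ext ((autFn_apply a hx).trans (congrArg Subtype.val hax)), hy] at h3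
      exact mul_left_cancel (mul_right_cancel h3)
    exact ⟨π ⟨x, hPW hx⟩, (mem_preimageAlong.1 hx).2, by rw [hιπ, h2, hmkc]⟩
  have h := involves_of_model hnc' hreal hn hC hκ' hH
  exact hfree P hPn hPc EP hEP hM.Mdl hM.emb hM.isModel_emb
    (Agent.Involves.involves_of_surjective mk (QuotientGroup.mk'_surjective KQ) h)

end Cfsg.Agent.Fusion
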