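import Cfsg.Agent.Lib.Fusion.Normal

/-
The lower central series of a normal subgroup is strongly closed.
Main results: `stronglyClosed_lowerCentralSeries`, `exists_central_series_of_normal`,
`exists_abelian_stronglyClosed_of_normal`, `core_eq_bot_iff`.
-/

set_option autoImplicit false

namespace Cfsg.Agent.Fusion

open Cfsg Cfsg.FusionSystem

variable {Ω : Type*} [Group Ω] {S : Subgroup Ω} {F : FusionSystem S}

theorem lowerCentralSeries_mono_left {A B : Subgroup Ω} (h : A ≤ B) (k : ℕ) :
    A.lowerCentralSeries k ≤ B.lowerCentralSeries k := by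
  induction k with
  | zero => exact h
  | succ k ih => exact Subgroup.commutator_mono ih h

theorem lowerCentralSeries_le_self (A : Subgroup Ω) (k : ℕ) : A.lowerCentralSeries k ≤ A :=
  A.lowerCentralSeries_antitone (Nat.zero_le k)

theorem lowerCentralSeries_invariant {Q : Subgroup Ω} {f : Ω → Ω} (hf : IsMap F Q f)
    (h : ∀ x ∈ Q, f x ∈ Q) (k : ℕ) : ∀ x ∈ Q.lowerCentralSeries k, f x ∈ Q.lowerCentralSeries k := by
  obtain ⟨φ, -, e⟩ := hf
  intro x hx
  rw [← Subgroup.top_subtype_lowerCentralSeries] at hx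
  obtain ⟨⟨y, hy⟩, hy', rfl⟩ := hx
  have h1 := Subgroup.mem_map_of_mem φ hy'
  rw [Subgroup.map_lowerCentralSeries] at h1
  have hle : (⊤ : Subgroup Q).map φ ≤ Q := by
    rintro _ ⟨z, -, rfl⟩
    rw [e z z.2]
    exact h z z.2
  have h2 := lowerCentralSeries_mono_left hle k h1
  rwa [e y hy] at h2

theorem stronglyClosed_lowerCentralSeries [Finite S] {Q : Subgroup Ω} (hQ : F.IsNormal Q)
    (k : ℕ) : F.StronglyClosed (Q.lowerCentralSeries k) := by
  refine stronglyClosed_iff.2
    ⟨(lowerCentralSeries_le_self Q k).trans hQ.1, fun P f hf x hxP hx => ?_⟩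
  obtain ⟨g, hg, hgf, hgQ⟩ := (FusionChain.isNormal_iff.1 hQ).2 P f hf
  rw [← hgf x hxP]
  exact lowerCentralSeries_invariant (hg.mono le_sup_right) hgQ k x hx

theorem exists_lowerCentralSeries_eq_bot [Finite S] {p : ℕ} [Fact p.Prime] (hS : IsPGroup p S)
    {Q : Subgroup Ω} (hQ : Q ≤ S) : ∃ n, Q.lowerCentralSeries n = ⊥ := by
  have := finite_of_le hQ
  exact (Subgroup.isNilpotent_iff_lowerCentralSeries Q).1 (hS.to_le hQ).isNilpotent

/-- The last nontrivial term of the lower central series is abelian and strongly closed. -/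
theorem exists_abelian_stronglyClosed_of_normal [Finite S] {p : ℕ} [Fact p.Prime]
    (hS : IsPGroup p S) {Q : Subgroup Ω} (hQ : F.IsNormal Q) (hne : Q ≠ ⊥) :
    ∃ A : Subgroup Ω, A ≠ ⊥ ∧ IsMulCommutative A ∧ F.StronglyClosed A := by
  classical
  have hex := exists_lowerCentralSeries_eq_bot hS hQ.1
  set n := Nat.find hex with hn
  obtain ⟨m, hm⟩ : ∃ m, n = m + 1 :=
    ⟨n - 1, (Nat.succ_pred_eq_of_ne_zero fun h0 => hne (by
      have := Nat.find_spec hex
      rw [← hn, h0] at this
      exact this)).symm⟩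
  refine ⟨Q.lowerCentralSeries m, Nat.find_min hex (by omega), ?_,
    stronglyClosed_lowerCentralSeries hQ m⟩
  refine Subgroup.le_centralizer_iff_isMulCommutative.1 ?_
  rw [← Subgroup.commutator_eq_bot_iff_le_centralizer, ← le_bot_iff]
  have := Nat.find_spec hex
  rw [← hn, hm, Subgroup.lowerCentralSeries_succ] at this
  exact (Subgroup.commutator_mono le_rfl (lowerCentralSeries_le_self Q m)).trans this.le

theorem normal_le_core {Q : Subgroup Ω} (hQ : F.IsNormal Q) : Q ≤ F.core := le_sSup hQ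

theorem core_ne_bot_iff : F.core ≠ ⊥ ↔ ∃ Q, F.IsNormal Q ∧ Q ≠ ⊥ := by
  constructor
  · intro h
    by_contra hne
    push Not at hne
    exact h (sSup_eq_bot.2 hne)
  · rintro ⟨Q, hQ, hne⟩ h
    exact hne (le_bot_iff.1 (h ▸ normal_le_core hQ))

end Cfsg.Agent.Fusion
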