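import Cfsg.Agent.Lib.Fusion.Quotient
import Cfsg.Agent.Lib.Fusion.NormalSeries
import Cfsg.Agent.Lib.FusionChain.Puig

/-
A strongly closed subgroup that is abelian over a normal subgroup with a p-group automizer is normal.
Main results: `conj_of_normal_pAut`, `isNormal_of_abelian_over`, `QData.stronglyClosed_preimage`,
`QData.isNormal_preimage_of_abelian`.
-/

set_option autoImplicit false

open scoped Classical

namespace Cfsg.Agent.Fusion

open Cfsg Cfsg.FusionSystem

variable {Ω : Type*} [Group Ω] {S : Subgroup Ω} {F : FusionSystem S} {p : ℕ}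

theorem autGroup_eq_autS [Finite S] [Fact p.Prime] (hS : IsPGroup p S) (hF : F.IsSaturated p)
    {Q : Subgroup Ω} (hQ : F.IsFullyNormalized Q) (hA : IsPGroup p (F.autGroup Q)) :
    F.autGroup Q = autInducedBy S Q := by
  have h := (isFullyAutomized_iff.1 (fullyAutomized_of_fullyNormalized hS hF hQ)).2
  exact h.2.2 _ h.le le_rfl hA

/-- Maps act on a normal subgroup with `p`-group automizer as conjugation by elements of `S`. -/
theorem conj_of_normal_pAut [Finite S] [Fact p.Prime] (hS : IsPGroup p S) (hF : F.IsSaturated p)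
    {Q : Subgroup Ω} (hQ : F.IsNormal Q) (hA : IsPGroup p (F.autGroup Q)) {P : Subgroup Ω}
    {f : Ω → Ω} (hf : IsMap F P f) : ∃ s ∈ S, ∀ x ∈ P, x ∈ Q → f x = s * x * s⁻¹ := by
  obtain ⟨α, hα, e⟩ := FusionChain.exists_top_extension_of_normal hQ hf
  have hn : F.IsFullyNormalized Q := by
    refine ⟨hQ.1, fun R hR => ?_⟩
    obtain ⟨g, hg⟩ := isConj_iff.1 hR
    rw [show R = Q from eq_of_le_of_card hQ.1 (fun y hy => by
      obtain ⟨x, hx, rfl⟩ := hg.exists_eq hy
      exact FusionChain.mapsTo_of_normal hQ hg.1 le_rfl x hx) hg.card_eq.ge]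
  rw [autGroup_eq_autS hS hF hn hA] at hα
  obtain ⟨s, hs, hse⟩ := mem_autInducedBy_iff.1 hα
  exact ⟨s, hs, fun x hxP hx => by rw [← e x hxP hx, autFn_apply α hx, hse]⟩

theorem iterCommutator_invariant {A B : Subgroup Ω} (f : Ω →* Ω) (hA : A.map f = A)
    (hB : B.map f = B) (k : ℕ) : (iterCommutator A B k).map f = iterCommutator A B k := by
  induction k with
  | zero => exact hA
  | succ k ih =>
    show (⁅iterCommutator A B k, B⁆).map f = ⁅iterCommutator A B k, B⁆
    rw [Subgroup.map_commutator, ih, hB]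

/-- A strongly closed `Q` abelian over a normal `Q₁` with `p`-group automizer is normal. -/
theorem isNormal_of_abelian_over [Finite S] [Fact p.Prime] (hS : IsPGroup p S)
    (hF : F.IsSaturated p) {Q Q₁ : Subgroup Ω} (hQ : F.StronglyClosed Q) (hle : Q₁ ≤ Q)
    (hQ₁ : F.IsNormal Q₁) (hab : ⁅Q, Q⁆ ≤ Q₁) (hA : IsPGroup p (F.autGroup Q₁)) :
    F.IsNormal Q := by
  have hn₁ := normalizes_of_stronglyClosed (stronglyClosed_of_normal hQ₁)
  have hn := normalizes_of_stronglyClosed hQ
  have hWle : ∀ k, iterCommutator Q₁ Q k ≤ Q₁ := by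
    intro k
    induction k with
    | zero => exact le_rfl
    | succ k ih =>
      exact (Subgroup.commutator_mono ih le_rfl).trans
        (Subgroup.le_normalizer_iff_commutator_le_left.1 (hQ.1.trans hn₁))
  have hanti : Antitone (iterCommutator Q₁ Q) := antitone_nat_of_succ_le fun k => by
    induction k with
    | zero => exact hWle 1
    | succ k ih => exact Subgroup.commutator_mono ih le_rfl
  have hL : ∀ k, iterCommutator Q₁ Q k ≤ S.lowerCentralSeries k := by
    intro k
    induction k with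
    | zero => exact hQ₁.1
    | succ k ih => exact Subgroup.commutator_mono ih hQ.1
  obtain ⟨c, hc⟩ := exists_lowerCentralSeries_eq_bot hS (le_refl S)
  have hbot : iterCommutator Q₁ Q c = ⊥ := le_bot_iff.1 ((hL c).trans hc.le)
  have hsc : ∀ k, F.StronglyClosed (iterCommutator Q₁ Q k) := fun k => by
    refine stronglyClosed_iff.2 ⟨(hWle k).trans hQ₁.1, fun P f hf x hxP hx => ?_⟩
    obtain ⟨s, hs, e⟩ := conj_of_normal_pAut hS hF hQ₁ hA hf
    rw [e x hxP (hWle k hx)]
    have h1 : ∀ R : Subgroup Ω, S ≤ Subgroup.normalizer (R : Set Ω) →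
        R.map (MulAut.conj s).toMonoidHom = R := fun R hR => by
      refine le_antisymm ?_ fun y hy => ⟨s⁻¹ * y * s, ?_, ?_⟩
      · rintro _ ⟨y, hy, rfl⟩
        exact (Subgroup.mem_normalizer_iff.1 (hR hs) y).1 hy
      · refine (Subgroup.mem_normalizer_iff.1 (hR hs) _).2 ?_
        simpa [mul_assoc] using hy
      · simp [MulAut.conj_apply, mul_assoc]
    rw [← iterCommutator_invariant (MulAut.conj s).toMonoidHom (h1 _ hn₁) (h1 _ hn) k]
    exact ⟨x, hx, rfl⟩
  refine isNormal_of_chain hS hF (c + 1)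
    (fun i => if i ≤ c then iterCommutator Q₁ Q (c - i) else Q)
    (by simp [hbot]) (by simp) ?_ hQ (fun i _ _ => ?_) fun i hi => ?_
  · refine monotone_nat_of_le_succ fun i => ?_
    split_ifs with h1 h2
    · exact hanti (by omega)
    · exact (hWle _).trans hle
    · omega
    · exact le_rfl
  · split_ifs
    · exact hsc _
    · exact hQ
  · rw [if_pos (by omega : i ≤ c)]
    split_ifs with h1
    · rw [Subgroup.commutator_comm, show c - i = c - (i + 1) + 1 by omega]
      exact le_rfl
    · rw [show c - i = 0 by omega]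
      exact hab

namespace QData

variable {Ω' : Type*} [Group Ω'] {S' : Subgroup Ω'} {S₀ : Subgroup Ω} {θ : S →* Ω'}
  {E : FusionSystem S'}

theorem stronglyClosed_preimage [Finite S] [Fact p.Prime] (hS : IsPGroup p S)
    (hF : F.IsSaturated p) (D : QData F S₀ θ S') (hE : F.IsFactorSystem S₀ θ E)
    {V' : Subgroup Ω'} (hV : E.StronglyClosed V') : F.StronglyClosed (preimageAlong θ V') := by
  refine stronglyClosed_iff.2 ⟨preimageAlong_le θ _, fun P f hf x hxP hx => ?_⟩
  obtain ⟨g, hg, hgf⟩ := FusionChain.exists_map_congr_mod hS hF D.closed hf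
  obtain ⟨g', hg', e⟩ := D.isMap_image hE hg le_sup_right
  have hxM : x ∈ P ⊔ S₀ := Subgroup.mem_sup_left hxP
  refine mem_preimageAlong.2 ⟨hf.mem hxP, ?_⟩
  rw [← (D.thF_eq_iff (hg.mem hxM) (hf.mem hxP)).2 (hgf x hxP), ← e x hxM]
  exact (stronglyClosed_iff.1 hV).2 _ g' hg' _
    (mem_imageAlong.2 ⟨x, hxM, hf.le hxP, rfl⟩) (mem_preimageAlong.1 hx).2

/-- An abelian strongly closed subgroup of a factor system by a normal subgroup with `p`-group
automizer has normal preimage. -/
theorem isNormal_preimage_of_abelian [Finite S] [Fact p.Prime] (hS : IsPGroup p S)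
    (hF : F.IsSaturated p) (D : QData F S₀ θ S') (hE : F.IsFactorSystem S₀ θ E)
    (hS₀ : F.IsNormal S₀) (hA : IsPGroup p (F.autGroup S₀)) {V' : Subgroup Ω'}
    (hV : E.StronglyClosed V') (hab : IsMulCommutative V') :
    F.IsNormal (preimageAlong θ V') := by
  refine isNormal_of_abelian_over hS hF (D.stronglyClosed_preimage hS hF hE hV) (D.le_preimage V')
    hS₀ (Subgroup.commutator_le.2 fun a ha b hb => ?_) hA
  obtain ⟨haS, ha'⟩ := mem_preimageAlong.1 ha
  obtain ⟨hbS, hb'⟩ := mem_preimageAlong.1 hb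
  have h0 : thF θ (a * b) = thF θ (b * a) := by
    rw [thF_mul θ haS hbS, thF_mul θ hbS haS]
    exact congrArg Subtype.val (hab.is_comm.comm ⟨_, ha'⟩ ⟨_, hb'⟩)
  have h1 := (D.thF_eq_iff (S.mul_mem haS hbS) (S.mul_mem hbS haS)).1 h0
  have hS₀n := normalizes_of_stronglyClosed (stronglyClosed_of_normal hS₀)
  have h2 := (Subgroup.mem_normalizer_iff.1 (hS₀n (S.mul_mem haS hbS)) _).1 (inv_mem h1)
  rw [commutatorElement_def]
  simpa [mul_assoc] using h2

end QData

end Cfsg.Agent.Fusion
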