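import Cfsg.Agent.Lib.Fusion.GroupBridge
import Cfsg.Agent.Lib.Fusion.FactorFree
import Cfsg.Agent.S2800

/-
Thompson's normal p-complement criteria for fusion systems.
Main results: `not_involves_of_constrained`, `thompsonCrit`, `pAut_of_thompson`, `pAut_of_char`.
-/

set_option autoImplicit false

open scoped Classical

namespace Cfsg.Agent.Fusion

open Cfsg Cfsg.FusionSystem

universe u v

variable {Ω : Type u} [Group Ω] {S : Subgroup Ω} {F : FusionSystem S} {p : ℕ}

/-- In an `H`-free constrained system the model is `H`-free. -/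
theorem not_involves_of_constrained [Finite S] [Fact p.Prime] (hS : IsPGroup p S)
    (hc : F.IsConstrained p) {H : Type v} [Group H] (hfree : F.IsSectionFree p H) :
    ¬ Cfsg.Involves H (nc_core hS hc).Mdl := by
  set h := nc_core hS hc
  have hQn : F.IsNormal F.core := h.nor
  have hNS : normalizerIn S F.core = S :=
    inf_eq_left.2 (normalizes_of_stronglyClosed (stronglyClosed_of_normal hQn))
  obtain ⟨N, hN⟩ := exists_normalizerSystem (F := F) hQn.1
  have hhom : ∀ P, F.Hom P = N.Hom P := fun P => Set.Subset.antisymm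
    (fun φ hφ => (isSubsystemOf_normalizer_iff hQn.1 hN).2 hQn P hφ)
    fun φ hφ => sub_normalizer hN P hφ
  obtain ⟨κ, hκ⟩ := isModel_congr hNS.symm hhom h.isModel_emb
  exact hfree F.core (fullyNormalized_of_normal hQn) h.cen N hN _ κ hκ

theorem map_center_self {Ω' : Type u} [Group Ω'] (f : Ω →* Ω') (K : Subgroup Ω)
    (hf : Set.InjOn f K) : (K ⊓ Subgroup.centralizer (K : Set Ω)).map f =
      K.map f ⊓ Subgroup.centralizer (K.map f : Set Ω') :=
  PLocal.map_inf_centralizer_self f hf

theorem center_ne_bot [Finite S] [Fact p.Prime] (hS : IsPGroup p S) (hne : S ≠ ⊥) :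
    S ⊓ Subgroup.centralizer (S : Set Ω) ≠ ⊥ := by
  intro e
  have : Nontrivial S := (Subgroup.nontrivial_iff_ne_bot S).2 hne
  obtain ⟨z, hz, hz1, -⟩ := PLocal.exists_central_of_order_p (G := S) (H := ⊤)
    (hS.to_subgroup ⊤) top_ne_bot
  apply hz1
  have h2 := Subgroup.mem_map_of_mem S.subtype hz
  rw [map_center_self _ _ S.subtype_injective.injOn, ← MonoidHom.range_eq_map, S.range_subtype, e,
    Subgroup.mem_bot] at h2
  exact Subtype.ext h2

theorem thompsonA_ne_bot [Finite S] [Fact p.Prime] (hS : IsPGroup p S) (hne : S ≠ ⊥) :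
    thompsonSubgroupAOf S ≠ ⊥ := by
  intro e
  have : Nontrivial S := (Subgroup.nontrivial_iff_ne_bot S).2 hne
  obtain ⟨z, hz, hz1, -⟩ := PLocal.exists_central_of_order_p (G := S) (H := ⊤)
    (hS.to_subgroup ⊤) top_ne_bot
  apply hz1
  have h2 := Subgroup.mem_map_of_mem S.subtype (PLocal.central_le_centerThompsonAOf hz)
  rw [PLocal.map_centerThompsonAOf _ S.subtype_injective.injOn, ← MonoidHom.range_eq_map,
    S.range_subtype] at h2
  have h3 : (z : Ω) ∈ thompsonSubgroupAOf S := h2.1
  rw [e, Subgroup.mem_bot] at h3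
  exact Subtype.ext h3

theorem centralizerIn_thompsonA_le [Finite S] :
    centralizerIn S (thompsonSubgroupAOf S) ≤ thompsonSubgroupAOf S := by
  intro x hx
  have hxS : x ∈ S := hx.1
  obtain ⟨A, hA⟩ := PLocal.exists_maxIn (G := S) (Q := PLocal.abelian) PLocal.abelian_bot ⊤
  have hAJ : A ≤ thompsonSubgroupAOf (⊤ : Subgroup S) := by
    rw [PLocal.thompsonSubgroupAOf_eq]; exact le_sSup hA
  have hmap : (thompsonSubgroupAOf (⊤ : Subgroup S)).map S.subtype = thompsonSubgroupAOf S := by
    rw [PLocal.map_thompsonSubgroupAOf _ S.subtype_injective.injOn, ← MonoidHom.range_eq_map,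
      S.range_subtype]
  have hxA : (⟨x, hxS⟩ : S) ∈ A := PLocal.mem_of_centralizes_abelian hA (Subgroup.mem_top _)
    (Subgroup.mem_centralizer_iff.2 fun a ha => Subtype.ext
      ((mem_centralizerIn.1 hx).2 a (hmap ▸ Subgroup.mem_map_of_mem _ (hAJ ha))).symm)
  exact hmap ▸ Subgroup.mem_map_of_mem S.subtype (hAJ hxA)

/-- The criterion of Thompson: `C(Z(S))` and `N(J(S))`, for `p` odd or `S₄`-free systems. -/
def thompsonCrit (p : ℕ) [Fact p.Prime] : Crit.{u} p where
  H Ω _ S F := CPAut p F (S ⊓ Subgroup.centralizer (S : Set Ω)) ∧ NPAut p F (thompsonSubgroupAOf S)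
  Ok _ _ _ F := p ≠ 2 ∨ F.IsSectionFree p (Equiv.Perm (Fin 4))
  W Ω _ R := {R ⊓ Subgroup.centralizer (R : Set Ω), thompsonSubgroupAOf R}
  W_spec := by
    intro Ω _ R _ hR hne X hX
    rcases hX with rfl | hX
    · exact ⟨inf_le_left, center_ne_bot hR hne, le_normalizer_of_functorial
        (fun {X} [Group X] K => K ⊓ Subgroup.centralizer (K : Set X))
        (fun f K hf => PLocal.map_inf_centralizer_self f hf) R⟩
    · obtain rfl := Set.mem_singleton_iff.1 hX
      exact ⟨PLocal.thompsonSubgroupAOf_le R, thompsonA_ne_bot hR hne,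
        PLocal.normalizer_le_normalizer_thompsonSubgroupAOf R⟩
  mono := by
    intro Ω _ S T F E hT hE h
    subst hT
    exact ⟨h.1.sub hE, h.2.sub hE⟩
  of_npaut := fun _ _ _ _ _ _ _ h => ⟨(h _ (Or.inl rfl)).cpaut, h _ (Or.inr rfl)⟩
  ok_normalizer := fun _ _ _ _ _ _ _ hS hF hX hE h =>
    h.imp_right fun hfree => isSectionFree_normalizer hS hF hX hE hfree
  ok_factor := fun _ _ _ _ _ _ _ _ _ _ _ hS hF hU hE h =>
    h.imp_right fun hfree => isSectionFree_factor hS hF hU hE hfree

/-- Thompson's criterion. -/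
theorem pAut_of_thompson [Finite S] [Fact p.Prime] (hS : IsPGroup p S) (hF : F.IsSaturated p)
    (hOk : p ≠ 2 ∨ F.IsSectionFree p (Equiv.Perm (Fin 4)))
    (hC : CPAut p F (S ⊓ Subgroup.centralizer (S : Set Ω)))
    (hN : NPAut p F (thompsonSubgroupAOf S)) : PAut p F := by
  refine (thompsonCrit.{u} p).pAut (fun Ω _ S _ F hS hc hOk hH _ => ?_) hS hF hOk ⟨hC, hN⟩
  have hnc := nc_core hS hc
  have hm := hnc.isModel_emb
  obtain ⟨hfin, hι, ⟨T, hT⟩, -⟩ := hm
  have hN := hnpc_normalizer_of_npaut hι ⟨T, hT⟩ (PLocal.thompsonSubgroupAOf_le S)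
    (Subgroup.le_normalizer.trans (PLocal.normalizer_le_normalizer_thompsonSubgroupAOf S)) hH.2
  rw [subgroupOf_map_eq (fun {X} [Group X] K => thompsonSubgroupAOf K)
    (fun f K hf => PLocal.map_thompsonSubgroupAOf f hf) hnc.emb hι.1, ← hT] at hN
  have hC := hnpc_centralizer_of_cpaut hι ⟨T, hT⟩ inf_le_left
    (PLocal.le_centralizer_comm inf_le_right) hH.1
  rw [subgroupOf_map_eq (fun {X} [Group X] K => K ⊓ Subgroup.centralizer (K : Set X))
    (fun f K hf => PLocal.map_inf_centralizer_self f hf) hnc.emb hι.1, ← hT] at hC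
  exact pAut_of_model_hnpc hS hnc.isModel_emb (S2800.main T
    (hOk.imp_right fun hfree => not_involves_of_constrained hS hc hfree) ⟨hN, hC⟩)

/-- A preimage of a characteristic subgroup of the quotient by a characteristic subgroup. -/
theorem characteristic_comap_mk {X : Type u} [Group X] (Z : Subgroup X) [hZ : Z.Normal]
    [Z.Characteristic] (Y : Subgroup (X ⧸ Z)) [hY : Y.Characteristic] :
    (Y.comap (QuotientGroup.mk' Z)).Characteristic := by
  refine Subgroup.characteristic_iff_comap_eq.2 fun e => ?_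
  have hZe : Z.map e.toMonoidHom = Z := Subgroup.characteristic_iff_map_eq.1 inferInstance e
  set e' := QuotientGroup.congr Z Z e hZe
  ext x
  show QuotientGroup.mk' Z (e x) ∈ Y ↔ QuotientGroup.mk' Z x ∈ Y
  have h1 := Subgroup.characteristic_iff_comap_eq.1 hY e'
  conv_rhs => rw [← h1]
  rfl

/-- Frobenius' criterion through the characteristic subgroups of `S`. -/
theorem pAut_of_char [Finite S] [Fact p.Prime] (hS : IsPGroup p S) (hF : F.IsSaturated p)
    (hOk : p ≠ 2 ∨ F.IsSectionFree p (Equiv.Perm (Fin 4)))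
    (hch : ∀ Q : Subgroup Ω, Q ≤ S → Q ≠ ⊥ → (Q.subgroupOf S).Characteristic →
      IsPGroup p (F.autGroup Q)) : PAut p F := by
  refine system_induction
    (fun Ω _ S F => Finite S → IsPGroup p S → F.IsSaturated p →
      (p ≠ 2 ∨ F.IsSectionFree p (Equiv.Perm (Fin 4))) →
      (∀ Q : Subgroup Ω, Q ≤ S → Q ≠ ⊥ → (Q.subgroupOf S).Characteristic →
        IsPGroup p (F.autGroup Q)) → PAut p F)
    (fun Ω _ S F ih hfin hS hF hOk hch => ?_) Ω S F inferInstance hS hF hOk hch
  by_cases hne : S = ⊥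
  · subst hne
    refine pAut_of_exists_pow fun Q hQ α _ => ?_
    obtain rfl := le_bot_iff.1 hQ
    exact ⟨0, MulEquiv.ext fun x => Subsingleton.elim _ _⟩
  -- the normalizer of a normal subgroup of `S` which is not normal in the system
  have hloc : ∀ X : Subgroup Ω, X ≤ S → normalizerIn S X = S → ¬ F.IsNormal X → NPAut p F X := by
    intro X hX hXS hn
    obtain ⟨E, hE⟩ := exists_normalizerSystem (F := F) hX
    have hXf : F.IsFullyNormalized X :=
      ⟨hX, fun R _ => hXS.symm ▸ Subgroup.card_le_of_le inf_le_left⟩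
    have : Finite (normalizerIn S X) := finite_of_le inf_le_left
    refine npaut_of_pAut_normalizer hX hE (ih Ω _ E (smaller_normalizer hX hn hE) this
      (hS.to_le inf_le_left) (isSaturated_normalizer hS hF hXf hE)
      (hOk.imp_right fun hfree => isSectionFree_normalizer hS hF hXf hE hfree) fun Q hQ hQ1 hQc => ?_)
    rw [hXS] at hQ hQc
    intro ⟨α, hα⟩
    obtain ⟨n, hn⟩ := hch Q hQ hQ1 hQc
      ⟨α, autGroup_sub (sub_normalizer hE) (hQ.trans hXS.ge) hα⟩
    exact ⟨n, Subtype.ext (congrArg Subtype.val hn :)⟩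
  set J := thompsonSubgroupAOf S with hJdef
  have hJle : J ≤ S := PLocal.thompsonSubgroupAOf_le S
  have hJN : normalizerIn S J = S := inf_eq_left.2
    (Subgroup.le_normalizer.trans (PLocal.normalizer_le_normalizer_thompsonSubgroupAOf S))
  have hJc : (J.subgroupOf S).Characteristic := by
    obtain ⟨hc, hmap⟩ := PLocal.char_of_functorial.{u}
      (fun {X} [Group X] K => thompsonSubgroupAOf K)
      (fun f K hf => PLocal.map_thompsonSubgroupAOf f hf) S
    rw [hJdef, ← hmap, Subgroup.subgroupOf,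
      Subgroup.comap_map_eq_self_of_injective S.subtype_injective]
    exact hc
  by_cases hJn : F.IsNormal J
  · exact pAut_of_normal_selfCentralizing hS hF hJn centralizerIn_thompsonA_le
      (hch J hJle (thompsonA_ne_bot hS hne) hJc)
  set Z := S ⊓ Subgroup.centralizer (S : Set Ω) with hZdef
  by_cases hZn : F.IsNormal Z
  swap
  · have hZN : normalizerIn S Z = S := inf_eq_left.2 (Subgroup.le_normalizer.trans
      (le_normalizer_of_functorial (fun {X} [Group X] K => K ⊓ Subgroup.centralizer (K : Set X))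
        (fun f K hf => PLocal.map_inf_centralizer_self f hf) S))
    exact pAut_of_thompson hS hF hOk (hloc Z inf_le_left hZN hZn).cpaut (hloc J hJle hJN hJn)
  have hZne : Z ≠ ⊥ := center_ne_bot hS hne
  have hZc : (Z.subgroupOf S).Characteristic := by
    obtain ⟨hc, hmap⟩ := PLocal.char_of_functorial.{u}
      (fun {X} [Group X] K => K ⊓ Subgroup.centralizer (K : Set X))
      (fun f K hf => PLocal.map_inf_centralizer_self f hf) S
    rw [hZdef, ← hmap, Subgroup.subgroupOf,
      Subgroup.comap_map_eq_self_of_injective S.subtype_injective]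
    exact hc
  have hfix : ∀ P f, IsMap F P f → ∀ x ∈ P, x ∈ Z → f x = x := fun P f hf x hx hxZ => by
    obtain ⟨s, hs, e⟩ := conj_of_normal_pAut hS hF hZn (hch Z inf_le_left hZne hZc) hf
    rw [e x hx hxZ, Subgroup.mem_centralizer_iff.1 hxZ.2 s hs, mul_inv_cancel_right]
  have hnorm : (Z.subgroupOf S).Normal := inferInstance
  have D := quotientData (stronglyClosed_of_normal hZn) (F := F)
  set S' : Subgroup (S ⧸ Z.subgroupOf S) := ⊤
  obtain ⟨E, hE⟩ := D.exists_factorSystem
  have hfin' := D.finite_S'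
  refine pAut_of_central hS D hE hZn hfix (ih _ S' E (Or.inl (D.card_lt hZne)) hfin'
    (D.isPGroup_S' hS) (D.isSaturated_factor hS hF hE)
    (hOk.imp_right fun hfree => isSectionFree_factor hS hF hZn hE hfree) fun A hA hA1 hAc => ?_)
  intro ⟨α, hα⟩
  set θ := QuotientGroup.mk' (Z.subgroupOf S)
  obtain ⟨a, ha, hae⟩ := D.exists_lift_aut hE hA hα
  have hVc : ((preimageAlong θ A).subgroupOf S).Characteristic := by
    have hAc' : A.Characteristic := by
      have := PLocal.characteristic_map_equiv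
        (Subgroup.topEquiv : (⊤ : Subgroup (S ⧸ Z.subgroupOf S)) ≃* _) (A.subgroupOf S')
      rwa [show (A.subgroupOf S').map (Subgroup.topEquiv :
        (⊤ : Subgroup (S ⧸ Z.subgroupOf S)) ≃* _).toMonoidHom = A from
          Subgroup.map_subgroupOf_eq_of_le le_top] at this
    have hV : (preimageAlong θ A).subgroupOf S = A.comap θ := by
      ext x
      rw [Subgroup.mem_subgroupOf, mem_preimageAlong, thF_apply θ x.2]
      exact and_iff_right x.2
    rw [hV]
    exact characteristic_comap_mk _ A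
  have hVne : preimageAlong θ A ≠ ⊥ := by
    intro e
    refine hA1 (le_bot_iff.1 fun y hy => ?_)
    obtain ⟨x, hx, rfl⟩ := D.exists_eq (Subgroup.mem_top y : y ∈ S')
    have : x ∈ preimageAlong θ A := mem_preimageAlong.2 ⟨hx, hy⟩
    rw [e, Subgroup.mem_bot] at this
    subst this
    rw [Subgroup.mem_bot, thF_apply θ S.one_mem]
    exact map_one θ
  obtain ⟨n, hn⟩ := hch _ (preimageAlong_le θ A) hVne hVc ⟨a, ha⟩
  have hn' : a ^ p ^ n = 1 := congrArg Subtype.val hn
  refine ⟨n, Subtype.ext (MulEquiv.ext fun y => Subtype.ext ?_)⟩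
  obtain ⟨x, hx, ex⟩ := D.exists_eq (hA y.2)
  have hxB : x ∈ preimageAlong θ A := mem_preimageAlong.2 ⟨hx, ex.symm ▸ y.2⟩
  show (((α ^ p ^ n) y : A) : S ⧸ Z.subgroupOf S) = _
  rw [show y = ⟨thF θ x, (mem_preimageAlong.1 hxB).2⟩ from Subtype.ext ex.symm,
    D.pow_compat (fun z hz => (mem_preimageAlong.1 hz).2) hae (p ^ n) x hxB, hn']
  rfl

end Cfsg.Agent.Fusion
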