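import Cfsg.Agent.Lib.Fusion.CenterFunctor
import Cfsg.Agent.Lib.Fusion.FactorFree
import Cfsg.Agent.Lib.Fusion.AbelianOver
import Cfsg.Agent.Lib.Fusion.ThompsonCrit

/-
Glauberman functors in section-free fusion systems.
Main result: `isNormal_wsub_of_free`: if `W(P)` is normal in every `H`-free group with `C(O_p) ≤ O_p`,
then `W(S)` is normal in every `H`-free saturated system over `S`.
-/

set_option autoImplicit false

open scoped Classical

namespace Cfsg.Agent.Fusion

open Cfsg Cfsg.FusionSystem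

universe u v

variable {Ω : Type u} [Group Ω] {S : Subgroup Ω} {F : FusionSystem S} {p : ℕ}

theorem isNormal_bot [Finite S] : F.IsNormal ⊥ :=
  FusionChain.isNormal_iff.2 ⟨bot_le, fun P f hf => ⟨f, by rwa [sup_bot_eq], fun _ _ => rfl,
    fun q hq => by rw [Subgroup.mem_bot.1 hq, hf.map_one]; exact one_mem _⟩⟩

theorem isNormal_sup' [Finite S] {A B : Subgroup Ω} (hA : F.IsNormal A) (hB : F.IsNormal B) :
    F.IsNormal (A ⊔ B) := by
  refine FusionChain.isNormal_iff.2 ⟨sup_le hA.1 hB.1, fun P f hf => ?_⟩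
  obtain ⟨g, hg, eg, hgA⟩ := (FusionChain.isNormal_iff.1 hA).2 P f hf
  obtain ⟨k, hk, ek, hkB⟩ := (FusionChain.isNormal_iff.1 hB).2 _ g hg
  refine ⟨k, hk.mono (sup_assoc P A B).ge, fun x hx => (ek x (Subgroup.mem_sup_left hx)).trans (eg x hx),
    fun x hx => ?_⟩
  exact (hk.mono (sup_assoc P A B).ge).forall_mem_sup (le_sup_left.trans le_sup_right)
    (le_sup_right.trans le_sup_right)
    (fun y hy => Subgroup.mem_sup_left (ek y (Subgroup.mem_sup_right hy) ▸ hgA y hy))
    (fun y hy => Subgroup.mem_sup_right (hkB y hy)) hx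

theorem isNormal_core [Finite S] : F.IsNormal F.core := by
  have hfin : {Q : Subgroup Ω | F.IsNormal Q}.Finite :=
    (Set.finite_range (fun H : Subgroup S => H.map S.subtype)).subset fun Q hQ =>
      ⟨Q.subgroupOf S, Subgroup.map_subgroupOf_eq_of_le hQ.1⟩
  obtain ⟨s, hs⟩ := hfin.exists_finset_coe
  unfold FusionSystem.core
  rw [← hs, ← Finset.sup_id_eq_sSup]
  exact Finset.sup_induction isNormal_bot (fun a ha b hb => isNormal_sup' ha hb)
    (fun b hb => hs.subset hb)

theorem isConstrained_of_normal [Finite S] (hF : F.IsSaturated p) {U : Subgroup Ω}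
    (hU : F.IsNormal U) (hc : centralizerIn S U ≤ U) : F.IsConstrained p :=
  ⟨hF, U, hU, hU.1, fun R hR => by
    obtain ⟨g, hg⟩ := isConj_iff.1 hR
    rwa [show R = U from eq_of_le_of_card hU.1 (fun y hy => by
      obtain ⟨x, hx, rfl⟩ := hg.exists_eq hy
      exact FusionChain.mapsTo_of_normal hU hg.1 le_rfl x hx) hg.card_eq.ge]⟩

/-- A map of a subsystem keeping `X` is a map of `N_F(X)`. -/
theorem isMap_normalizer_of_normal [Finite S] {X : Subgroup Ω} (hX : X ≤ S)
    (hXS : normalizerIn S X = S) {N : FusionSystem (normalizerIn S X)}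
    (hN : F.IsNormalizerSystem X N) {T : Subgroup Ω} [Finite T] {E : FusionSystem T}
    (hE : E.IsSubsystemOf F) (hn : E.IsNormal X) {P : Subgroup Ω} {f : Ω → Ω} (hf : IsMap E P f) :
    IsMap N P f := by
  obtain ⟨φ, hφ, e⟩ := hf
  have hfF : IsMap F P f := ⟨φ, hE P hφ, e⟩
  obtain ⟨g, ⟨ψ, hψ, e'⟩, hgP, hgX⟩ := (FusionChain.isNormal_iff.1 hn).2 P f ⟨φ, hφ, e⟩
  exact (isMap_normalizer_iff hX hN).2 ⟨hXS.symm ▸ hfF.le, fun x hx => hXS.symm ▸ hfF.mem hx, g,
    ⟨ψ, hE _ hψ, e'⟩, hgP, hgX⟩

/-- In a realized system a subgroup with normal image is normal. -/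
theorem isNormal_of_realized [Finite S] {G : Type v} [Group G] {ι : S →* G}
    (hι : F.IsRealizedBy ι) {X : Subgroup Ω} (hX : X ≤ S) (hn : ((X.subgroupOf S).map ι).Normal) :
    F.IsNormal X := by
  refine FusionChain.isNormal_iff.2 ⟨hX, fun P f hf => ?_⟩
  obtain ⟨n, hn'⟩ := (isMap_realized_iff hι hf.le (fun x hx => hf.mem hx)
    fun a ha b hb => hf.map_mul ha hb).1 hf
  have hle : P ⊔ X ≤ S := sup_le hf.le hX
  obtain ⟨g, hg, hgn⟩ := conj_map hι hle n fun x hx => by
    have hle' : P ⊔ X ≤ ((ι.range.comap (MulAut.conj n).toMonoidHom).comap ι).map S.subtype := by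
      refine sup_le (fun y hy => ?_) (fun y hy => ?_)
      · exact ⟨⟨y, hf.le hy⟩, ⟨_, (hn' y hy).symm⟩, rfl⟩
      · obtain ⟨t, -, ht⟩ := hn.conj_mem _ ⟨⟨y, hX hy⟩, hy, rfl⟩ n
        exact ⟨⟨y, hX hy⟩, ⟨t, ht⟩, rfl⟩
    obtain ⟨t, ht, rfl⟩ := hle' hx
    exact ht
  refine ⟨g, hg, fun x hx => ?_, fun x hx => ?_⟩
  · obtain ⟨_, e⟩ := hgn x (Subgroup.mem_sup_left hx)
    exact congrArg Subtype.val (hι.1 (e.trans (hn' x hx)))
  · obtain ⟨_, e⟩ := hgn x (Subgroup.mem_sup_right hx)
    obtain ⟨t, ht, ht'⟩ := hn.conj_mem _ ⟨⟨x, hX hx⟩, hx, rfl⟩ n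
    rw [← e] at ht'
    exact Subgroup.mem_subgroupOf.1 (hι.1 ht' ▸ ht)

variable (W : ∀ (Q : Type u) [Group Q], Subgroup Q)
  (hW1 : ∀ (Q : Type u) [Group Q] [Finite Q], IsPGroup p Q → Nontrivial Q → W Q ≠ ⊥)
  (hW2 : ∀ (Q R : Type u) [Group Q] [Group R] [Finite Q], IsPGroup p Q → ∀ φ : Q ≃* R,
    (W Q).map φ.toMonoidHom = W R)

include hW1 in
theorem wsub_ne_bot {T : Subgroup Ω} [Finite T] (hT : IsPGroup p T) (hne : T ≠ ⊥) :
    wsub W T ≠ ⊥ := fun h =>
  hW1 ↥T hT ((Subgroup.nontrivial_iff_ne_bot T).2 hne)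
    ((Subgroup.map_eq_bot_iff_of_injective _ T.subtype_injective).1 h)

include hW1 hW2 in
/-- `W(S)` is normal in every `H`-free saturated system. -/
theorem isNormal_wsub_of_free [Fact p.Prime] {H : Type v} [Group H]
    (hW3 : ∀ (L : Type u) [Group L] [Finite L] (P : Sylow p L),
      Subgroup.centralizer ((Cfsg.pCore p L : Subgroup L) : Set L) ≤ Cfsg.pCore p L →
      ¬ Cfsg.Involves H L → (wsub W (P : Subgroup L)).Normal)
    [Finite S] (hS : IsPGroup p S) (hF : F.IsSaturated p) (hfree : F.IsSectionFree p H) :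
    F.IsNormal (wsub W S) := by
  refine system_induction (fun Ω _ S F => Finite S → IsPGroup p S → F.IsSaturated p →
    F.IsSectionFree p H → F.IsNormal (wsub W S)) ?_ Ω S F inferInstance hS hF hfree
  intro Ω _ S F ih hfin hS hF hfree
  set X := wsub W S with hXdef
  have hX : X ≤ S := wsub_le W S
  have hXS : normalizerIn S X = S := inf_eq_left.2
    (Subgroup.le_normalizer.trans (normalizer_le_wsub W hW2 hS))
  by_cases hSbot : S = ⊥
  · rw [show X = ⊥ from le_bot_iff.1 (hX.trans hSbot.le)]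
    exact isNormal_bot
  by_cases hcon : F.IsConstrained p
  · have h := nc_core hS hcon
    haveI := h.finite_mdl
    obtain ⟨_, hι, ⟨P, hP⟩, hC⟩ := h.isModel_emb
    refine isNormal_of_realized hι hX ?_
    rw [hXdef, wsub_range W hW2 hS h.emb hι.1, ← hP]
    exact hW3 _ P hC (not_involves_of_constrained hS hcon hfree)
  obtain ⟨N, hN⟩ := exists_normalizerSystem (F := F) hX
  suffices key : ∀ P f, IsMap F P f → IsMap N P f by
    refine FusionChain.isNormal_iff.2 ⟨hX, fun P f hf => ?_⟩
    obtain ⟨-, -, g, hg, e, hgX⟩ := (isMap_normalizer_iff hX hN).1 (key P f hf)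
    exact ⟨g, hg, e, hgX⟩
  have hsub : ∀ {T : Subgroup Ω} (E : FusionSystem T), T = S → E.IsSubsystemOf F →
      E.IsNormal (wsub W T) → ∀ {P : Subgroup Ω} {f : Ω → Ω}, IsMap E P f → IsMap N P f := by
    intro T E hT hE hn P f hf
    subst hT
    exact isMap_normalizer_of_normal hX hXS hN hE hn hf
  have hcongr : ∀ P f g, IsMap F P f → IsMap N P f → (∀ x ∈ P, f x = g x) → IsMap N P g :=
    fun _ _ _ _ h e => h.congr e
  by_cases hcore : F.core = ⊥
  swap
  · set U := F.core
    have hU : F.IsNormal U := isNormal_core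
    have hUn := normalizes_of_stronglyClosed (stronglyClosed_of_normal hU)
    have hUfn := fullyNormalized_of_normal hU
    set C := centralizerIn S U
    have hC : ¬ C ≤ U := fun h => hcon (isConstrained_of_normal hF hU h)
    have hCn : ∀ s ∈ S, ∀ c ∈ C, s * c * s⁻¹ ∈ C := fun s hs c hc => by
      refine mem_centralizerIn_of_conj (mul_mem (mul_mem hs hc.1) (inv_mem hs)) fun z hz => ?_
      have h1 := centralizerIn_conj hc (normalizerIn_conj_inv (g := s) ⟨hs, hUn hs⟩ hz)
      calc s * c * s⁻¹ * z * (s * c * s⁻¹)⁻¹ = s * (c * (s⁻¹ * z * s) * c⁻¹) * s⁻¹ := by group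
        _ = z := by rw [h1]; group
    -- the automizer of the core is not a `p`-group
    have hA : ¬ IsPGroup p (F.autGroup U) := by
      intro hA
      haveI hNn : (U.subgroupOf S).Normal := ⟨fun x hx g =>
        (Subgroup.mem_normalizer_iff.1 (hUn g.2) _).1 hx⟩
      have D := quotientData (stronglyClosed_of_normal hU) (F := F)
      set S' : Subgroup (S ⧸ U.subgroupOf S) := ⊤
      obtain ⟨E, hE⟩ := D.exists_factorSystem
      have := D.finite_S'
      have hS' := D.isPGroup_S' hS
      have hX' := ih _ S' E (Or.inl (D.card_lt hcore)) inferInstance hS'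
        (D.isSaturated_factor hS hF hE) (isSectionFree_factor hS hF hU hE hfree)
      set X' := wsub W S'
      have hS'ne : S' ≠ ⊥ := by
        intro h
        refine hC fun x hx => ?_
        have h1 : thF (QuotientGroup.mk' (U.subgroupOf S)) x = 1 :=
          Subgroup.mem_bot.1 (h ▸ D.thF_mem hx.1)
        rw [thF_apply _ hx.1] at h1
        exact (D.ker_iff _).1 h1
      set V' := X' ⊓ Subgroup.centralizer (X' : Set (S ⧸ U.subgroupOf S))
      have hV'ne : V' ≠ ⊥ := by
        have := finite_of_le (S := S') (P := X') le_top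
        exact center_ne_bot (hS'.to_le le_top) (wsub_ne_bot W hW1 hS' hS'ne)
      have hV' : E.StronglyClosed V' := by
        refine stronglyClosed_iff.2 ⟨inf_le_left.trans le_top, fun P f hf x hxP hx => ?_⟩
        obtain ⟨g, hg, e, hgX⟩ := (FusionChain.isNormal_iff.1 hX').2 P f hf
        rw [← e x hxP]
        refine ⟨hgX x hx.1, Subgroup.mem_centralizer_iff.2 fun y hy => ?_⟩
        have himg : img g X' = X' := eq_of_le_of_card (le_top : X' ≤ S')
          (hg.img_le le_sup_right hgX) (hg.card_img le_sup_right).ge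
        obtain ⟨z, hz, rfl⟩ := (hg.mem_img_iff le_sup_right).1 (himg.symm ▸ hy)
        rw [← hg.map_mul (Subgroup.mem_sup_right hz) (Subgroup.mem_sup_right hx.1),
          ← hg.map_mul (Subgroup.mem_sup_right hx.1) (Subgroup.mem_sup_right hz),
          Subgroup.mem_centralizer_iff.1 hx.2 z hz]
      have hpre : preimageAlong (QuotientGroup.mk' (U.subgroupOf S)) V' ≤ U :=
        normal_le_core (D.isNormal_preimage_of_abelian hS hF hE hU hA hV'
          ⟨⟨fun a b => Subtype.ext (Subgroup.mem_centralizer_iff.1 b.2.2 a a.2.1)⟩⟩)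
      refine hV'ne (le_bot_iff.1 fun y hy => ?_)
      obtain ⟨x, hx, rfl⟩ := D.exists_eq (Subgroup.mem_top y : y ∈ S')
      have h1 := hpre (mem_preimageAlong.2 ⟨hx, hy⟩)
      rw [Subgroup.mem_bot, thF_apply _ hx]
      exact (D.ker_iff _).2 h1
    -- the first subsystem
    set K := autInducedBy S U
    have hNK : NK S U K = S := le_antisymm (NK_le S U K) fun s hs =>
      mem_NK.2 ⟨hs, normConj S U ⟨s, hs, hUn hs⟩,
        (range_normConj S U).le ⟨_, rfl⟩, fun _ => rfl⟩
    have hQK : IsFullyK F U K := ⟨hU.1, fun R g hg => by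
      rw [hNK]; exact Subgroup.card_le_of_le (NK_le _ _ _)⟩
    set E₁ := kSys F U K hU.1
    have hE₁ : E₁.IsSubsystemOf F := fun P φ hφ => by
      obtain ⟨-, -, g, hg, e, -⟩ := hφ
      exact mem_of_isMap ((hg.mono le_sup_left).congr e) fun x => (toFn_coe φ x).symm
    have h₁ : ∀ {P : Subgroup Ω} {f : Ω → Ω}, IsMap E₁ P f → IsMap N P f := by
      refine hsub E₁ hNK hE₁ ?_
      have := finite_of_le (NK_le S U K)
      refine ih _ _ E₁ (smaller_of_sub hNK hE₁ fun h => hA ?_) inferInstance (hS.to_le (NK_le _ _ _))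
        (isSaturated_kSys hS hF hQK) (isSectionFree_kSys hS hF hQK hfree)
      refine (isPGroup_autInducedBy hS (P := U)).to_le fun a ha => ?_
      obtain ⟨-, -, g, -, e, b, hb, hbg⟩ := isMap_kSys.1
        (show IsMap E₁ U (autFn a) from by
          obtain ⟨φ, hφ, e⟩ := (mem_autGroup_iff hU.1).1 ha
          exact ⟨φ, h U hφ, e⟩)
      rwa [show a = b from MulEquiv.ext fun x => Subtype.ext
        ((autFn_apply a x.2).symm.trans ((e x x.2).symm.trans (hbg x).symm))]
    -- the second subsystem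
    set T := U ⊔ C
    have hTS : T ≤ S := sup_le hU.1 inf_le_left
    have hTN : normalizerIn S T = S := by
      refine inf_eq_left.2 fun s hs => ?_
      have := finite_of_le hTS
      exact (mem_normalizerIn_of_conj hs fun x hx =>
        (IsMap.conj (F := F) hTS hs).forall_mem_sup le_sup_left le_sup_right
          (fun y hy => Subgroup.mem_sup_left ((Subgroup.mem_normalizer_iff.1 (hUn hs) y).1 hy))
          (fun y hy => Subgroup.mem_sup_right (hCn s hs y hy)) hx).2
    have hTfn : F.IsFullyNormalized T :=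
      ⟨hTS, fun R _ => hTN.symm ▸ Subgroup.card_le_of_le inf_le_left⟩
    have hTnn : ¬ F.IsNormal T := fun h => hC (le_sup_right.trans (normal_le_core h))
    obtain ⟨E₂, hE₂⟩ := exists_normalizerSystem (F := F) hTS
    have h₂ : ∀ {P : Subgroup Ω} {f : Ω → Ω}, IsMap E₂ P f → IsMap N P f := by
      refine hsub E₂ hTN (sub_normalizer hE₂) ?_
      have := finite_of_le (S := S) (P := normalizerIn S T) inf_le_left
      exact ih _ _ E₂ (smaller_normalizer hTS hTnn hE₂) inferInstance (hS.to_le inf_le_left)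
        (isSaturated_normalizer hS hF hTfn hE₂) (isSectionFree_normalizer hS hF hTfn hE₂ hfree)
    intro P f hf
    refine FusionChain.alperin_induction hS hF (fun P f => IsMap N P f) hcongr
      (fun P P' f _ hle h => h.mono hle) (fun P P' f g _ _ hfP h h' => h.comp h' hfP) ?_ hf
    intro R hR hRc hRr α hα hbig
    have hUR : U ≤ R := le_radical_of_normal hS hU hRc hRr
    have hαm := (isIso_autFn hR.1 hα).1
    have hαU := FusionChain.mapsTo_of_normal hU hαm hUR
    by_cases hCR : C ≤ R
    · have hTR : T ≤ R := sup_le hUR hCR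
      refine h₂ ((isMap_normalizer_iff hTS hE₂).2 ⟨hTN.symm ▸ hR.1,
        fun x hx => hTN.symm ▸ hR.1 (autFn_mem α hx), autFn α,
        (sup_eq_left.2 hTR).symm ▸ hαm, fun _ _ => rfl, fun x hx => ?_⟩)
      exact (hαm.mono hTR).forall_mem_sup le_sup_left le_sup_right
        (fun y hy => Subgroup.mem_sup_left (hαU y hy))
        (fun y hy => Subgroup.mem_sup_right (map_centralizerIn hαm hUR
          (eq_of_le_of_card hU.1 (hαm.img_le hUR hαU) (hαm.card_img hUR).ge) (hCR hy) hy)) hx
    · -- automorphisms fixing the core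
      let K₀ : Subgroup (MulAut R) :=
        { carrier := {a | a ∈ F.autGroup R ∧ ∀ y : R, (y : Ω) ∈ U → a y = y}
          one_mem' := ⟨one_mem _, fun _ _ => rfl⟩
          mul_mem' := fun {a b} ha hb => ⟨mul_mem ha.1 hb.1, fun y hy => by
            rw [MulAut.mul_apply, hb.2 y hy, ha.2 y hy]⟩
          inv_mem' := fun {a} ha => ⟨inv_mem ha.1, fun y hy => by
            conv_lhs => rw [← ha.2 y hy]
            exact MulAut.inv_apply_self _ a y⟩ }
      have hK₀n : ∀ a ∈ F.autGroup R, ∀ k ∈ K₀, a * k * a⁻¹ ∈ K₀ := fun a ha k hk =>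
        ⟨mul_mem (mul_mem ha hk.1) (inv_mem ha), fun y hy => by
          have : ((a⁻¹ y : R) : Ω) ∈ U := by
            rw [← autFn_apply a⁻¹ y.2]
            exact FusionChain.mapsTo_of_normal hU (isIso_autFn hR.1 (inv_mem ha)).1 hUR _ hy
          rw [MulAut.mul_apply, MulAut.mul_apply, hk.2 _ this, MulAut.apply_inv_self]⟩
      have := finite_mulAut hR.1
      have hsyl := (isFullyAutomized_iff.1 (fullyAutomized_of_fullyNormalized hS hF hR)).2
      have hD := hsyl.inf_normal (N := K₀) (fun a ha => ha.1) hK₀n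
      obtain ⟨c, hc, hcD⟩ := hD.exists_conj_le
        (H := (autInducedBy S R ⊓ K₀).map (MulAut.conj α).toMonoidHom) (hD.isPGroup.map _) (by
          rintro _ ⟨k, hk, rfl⟩
          exact hK₀n α hα k hk.2)
      set m := c * α
      obtain ⟨g, hg, hgm, -⟩ := FusionChain.exists_extension_NK (receptive_of_fullyNormalized hS hF hR)
        (mul_mem hc.1 hα) K₀ fun k hk => by
          have := hcD _ ⟨k, hk, rfl⟩
          convert this using 1
          show c * α * k * (c * α)⁻¹ = c * (α * k * α⁻¹) * c⁻¹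
          group
      have hlt : Nat.card R < Nat.card (R ⊔ NK S R K₀ : Subgroup Ω) := by
        have := finite_of_le hg.le
        refine lt_of_le_of_ne (Subgroup.card_le_of_le le_sup_left) fun e => hCR ?_
        have hle : NK S R K₀ ≤ R :=
          le_sup_right.trans (eq_of_le_of_card hg.le le_sup_left e.ge).ge
        refine le_of_normalizer_inf_le hS hR.1 inf_le_left (fun r hr => ?_) fun q hq hqN => hle ?_
        · have := finite_of_le (S := S) (P := C) inf_le_left
          exact (mem_normalizerIn_of_conj (hR.1 hr) fun x hx => hCn r (hR.1 hr) x hx).2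
        · refine mem_NK.2 ⟨hqN.1, normConj S R ⟨q, hqN⟩, ⟨autInducedBy_le_autGroup F le_rfl hR.1
            ((range_normConj S R).le ⟨_, rfl⟩), fun y hy => Subtype.ext ?_⟩, fun _ => rfl⟩
          exact centralizerIn_conj hq hy
      have hm : IsMap N R (autFn m) :=
        ((hbig _ g hg hlt).mono le_sup_left).congr hgm
      have hc' : IsMap N R (autFn c⁻¹) := by
        refine h₁ (isMap_kSys.2 ⟨hNK.symm ▸ hR.1, fun x hx => hNK.symm ▸ hR.1 (autFn_mem _ hx),
          autFn c⁻¹, (sup_eq_left.2 hUR).symm ▸ (isIso_autFn hR.1 (inv_mem hc.1)).1,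
          fun _ _ => rfl, 1, one_mem _, fun u => ?_⟩)
        rw [autFn_apply _ (hUR u.2)]
        exact (congrArg Subtype.val ((inv_mem hc).2 ⟨u, hUR u.2⟩ u.2)).symm
      refine (hm.comp hc' fun x hx => autFn_mem _ hx).congr fun x hx => ?_
      rw [autFn_apply _ (autFn_mem _ hx), autFn_apply α hx]
      have h1 : (⟨autFn m x, autFn_mem m hx⟩ : R) = m ⟨x, hx⟩ := Subtype.ext (autFn_apply m hx)
      rw [h1, ← MulAut.mul_apply, inv_mul_cancel_left]
  -- trivial core
  have hnn : ∀ U : Subgroup Ω, U ≠ ⊥ → ¬ F.IsNormal U := fun U hU h =>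
    hU (le_bot_iff.1 (hcore ▸ normal_le_core h))
  have claim : ∀ (k : ℕ) (U : Subgroup Ω), Nat.card S - Nat.card (normalizerIn S U) = k →
      F.IsFullyNormalized U → U ≠ ⊥ →
      ∀ (E : FusionSystem (normalizerIn S U)), F.IsNormalizerSystem U E →
      ∀ P f, IsMap E P f → IsMap N P f := by
    intro k
    induction k using Nat.strong_induction_on with
    | _ k ihk =>
    intro U hk hUfn hUne E hE P f hf
    have hUS := hUfn.1
    have hTS : normalizerIn S U ≤ S := inf_le_left
    have := finite_of_le hTS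
    have hVn := ih _ _ E (smaller_normalizer hUS (hnn U hUne) hE) inferInstance (hS.to_le hTS)
      (isSaturated_normalizer hS hF hUfn hE) (isSectionFree_normalizer hS hF hUfn hE hfree)
    by_cases hT : normalizerIn S U = S
    · exact hsub E hT (sub_normalizer hE) hVn hf
    set V := wsub W (normalizerIn S U) with hV
    have hVS : V ≤ S := (wsub_le W _).trans hTS
    have hVne : V ≠ ⊥ := wsub_ne_bot W hW1 (hS.to_le hTS) fun h => hUne
      (le_bot_iff.1 ((le_normalizerIn hUS).trans h.le))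
    have hTM : Nat.card (normalizerIn S U) < Nat.card (normalizerIn S V) := by
      have hlt := lt_normalizerIn hS le_rfl (lt_of_le_of_ne hTS hT)
      have := finite_of_le (S := S) (P := normalizerIn S V) inf_le_left
      refine lt_of_lt_of_le (b := Nat.card (normalizerIn S (normalizerIn S U))) ?_
        (Subgroup.card_le_of_le fun t ht =>
          ⟨ht.1, normalizer_le_wsub W hW2 (hS.to_le hTS) ht.2⟩)
      have := finite_of_le (S := S) (P := normalizerIn S (normalizerIn S U)) inf_le_left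
      refine lt_of_le_of_ne (Subgroup.card_le_of_le hlt.le) fun e => hlt.ne ?_
      exact eq_of_le_of_card inf_le_left hlt.le e.ge
    have hNS : ∀ R : Subgroup Ω, Nat.card (normalizerIn S R) ≤ Nat.card S :=
      fun R => Subgroup.card_le_of_le inf_le_left
    have hbig : ∀ {R : Subgroup Ω} {g : Ω → Ω}, IsMap F R g →
        Nat.card (normalizerIn S U) < Nat.card R → IsMap N R g := by
      intro R g hg
      refine FusionChain.alperin_induction hS hF
        (fun R g => Nat.card (normalizerIn S U) < Nat.card R → IsMap N R g) ?_ ?_ ?_ ?_ hg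
      · exact fun P f g hf h e hlt => (h hlt).congr e
      · intro P P' f hf hle h hlt
        have := finite_of_le hf.le
        exact (h (hlt.trans_le (Subgroup.card_le_of_le hle))).mono hle
      · intro P P' f g hf hg hfP h h' hlt
        refine (h hlt).comp (h' (hlt.trans_le ?_)) hfP
        rw [← hf.card_img le_rfl]
        have := finite_of_le hg.le
        exact Subgroup.card_le_of_le (hf.img_le le_rfl hfP)
      · intro R hR _ _ α hα _ hlt
        obtain ⟨E', hE'⟩ := exists_normalizerSystem (F := F) hR.1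
        have := finite_of_le (S := S) (P := normalizerIn S R) inf_le_left
        have h1 := Subgroup.card_le_of_le (le_normalizerIn hR.1)
        refine ihk _ ?_ R rfl hR (fun h => ?_) E' hE' R _ ((isMap_normalizer_iff hR.1 hE').2
          ⟨le_normalizerIn hR.1, fun x hx => le_normalizerIn hR.1 (autFn_mem α hx), autFn α,
            by rw [sup_idem]; exact (isIso_autFn hR.1 hα).1, fun _ _ => rfl,
            fun x hx => autFn_mem α hx⟩)
        · have := hNS R; omega
        · rw [h, Subgroup.card_bot] at hlt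
          have := Nat.card_pos (α := normalizerIn S U)
          omega
    obtain ⟨V', f₁, hV', hf₁, hf₁V, -⟩ := exists_fullyNormalized_map hS hF hVS
    obtain ⟨g, hg, hgP, hgV⟩ := (FusionChain.isNormal_iff.1 hVn).2 P f hf
    obtain ⟨-, hgT, g', hg', e', -⟩ := (isMap_normalizer_iff hUS hE).1 hg
    have hgF : IsMap F (P ⊔ V) g := (hg'.mono le_sup_left).congr e'
    have hPVT : P ⊔ V ≤ normalizerIn S U := hg.le
    have hTV : normalizerIn S U ≤ normalizerIn S V := fun t ht =>
      ⟨hTS ht, normalizer_le_wsub W hW2 (hS.to_le hTS) (Subgroup.le_normalizer ht)⟩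
    have hPM : P ⊔ V ≤ normalizerIn S V := hPVT.trans hTV
    obtain ⟨j, hj, hjf, hfj⟩ := hf₁.isIso.symm
    set P₁ := img f₁ (P ⊔ V)
    have hP₁ : P₁ ≤ img f₁ (normalizerIn S V) :=
      Subgroup.closure_mono (Set.image_mono hPM)
    have hVle : V ≤ normalizerIn S V := le_normalizerIn hVS
    have hnorm : img f₁ (normalizerIn S V) ≤ normalizerIn S V' :=
      hf₁.img_le le_rfl fun y hy => map_normalizerIn hf₁ hVle hf₁V hy hy
    have hV'P : V' ≤ P₁ := hf₁V ▸ Subgroup.closure_mono (Set.image_mono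
      (SetLike.coe_subset_coe.2 le_sup_right))
    have hj' : ∀ y ∈ P₁, j y ∈ P ⊔ V := fun y hy => by
      obtain ⟨x, hx, rfl⟩ := (hf₁.mem_img_iff hPM).1 hy
      rw [hjf x (hPM hx)]; exact hx
    set h := fun y => f₁ (g (j y))
    have hgM : ∀ x ∈ P ⊔ V, g x ∈ normalizerIn S V := fun x hx => hTV (hgT x hx)
    have hhF : IsMap F P₁ h := ((hj.1.mono hP₁).comp hgF hj').comp hf₁ fun y hy => hgM _ (hj' y hy)
    obtain ⟨E', hE'⟩ := exists_normalizerSystem (F := F) hV'.1
    have hhN : IsMap N P₁ h := by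
      have h1 := hV'.2 V (isConj_symm (isConj_iff.2 ⟨f₁, hf₁.mono hVle, hf₁V⟩))
      have h2 := hNS V'
      refine ihk _ (by omega) V' rfl hV' (fun e => hVne ?_) E' hE' P₁ h
        ((isMap_normalizer_iff hV'.1 hE').2 ⟨hP₁.trans hnorm, fun y hy => hnorm (hf₁.mem_img
          (hgM _ (hj' y hy))), h, (sup_eq_left.2 hV'P).symm ▸ hhF, fun _ _ => rfl, fun y hy => ?_⟩)
      · have := hf₁.card_img hVle
        rw [hf₁V, e, Subgroup.card_bot] at this
        exact Subgroup.card_eq_one.1 this.symm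
      · obtain ⟨x, hx, rfl⟩ := (hf₁.mem_img_iff hVle).1 (hf₁V.symm ▸ hy)
        show f₁ (g (j (f₁ x))) ∈ V'
        rw [hjf x (hVle hx), ← hf₁V]
        exact hf₁.mem_img (hgV x hx)
    have hf₁N : IsMap N (normalizerIn S V) f₁ := hbig hf₁ hTM
    have hjN : IsMap N (img f₁ (normalizerIn S V)) j :=
      hbig hj.1 (hTM.trans_eq (hf₁.card_img le_rfl).symm)
    refine (((hf₁N.mono hPM).comp hhN fun x hx => hf₁.mem_img hx).comp hjN
      fun x hx => hf₁.mem_img (hgM _ (hj' _ (hf₁.mem_img hx)))).mono le_sup_left |>.congr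
      fun x hx => ?_
    show j (f₁ (g (j (f₁ x)))) = f x
    rw [hjf x (hPM (Subgroup.mem_sup_left hx)), hjf _ (hgM _ (Subgroup.mem_sup_left hx)),
      hgP x hx]
  intro P f hf
  refine FusionChain.alperin_induction hS hF (fun P f => IsMap N P f) hcongr
    (fun P P' f _ hle h => h.mono hle) (fun P P' f g _ _ hfP h h' => h.comp h' hfP) ?_ hf
  intro R hR hRc _ α hα _
  obtain ⟨E', hE'⟩ := exists_normalizerSystem (F := F) hR.1
  refine claim _ R rfl hR (fun h => hSbot ?_) E' hE' R _ ((isMap_normalizer_iff hR.1 hE').2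
    ⟨le_normalizerIn hR.1, fun x hx => le_normalizerIn hR.1 (autFn_mem α hx), autFn α,
      by rw [sup_idem]; exact (isIso_autFn hR.1 hα).1, fun _ _ => rfl,
      fun x hx => autFn_mem α hx⟩)
  refine le_bot_iff.1 fun s hs => h.le (hRc.2 R (isConj_refl F hR.1) (mem_centralizerIn.2
    ⟨hs, fun x hx => ?_⟩))
  rw [Subgroup.mem_bot.1 (h.le hx), mul_one, one_mul]

end Cfsg.Agent.Fusion
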