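import Cfsg.Agent.Lib.Fusion.Normal

/-
Maps agreeing on a centric subgroup differ by an element of its centre.
Main results: `isPGroup_fix`, `exists_inner_of_fix`, `exists_center_of_eqOn`,
`exists_center_of_eqOn_general`.
-/

set_option autoImplicit false

namespace Cfsg.Agent.Fusion

open Cfsg Cfsg.FusionSystem

variable {Ω : Type*} [Group Ω] {S : Subgroup Ω} {F : FusionSystem S}

/-- An automorphism fixing a normal self-centralizing subgroup pointwise moves elements inside it. -/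
theorem inv_mul_mem_of_fix {R Q : Subgroup Ω} (hC : centralizerIn S Q ≤ Q) (hRS : R ≤ S)
    (hn : R ≤ Subgroup.normalizer (Q : Set Ω)) (hQR : Q ≤ R) {f : Ω → Ω} (hf : IsMap F R f)
    (hfix : ∀ q ∈ Q, f q = q) {x : Ω} (hx : x ∈ R) : x⁻¹ * f x ∈ Q := by
  refine hC (mem_centralizerIn_of_conj (mul_mem (inv_mem (hRS hx)) (hf.mem hx)) fun q hq => ?_)
  have hxq : x * q * x⁻¹ ∈ Q := (Subgroup.mem_normalizer_iff.1 (hn hx) q).1 hq
  have h1 := hf.map_conj hx (hQR hq)
  rw [hfix q hq, hfix _ hxq] at h1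
  calc x⁻¹ * f x * q * (x⁻¹ * f x)⁻¹ = x⁻¹ * (f x * q * (f x)⁻¹) * x := by group
    _ = x⁻¹ * (x * q * x⁻¹) * x := by rw [← h1]
    _ = q := by group

/-- In a saturated system, an automorphism fixing a normal centric subgroup is conjugation by an
element of its centre. -/
theorem exists_inner_of_fix [Finite S] {p : ℕ} [Fact p.Prime] (hS : IsPGroup p S)
    (hF : F.IsSaturated p) {R Q : Subgroup Ω} (hQR : Q ≤ R)
    (hn : R ≤ Subgroup.normalizer (Q : Set Ω)) (hc : F.IsCentric Q) {f : Ω → Ω}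
    (hf : IsIso F R R f) (hfix : ∀ q ∈ Q, f q = q) :
    ∃ z ∈ centralizerIn S Q, ∀ x ∈ R, f x = z * x * z⁻¹ := by
  obtain ⟨R', γ, hR'n, hγ, himg, -⟩ := exists_fullyNormalized_map hS hF hf.le_left
  have hRN : R ≤ normalizerIn S R := le_normalizerIn hf.le_left
  have hγR : IsIso F R R' γ := ⟨hγ.mono hRN, himg⟩
  obtain ⟨γ', hγ', hγ'γ, hγγ'⟩ := hγR.symm
  set Q' := img γ Q with hQ'
  have hQ'R : Q' ≤ R' := hγR.1.img_le hQR fun x hx => hγR.mem (hQR hx)
  have hn' : R' ≤ Subgroup.normalizer (Q' : Set Ω) := by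
    intro y hy
    refine Subgroup.mem_normalizer_iff.2 fun u => ?_
    have key : ∀ y ∈ R', ∀ u ∈ Q', y * u * y⁻¹ ∈ Q' := by
      intro y hy u hu
      obtain ⟨x, hx, rfl⟩ := hγR.exists_eq hy
      obtain ⟨q, hq, rfl⟩ := (hγR.1.mem_img_iff hQR).1 hu
      rw [← hγR.1.map_conj hx (hQR hq)]
      exact hγR.1.mem_img ((Subgroup.mem_normalizer_iff.1 (hn hx) q).1 hq)
    exact ⟨key y hy u, fun h => by simpa [mul_assoc] using key y⁻¹ (inv_mem hy) _ h⟩
  have hC' : centralizerIn S Q' ≤ Q' := hc.2 Q' (isConj_iff.2 ⟨γ, hγR.mono hQR⟩)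
  obtain ⟨β, hβ, hβe⟩ := exists_aut_of_isIso ((hγ'.trans hf).trans hγR)
  have hβe' : ∀ y ∈ R', autFn β y = γ (f (γ' y)) := fun y hy =>
    (autFn_apply β hy).trans (hβe ⟨y, hy⟩)
  have := finite_mulAut hR'n.1
  have := finite_of_le hR'n.1
  -- the automorphisms fixing `Q'` form a `p`-group
  have hKp : IsPGroup p (Subgroup.zpowers β) := by
    refine FusionChain.isPGroup_of_stabilizes_chain (hS.to_le hR'n.1) _ 2
      (fun i => if i = 0 then ⊥ else if i = 1 then Q'.subgroupOf R' else ⊤) rfl rfl ?_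
    rintro _ ⟨k, rfl⟩ i hi x hx
    have hfixk : ∀ u : R', (u : Ω) ∈ Q' → (β ^ k) u = u := by
      intro u hu
      obtain ⟨q, hq, e⟩ := (hγR.1.mem_img_iff hQR).1 hu
      have h1 : β u = u := Subtype.ext (by
        rw [hβe u]
        show γ (f (γ' (u : Ω))) = u
        rw [← e, hγ'γ q (hQR hq), hfix q hq])
      have hmem : β ∈ MulAction.stabilizer (MulAut R') u := h1
      exact Subgroup.zpow_mem _ hmem k
    rcases i with - | - | i
    · simp only [Nat.zero_add, if_neg Nat.one_ne_zero, if_true] at hx ⊢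
      show x⁻¹ * (β ^ k) x ∈ ⊥
      rw [hfixk x hx, inv_mul_cancel]
      exact one_mem _
    · simp only [Nat.zero_add, if_neg Nat.one_ne_zero, if_true]
      show ((x⁻¹ * (β ^ k) x : R') : Ω) ∈ Q'
      have hm := (isIso_autFn hR'n.1 (Subgroup.zpow_mem _ hβ k)).1
      have := inv_mul_mem_of_fix hC' hR'n.1 hn' hQ'R hm (fun q hq => by
        rw [autFn_apply _ (hQ'R hq)]
        exact congrArg Subtype.val (hfixk ⟨q, hQ'R hq⟩ hq)) x.2
      rwa [autFn_apply _ x.2] at this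
    · omega
  obtain ⟨a, ha, hconj⟩ := (isFullyAutomized_iff.1
    (fullyAutomized_of_fullyNormalized hS hF hR'n)).2.exists_conj_le hKp
      ((Subgroup.zpowers_le).2 hβ)
  obtain ⟨g, hg, hge⟩ := mem_autInducedBy_iff.1 (hconj β (Subgroup.mem_zpowers β))
  set δ := fun x => autFn a (γ x) with hδ
  have hδR : IsIso F R R' δ := hγR.trans (isIso_autFn hR'n.1 ha)
  have hδf : ∀ x ∈ R, δ (f x) = g * δ x * g⁻¹ := by
    intro x hx
    have h1 := hge (a ⟨γ x, hγR.mem hx⟩)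
    rw [MulAut.mul_apply, MulAut.mul_apply, MulAut.inv_apply_self] at h1
    show autFn a (γ (f x)) = g * autFn a (γ x) * g⁻¹
    rw [autFn_apply a (hγR.mem (hf.mem hx)), autFn_apply a (hγR.mem hx), ← h1]
    refine congrArg (fun y : R' => ((a y : R') : Ω)) (Subtype.ext ?_)
    rw [hβe ⟨γ x, hγR.mem hx⟩]
    show γ (f x) = γ (f (γ' (γ x)))
    rw [hγ'γ x hx]
  have hgC : g ∈ centralizerIn S (img δ Q) := by
    refine mem_centralizerIn_of_conj hg fun u hu => ?_
    obtain ⟨q, hq, rfl⟩ := (hδR.1.mem_img_iff hQR).1 hu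
    rw [← hδf q (hQR hq), hfix q hq]
  have hgQ := hc.2 _ (isConj_iff.2 ⟨δ, hδR.mono hQR⟩) hgC
  obtain ⟨z, hz, rfl⟩ := (hδR.1.mem_img_iff hQR).1 hgQ
  refine ⟨z, mem_centralizerIn_of_conj (hf.le_left (hQR hz)) fun q hq => ?_, fun x hx => ?_⟩
  · refine hδR.1.inj (mul_mem (mul_mem (hQR hz) (hQR hq)) (inv_mem (hQR hz))) (hQR hq) ?_
    rw [hδR.1.map_conj (hQR hz) (hQR hq)]
    exact centralizerIn_conj hgC (hδR.1.mem_img hq)
  · refine hδR.1.inj (hf.mem hx) (mul_mem (mul_mem (hQR hz) hx) (inv_mem (hQR hz))) ?_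
    rw [hδf x hx, hδR.1.map_conj (hQR hz) hx]

/-- Maps on `P` agreeing on a normal centric subgroup differ by its centre. -/
theorem exists_center_of_eqOn [Finite S] {p : ℕ} [Fact p.Prime] (hS : IsPGroup p S)
    (hF : F.IsSaturated p) {P Q : Subgroup Ω} (hQP : Q ≤ P)
    (hn : P ≤ Subgroup.normalizer (Q : Set Ω)) (hc : F.IsCentric Q) {f f' : Ω → Ω}
    (hf : IsMap F P f) (hf' : IsMap F P f') (h : ∀ q ∈ Q, f q = f' q) :
    ∃ z ∈ centralizerIn S Q, z ∈ Q ∧ ∀ x ∈ P, f' x = f (z * x * z⁻¹) := by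
  have hQc : centralizerIn S Q ≤ Q := hc.2 Q (isConj_refl F hc.1)
  set Q' := img f Q with hQ'
  have hC' : centralizerIn S Q' ≤ Q' := hc.2 Q' (isConj_iff.2 ⟨f, (hf.isIso.mono hQP)⟩)
  have hsub : ∀ x ∈ P, f' x ∈ img f P := by
    intro x hx
    have h1 : (f x)⁻¹ * f' x ∈ centralizerIn S Q' := by
      refine mem_centralizerIn_of_conj (mul_mem (inv_mem (hf.mem hx)) (hf'.mem hx)) fun u hu => ?_
      obtain ⟨q, hq, rfl⟩ := (hf.mem_img_iff hQP).1 hu
      have hxq : x * q * x⁻¹ ∈ Q := (Subgroup.mem_normalizer_iff.1 (hn hx) q).1 hq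
      have a := hf.map_conj hx (hQP hq)
      have b := hf'.map_conj hx (hQP hq)
      rw [← h _ hxq, ← h q hq, a] at b
      calc (f x)⁻¹ * f' x * f q * ((f x)⁻¹ * f' x)⁻¹
          = (f x)⁻¹ * (f' x * f q * (f' x)⁻¹) * f x := by group
        _ = (f x)⁻¹ * (f x * f q * (f x)⁻¹) * f x := by rw [← b]
        _ = f q := by group
    have h2 : (f x)⁻¹ * f' x ∈ img f P :=
      (hf.img_le hQP fun q hq => hf.mem_img (hQP hq)) (hC' h1)
    have := mul_mem (hf.mem_img hx) h2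
    simpa using this
  have hf'i : IsIso F P (img f P) f' := by
    refine ⟨hf', eq_of_le_of_card hf.img_le_S (hf'.img_le le_rfl hsub) ?_⟩
    rw [hf'.card_img le_rfl, hf.card_img le_rfl]
  obtain ⟨k, hk, hkf, hfk⟩ := hf.isIso.symm
  obtain ⟨z, hz, hze⟩ := exists_inner_of_fix hS hF hQP hn hc (hf'i.trans hk) fun q hq => by
    show k (f' q) = q
    rw [← h q hq, hkf q (hQP hq)]
  refine ⟨z, hz, hQc hz, fun x hx => ?_⟩
  rw [← hze x hx]
  show f' x = f (k (f' x))
  rw [hfk _ (hsub x hx)]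

theorem centric_mono [Finite S] {Q M : Subgroup Ω} (hc : F.IsCentric Q) (h : Q ≤ M) (hM : M ≤ S) :
    F.IsCentric M := by
  refine ⟨hM, fun R hR => ?_⟩
  obtain ⟨f, hf⟩ := isConj_iff.1 hR
  have h1 : img f Q ≤ R := hf.1.img_le h fun q hq => hf.mem (h hq)
  exact (inf_le_inf_left S (Subgroup.centralizer_le (SetLike.coe_subset_coe.2 h1))).trans
    ((hc.2 _ (isConj_iff.2 ⟨f, hf.mono h⟩)).trans h1)

/-- Maps on `P` agreeing on a centric subgroup differ by its centre. -/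
theorem exists_center_of_eqOn_general [Finite S] {p : ℕ} [Fact p.Prime] (hS : IsPGroup p S)
    (hF : F.IsSaturated p) {P : Subgroup Ω} {f : Ω → Ω} (hf : IsMap F P f) :
    ∀ (Q : Subgroup Ω), Q ≤ P → F.IsCentric Q → ∀ f' : Ω → Ω, IsMap F P f' →
      (∀ q ∈ Q, f q = f' q) →
      ∃ z ∈ centralizerIn S Q, z ∈ Q ∧ ∀ x ∈ P, f' x = f (z * x * z⁻¹) := by
  suffices H : ∀ n, ∀ Q : Subgroup Ω, Nat.card P - Nat.card Q = n → Q ≤ P → F.IsCentric Q →
      ∀ f' : Ω → Ω, IsMap F P f' → (∀ q ∈ Q, f q = f' q) →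
      ∃ z ∈ centralizerIn S Q, z ∈ Q ∧ ∀ x ∈ P, f' x = f (z * x * z⁻¹) from
    fun Q h1 h2 f' h3 h4 => H _ Q rfl h1 h2 f' h3 h4
  intro n
  induction n using Nat.strong_induction_on with
  | _ n ih =>
  intro Q hn hQP hc f' hf' h
  rcases eq_or_lt_of_le hQP with rfl | hlt
  · refine ⟨1, one_mem _, one_mem _, fun x hx => ?_⟩
    rw [← h x hx]
    simp
  set M := normalizerIn P Q with hM
  have hMP : M ≤ P := inf_le_left
  have hQM : Q ≤ M := le_normalizerIn hQP
  obtain ⟨z, hz, hzQ, hze⟩ := exists_center_of_eqOn hS hF hQM inf_le_right hc (hf.mono hMP)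
    (hf'.mono hMP) h
  have hzP : z ∈ P := hQP hzQ
  set g := fun x => f' (z⁻¹ * x * z) with hg
  have hgm : IsMap F P g := by
    refine ((IsMap.conj hf.le (inv_mem hz.1)).comp hf' fun x hx => ?_).congr fun x hx => ?_
    · simpa using mul_mem (mul_mem (inv_mem hzP) hx) hzP
    · simp [hg]
  have := finite_of_le hf.le
  have hcard : Nat.card Q < Nat.card M := by
    have := finite_of_le (hMP.trans hf.le)
    exact lt_of_le_of_ne (Subgroup.card_le_of_le hQM) fun e =>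
      (lt_normalizerIn hS hf.le hlt).ne (Subgroup.eq_of_le_of_card_ge hQM e.ge)
  have hle := Subgroup.card_le_of_le hMP
  obtain ⟨w, hw, hwM, hwe⟩ := ih (Nat.card P - Nat.card M) (by omega) M rfl hMP
    (centric_mono hc hQM (hMP.trans hf.le)) g hgm fun x hx => by
      show f x = f' (z⁻¹ * x * z)
      rw [hze _ (mul_mem (mul_mem (inv_mem (hQM hzQ)) hx) (hQM hzQ))]
      congr 1
      group
  have hwC : w ∈ centralizerIn S Q :=
    inf_le_inf_left S (Subgroup.centralizer_le (SetLike.coe_subset_coe.2 hQM)) hw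
  refine ⟨w * z, mul_mem hwC hz, mul_mem ((hc.2 Q (isConj_refl F hc.1)) hwC) hzQ, fun x hx => ?_⟩
  have := hwe (z * x * z⁻¹) (mul_mem (mul_mem hzP hx) (inv_mem hzP))
  rw [hg] at this
  simp only at this
  rw [show z⁻¹ * (z * x * z⁻¹) * z = x by group] at this
  rw [this]
  congr 1
  group

end Cfsg.Agent.Fusion
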