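import Cfsg.Agent.Lib.Fusion.Criterion

/-
The `K`-normalizer system `N_F^K(Q)` and its saturation.
Main results: `KRel`, `kSys`, `isMap_kSys`, `isSaturated_kSys`, `kSys_top_hom`, `kSys_bot_hom`.
-/

set_option autoImplicit false

namespace Cfsg.Agent.Fusion

open Cfsg Cfsg.FusionSystem

variable {Ω : Type*} [Group Ω] {S : Subgroup Ω} {F : FusionSystem S}

/-- `f` on `Q` is an element of `K`. -/
def OnK {Q : Subgroup Ω} (K : Subgroup (MulAut Q)) (f : Ω → Ω) : Prop :=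
  ∃ α ∈ K, ∀ x : Q, ((α x : Q) : Ω) = f x

theorem OnK.mem {Q : Subgroup Ω} {K : Subgroup (MulAut Q)} {f : Ω → Ω} (h : OnK K f) {x : Ω}
    (hx : x ∈ Q) : f x ∈ Q :=
  let ⟨α, _, e⟩ := h
  e ⟨x, hx⟩ ▸ (α ⟨x, hx⟩).2

theorem OnK.exists_eq {Q : Subgroup Ω} {K : Subgroup (MulAut Q)} {f : Ω → Ω} (h : OnK K f) {y : Ω}
    (hy : y ∈ Q) : ∃ x ∈ Q, f x = y := by
  obtain ⟨α, -, e⟩ := h
  exact ⟨(α⁻¹ ⟨y, hy⟩ : Q), (α⁻¹ ⟨y, hy⟩ : Q).2, by rw [← e]; simp⟩

theorem OnK.img_eq {Q M : Subgroup Ω} {K : Subgroup (MulAut Q)} {f : Ω → Ω} (h : OnK K f)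
    (hf : IsMap F M f) (hQ : Q ≤ M) : img f Q = Q :=
  IsIso.img_eq_of hf hQ (fun _ hx => h.mem hx) fun _ hy => h.exists_eq hy

theorem OnK.comp {Q : Subgroup Ω} {K : Subgroup (MulAut Q)} {f g : Ω → Ω} (h : OnK K f)
    (h' : OnK K g) : OnK K (fun x => g (f x)) := by
  obtain ⟨α, hα, e⟩ := h
  obtain ⟨β, hβ, e'⟩ := h'
  exact ⟨β * α, mul_mem hβ hα, fun x => by rw [MulAut.mul_apply, e', e]⟩

theorem onK_conj {Q : Subgroup Ω} {K : Subgroup (MulAut Q)} {g : Ω} (hg : g ∈ NK S Q K) :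
    OnK K (fun x => g * x * g⁻¹) :=
  (mem_NK.1 hg).2

theorem OnK.congr {Q : Subgroup Ω} {K : Subgroup (MulAut Q)} {f g : Ω → Ω} (h : OnK K f)
    (e : ∀ x ∈ Q, f x = g x) : OnK K g :=
  let ⟨α, hα, h'⟩ := h
  ⟨α, hα, fun x => (h' x).trans (e x x.2)⟩

/-- The maps of `N_F^K(Q)`. -/
def KRel (F : FusionSystem S) (Q : Subgroup Ω) (K : Subgroup (MulAut Q)) (P : Subgroup Ω)
    (f : Ω → Ω) : Prop :=
  P ≤ NK S Q K ∧ (∀ x ∈ P, f x ∈ NK S Q K) ∧
    ∃ f', IsMap F (P ⊔ Q) f' ∧ (∀ x ∈ P, f' x = f x) ∧ OnK K f'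

/-- The system `N_F^K(Q)`. -/
noncomputable def kSys (F : FusionSystem S) (Q : Subgroup Ω) (K : Subgroup (MulAut Q))
    (hQ : Q ≤ S) : FusionSystem (NK S Q K) where
  Hom P := {φ | KRel F Q K P (toFn φ)}
  le_of_mem := fun ⟨h1, h2, _⟩ => ⟨h1, fun x => toFn_coe _ x ▸ h2 x x.2⟩
  injective_of_mem := by
    rintro P φ ⟨-, -, f', hf', e, -⟩ a b hab
    refine Subtype.ext (hf'.inj (Subgroup.mem_sup_left a.2) (Subgroup.mem_sup_left b.2) ?_)
    rw [e a a.2, e b b.2, toFn_coe, toFn_coe, hab]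
  conj_mem := by
    intro P g hP hg
    refine ⟨hP, fun x hx => ?_, fun x => g * x * g⁻¹,
      IsMap.conj (sup_le (hP.trans (NK_le S Q K)) hQ) (NK_le S Q K hg),
      fun x hx => (toFn_apply (conjHom P g) hx).symm, onK_conj hg⟩
    rw [toFn_apply _ hx]
    exact mul_mem (mul_mem hg (hP hx)) (inv_mem hg)
  comp_mem := by
    rintro P R φ ψ ⟨hP, -, f', hf', e, hK⟩ ⟨-, hψ, g', hg', e', hK'⟩ h
    refine ⟨hP, fun x hx => ?_, fun x => g' (f' x), hf'.comp hg' fun x hx => ?_, fun x hx => ?_,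
      hK.comp hK'⟩
    · rw [toFn_apply _ hx]
      exact toFn_coe ψ _ ▸ hψ _ (φ.codRestrict R h ⟨x, hx⟩).2
    · refine hf'.forall_mem_sup le_sup_left le_sup_right (fun y hy => Subgroup.mem_sup_left ?_)
        (fun y hy => Subgroup.mem_sup_right (hK.mem hy)) hx
      rw [e y hy, toFn_apply _ hy]
      exact h ⟨y, hy⟩
    · show g' (f' x) = _
      rw [e x hx, toFn_apply φ hx, e' _ (h ⟨x, hx⟩), toFn_apply _ (h ⟨x, hx⟩), toFn_apply _ hx]
      rfl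
  inv_mem := by
    rintro P φ ⟨hP, hφ, f', hf', e, hK⟩
    have himgP : img f' P = φ.range := (img_congr e).trans (toFn_img φ)
    obtain ⟨g, hg, hgf, hfg⟩ := hf'.isIso.symm
    have hQimg : Q ≤ img f' (P ⊔ Q) := fun y hy => by
      obtain ⟨x, hx, rfl⟩ := hK.exists_eq hy
      exact hf'.mem_img (Subgroup.mem_sup_right hx)
    have hRimg : φ.range ≤ img f' (P ⊔ Q) := himgP ▸ hf'.img_le le_sup_left
      fun x hx => hf'.mem_img (Subgroup.mem_sup_left hx)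
    obtain ⟨ψ, hψ, hψg⟩ := hg.1.mono hRimg
    refine ⟨ψ, ⟨?_, fun y hy => ?_, g, hg.1.mono (sup_le hRimg hQimg), fun y hy => ?_, ?_⟩,
      fun x => ?_⟩
    · rintro _ ⟨x, rfl⟩
      exact toFn_coe φ x ▸ hφ x x.2
    · obtain ⟨x, rfl⟩ := hy
      rw [toFn_apply ψ (show φ x ∈ φ.range from ⟨x, rfl⟩), hψg, ← toFn_coe φ x, ← e x x.2,
        hgf x (Subgroup.mem_sup_left x.2)]
      exact hP x.2
    · rw [toFn_apply _ hy, hψg]
    · obtain ⟨α, hα, eα⟩ := hK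
      refine ⟨α⁻¹, inv_mem hα, fun y => ?_⟩
      have h1 := eα (α⁻¹ y)
      rw [MulAut.apply_inv_self] at h1
      rw [h1, hgf _ (Subgroup.mem_sup_right (α⁻¹ y).2)]
    · exact (hψg _ _).trans ((congrArg g ((toFn_coe φ x).symm.trans (e x x.2).symm)).trans
        (hgf x (Subgroup.mem_sup_left x.2)))

theorem isMap_kSys {Q : Subgroup Ω} {K : Subgroup (MulAut Q)} {hQ : Q ≤ S} {P : Subgroup Ω}
    {f : Ω → Ω} : IsMap (kSys F Q K hQ) P f ↔ KRel F Q K P f := by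
  constructor
  · rintro ⟨φ, ⟨hP, hφ, f', hf', e, hK⟩, h⟩
    exact ⟨hP, fun x hx => h x hx ▸ toFn_apply φ hx ▸ hφ x hx, f', hf',
      fun x hx => (e x hx).trans ((toFn_apply φ hx).trans (h x hx)), hK⟩
  · rintro ⟨hP, hf, f', hf', e, hK⟩
    obtain ⟨φ, hφ, h⟩ := hf'.mono (le_sup_left : P ≤ P ⊔ Q)
    have h' : ∀ x hx, toFn φ x = f x := fun x (hx : x ∈ P) =>
      (toFn_apply φ hx).trans ((h x hx).trans (e x hx))
    exact ⟨φ, ⟨hP, fun x hx => h' x hx ▸ hf x hx, f', hf',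
      fun x hx => (e x hx).trans (h' x hx).symm, hK⟩, fun x hx => (h x hx).trans (e x hx)⟩

theorem kSys_top_hom {Q : Subgroup Ω} (hQ : Q ≤ S) (P : Subgroup Ω) :
    (kSys F Q ⊤ hQ).Hom P = F.normalizerHom Q P := by
  ext φ
  constructor
  · rintro ⟨hP, hφ, f', hf', e, hK⟩
    rw [NK_top] at hP hφ
    obtain ⟨ψ, hψ, h⟩ := hf'
    refine ⟨mem_of_isMap (IsMap.mono (⟨ψ, hψ, h⟩ : IsMap F (P ⊔ Q) f') le_sup_left)
      (fun x => (toFn_coe φ x).symm.trans (e x x.2).symm), hP,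
      fun x => toFn_coe φ x ▸ hφ x x.2, ψ, hψ, fun x => ?_, ?_⟩
    · exact (h _ _).trans ((e x x.2).trans (toFn_coe φ x))
    · ext y
      constructor
      · rintro ⟨x, hx, rfl⟩
        rw [h x x.2]
        exact hK.mem hx
      · intro hy
        obtain ⟨x, hx, rfl⟩ := hK.exists_eq hy
        exact ⟨⟨x, Subgroup.mem_sup_right hx⟩, hx, h _ _⟩
  · rintro ⟨hφ, hP, hφN, ψ, hψ, h, hQQ⟩
    have hm : IsMap F (P ⊔ Q) (toFn ψ) := isMap_toFn hψ
    have hiso : IsIso F Q Q (toFn ψ) := by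
      refine ⟨hm.mono le_sup_right, IsIso.img_eq_of hm le_sup_right (fun x hx => ?_) fun y hy => ?_⟩
      · rw [toFn_apply ψ (Subgroup.mem_sup_right hx)]
        exact hQQ.le ⟨_, hx, rfl⟩
      · obtain ⟨x, hx, rfl⟩ := hQQ.ge hy
        exact ⟨x, hx, toFn_coe ψ x⟩
    refine ⟨by rwa [NK_top], fun x hx => ?_, toFn ψ, hm, fun x hx => ?_,
      ⟨hiso.equiv, trivial, fun x => hiso.equiv_apply x⟩⟩
    · rw [NK_top, toFn_apply φ hx]
      exact hφN _
    · rw [toFn_apply φ hx, toFn_apply ψ (Subgroup.mem_sup_left hx)]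
      exact h ⟨x, hx⟩

theorem kSys_bot_hom {Q : Subgroup Ω} (hQ : Q ≤ S) (P : Subgroup Ω) :
    (kSys F Q ⊥ hQ).Hom P = F.centralizerHom Q P := by
  ext φ
  constructor
  · rintro ⟨hP, hφ, f', hf', e, α, hα, eα⟩
    rw [NK_bot] at hP hφ
    obtain rfl := Subgroup.mem_bot.1 hα
    obtain ⟨ψ, hψ, h⟩ := hf'
    exact ⟨mem_of_isMap (IsMap.mono (⟨ψ, hψ, h⟩ : IsMap F (P ⊔ Q) f') le_sup_left)
      (fun x => (toFn_coe φ x).symm.trans (e x x.2).symm), hP,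
      fun x => toFn_coe φ x ▸ hφ x x.2, ψ, hψ,
      fun x => (h _ _).trans ((e x x.2).trans (toFn_coe φ x)),
      fun x => (h _ _).trans (eα x).symm⟩
  · rintro ⟨hφ, hP, hφN, ψ, hψ, h, hfix⟩
    refine ⟨by rwa [NK_bot], fun x hx => ?_, toFn ψ, isMap_toFn hψ, fun x hx => ?_,
      ⟨1, one_mem _, fun x => ?_⟩⟩
    · rw [NK_bot, toFn_apply φ hx]
      exact hφN _
    · rw [toFn_apply φ hx, toFn_apply ψ (Subgroup.mem_sup_left hx)]
      exact h ⟨x, hx⟩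
    · rw [toFn_apply ψ (Subgroup.mem_sup_right x.2)]
      exact (hfix x).symm

/-- Automorphisms of `M` stabilising a subgroup `P`, inducing an element of `J` there. -/
def restK {M P : Subgroup Ω} (h : P ≤ M) (J : Subgroup (MulAut P)) : Subgroup (MulAut M) where
  carrier := {α | ∃ β ∈ J, ∀ x : P, ((β x : P) : Ω) = (α ⟨x, h x.2⟩ : M)}
  one_mem' := ⟨1, one_mem _, fun _ => rfl⟩
  mul_mem' := by
    rintro a b ⟨u, hu, e⟩ ⟨v, hv, e'⟩
    refine ⟨u * v, mul_mem hu hv, fun x => ?_⟩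
    rw [MulAut.mul_apply, e, MulAut.mul_apply]
    exact congrArg (fun y : M => ((a y : M) : Ω)) (Subtype.ext (e' x))
  inv_mem' := by
    rintro a ⟨u, hu, e⟩
    refine ⟨u⁻¹, inv_mem hu, fun x => ?_⟩
    have h1 := e (u⁻¹ x)
    rw [MulAut.apply_inv_self] at h1
    have h2 : (⟨x, h x.2⟩ : M) = a ⟨(u⁻¹ x : P), h (u⁻¹ x).2⟩ := Subtype.ext h1
    rw [h2, MulAut.inv_apply_self]

/-- The restriction to `P`. -/
noncomputable def restHom {M P : Subgroup Ω} (h : P ≤ M) (J : Subgroup (MulAut P)) :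
    restK h J →* MulAut P :=
  MonoidHom.mk' (fun α => α.2.choose) fun a b => MulEquiv.ext fun x => Subtype.ext (by
    rw [(a * b).2.choose_spec.2 x, MulAut.mul_apply, a.2.choose_spec.2, Subgroup.coe_mul,
      MulAut.mul_apply]
    exact congrArg (fun y : M => (((a : MulAut M) y : M) : Ω))
      (Subtype.ext (b.2.choose_spec.2 x)).symm)

theorem restHom_apply {M P : Subgroup Ω} (h : P ≤ M) (J : Subgroup (MulAut P)) (α : restK h J)
    (x : P) : ((restHom h J α x : P) : Ω) = ((α : MulAut M) ⟨x, h x.2⟩ : M) :=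
  α.2.choose_spec.2 x

theorem IsSylowIn.subgroupOf {M : Type*} [Group M] [Finite M] {p : ℕ} [Fact p.Prime]
    {A B W : Subgroup M} (h : IsSylowIn p B A) (hA : A ≤ W) :
    IsSylowIn p (B.subgroupOf W) (A.subgroupOf W) := by
  have hle : B.subgroupOf W ≤ A.subgroupOf W := fun x hx => h.le hx
  rw [isSylowIn_iff_card hle, Nat.card_congr (Subgroup.subgroupOfEquivOfLe hA).toEquiv,
    Nat.card_congr (Subgroup.subgroupOfEquivOfLe (h.le.trans hA)).toEquiv]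
  exact h.card

theorem img_img {M P : Subgroup Ω} {f g : Ω → Ω} {R : Subgroup Ω} (hf : IsMap F M f) (hP : P ≤ M)
    (hg : IsMap F R g) (h : img f P ≤ R) : img g (img f P) = img (fun x => g (f x)) P :=
  ((hf.isIso_of_mono hP).trans (hg.isIso_of_mono h)).2.symm

theorem map_NK {M0 Q R : Subgroup Ω} {K1 : Subgroup (MulAut Q)} {K2 : Subgroup (MulAut R)}
    {f : Ω → Ω} (hf : IsMap F M0 f) (hQ : Q ≤ M0) (hR : img f Q = R)
    (hK : ∀ α ∈ K1, ∃ β ∈ K2, ∀ (x : Q) (hx : f x ∈ R), ((β ⟨f x, hx⟩ : R) : Ω) = f (α x : Q))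
    {g : Ω} (hgM : g ∈ M0) (hg : g ∈ NK S Q K1) : f g ∈ NK S R K2 := by
  obtain ⟨-, α, hα, e⟩ := mem_NK.1 hg
  obtain ⟨β, hβ, e'⟩ := hK α hα
  refine mem_NK.2 ⟨hf.mem hgM, β, hβ, fun y => ?_⟩
  obtain ⟨y, hy⟩ := y
  obtain ⟨x, hx, rfl⟩ := (hf.mem_img_iff hQ).1 (hR.symm ▸ hy)
  refine (e' ⟨x, hx⟩ hy).trans ?_
  rw [e ⟨x, hx⟩]
  exact hf.map_conj hgM (hQ hx)

variable {Q : Subgroup Ω} {K : Subgroup (MulAut Q)}

theorem le_NK_sup [Finite S] {P : Subgroup Ω} (hQ : Q ≤ S) (hP : P ≤ NK S Q K) :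
    P ⊔ Q ≤ S := sup_le (hP.trans (NK_le S Q K)) hQ

/-- Fully normalized subgroups of `N_F^K(Q)` give fully `L`-normalized subgroups of `F`. -/
theorem fullyK_sup [Finite S] {p : ℕ} [Fact p.Prime] (hS : IsPGroup p S) (hF : F.IsSaturated p)
    (hQK : IsFullyK F Q K) {P : Subgroup Ω}
    (hP : (kSys F Q K hQK.1).IsFullyNormalized P) (J : Subgroup (MulAut P))
    (hJ : autInducedBy (NK S Q K) P ≤ J) :
    IsFullyK F (P ⊔ Q) (restK le_sup_right K ⊓ restK le_sup_left J) := by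
  set N := NK S Q K
  set L := restK (le_sup_right : Q ≤ P ⊔ Q) K ⊓ restK le_sup_left J with hL
  have hMS : P ⊔ Q ≤ S := le_NK_sup hQK.1 hP.1
  refine ⟨hMS, fun M' f hf => ?_⟩
  -- the easy inclusion
  have hge : normalizerIn N P ≤ NK S (P ⊔ Q) L := by
    intro g hg
    have hgS : g ∈ S := NK_le S Q K hg.1
    have := finite_of_le hMS
    have hgN : g ∈ normalizerIn S (P ⊔ Q) := by
      refine mem_normalizerIn_of_conj hgS fun x hx => ?_
      exact (IsMap.conj (F := F) hMS hgS).forall_mem_sup le_sup_left le_sup_right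
        (fun y hy => Subgroup.mem_sup_left (normalizerIn_conj hg hy))
        (fun y hy => Subgroup.mem_sup_right ((onK_conj hg.1).mem hy)) hx
    refine mem_NK.2 ⟨hgS, normConj S _ ⟨g, hgN⟩, ⟨?_, ?_⟩, fun x => rfl⟩
    · obtain ⟨β, hβ, e⟩ := onK_conj hg.1
      exact ⟨β, hβ, e⟩
    · exact ⟨normConj N P ⟨g, hg⟩, hJ ((range_normConj N P).le ⟨_, rfl⟩), fun x => rfl⟩
  set P'' := img f P
  set Q'' := img f Q
  set K'' := transK (hf.mono (le_sup_right : Q ≤ P ⊔ Q)) K with hK''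
  have hfP : IsIso F P P'' f := hf.mono le_sup_left
  have hfQ : IsIso F Q Q'' f := hf.mono le_sup_right
  obtain ⟨h₀, hh₀, hh₀f, -⟩ := hfQ.symm
  obtain ⟨hrec, hsyl⟩ := fullyK_spec hS hF hQK
  have hcomp : ∀ α ∈ K'', MulAut.congr hh₀.equiv α ∈ K := by
    rintro _ ⟨α, hα, rfl⟩
    suffices h : MulAut.congr hh₀.equiv (MulAut.congr hfQ.equiv α) = α from h.symm ▸ hα
    refine MulEquiv.ext fun x => Subtype.ext ?_
    have hx : hh₀.equiv (hfQ.equiv x) = x := Subtype.ext (hh₀f x x.2)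
    conv_lhs => rw [← hx]
    rw [congr_apply_coe]
    exact (congrArg h₀ (congr_apply_coe hfQ α x)).trans (hh₀f _ (α x).2)
  obtain ⟨χ, hχ, h, hh, heq⟩ := exists_KExtension hS hrec hsyl hh₀ K'' hcomp
  have hQim : img h Q'' = Q := by
    rw [img_congr heq]
    exact (hh₀.trans (isIso_autFn hQK.1 hχ.1)).2
  have hfx : ∀ x ∈ Q, h (f x) = autFn χ x := fun x hx => by
    rw [heq _ (hfQ.mem hx), hh₀f x hx]
  have hhN : ∀ g ∈ NK S Q'' K'', h g ∈ N := by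
    intro g hg
    refine map_NK hh le_sup_left hQim (fun α hα => ?_) (Subgroup.mem_sup_right hg) hg
    obtain ⟨β, hβ, e⟩ := mem_transK.1 hα
    refine ⟨χ * β * χ⁻¹, mul_mem (mul_mem hχ.2 hβ) (inv_mem hχ.2), fun y hy => ?_⟩
    obtain ⟨x, rfl⟩ := hfQ.equiv.surjective y
    have h1 : (⟨h (hfQ.equiv x : Q''), hy⟩ : Q) = χ x :=
      Subtype.ext ((hfx x x.2).trans (autFn_apply χ x.2))
    rw [h1, MulAut.mul_apply, MulAut.mul_apply, MulAut.inv_apply_self]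
    rw [e x, hfx _ (β x).2, autFn_apply χ (β x).2]
  have hPN'' : P'' ≤ NK S Q'' K'' := by
    refine hf.1.img_le le_sup_left fun x hx => ?_
    refine map_NK hf.1 le_sup_right rfl (fun α hα => ?_) (Subgroup.mem_sup_left hx) (hP.1 hx)
    refine ⟨MulAut.congr hfQ.equiv α, ⟨α, hα, rfl⟩, fun y hy => ?_⟩
    exact congr_apply_coe hfQ α y
  have hP''M : P'' ≤ Q'' ⊔ NK S Q'' K'' := hPN''.trans le_sup_right
  set P₃ := img h P''
  have hconj : (kSys F Q K hQK.1).IsConj P P₃ := by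
    refine isConj_iff.2 ⟨fun x => h (f x), isMap_kSys.2 ⟨hP.1, fun x hx => hhN _ (hPN''
      (hfP.mem hx)), fun x => h (f x), hf.1.comp hh fun x hx => ?_, fun _ _ => rfl, χ, hχ.2,
      fun x => ?_⟩, ?_⟩
    · exact hf.1.forall_mem_sup le_sup_left le_sup_right (fun y hy => hP''M (hfP.mem hy))
        (fun y hy => Subgroup.mem_sup_left (hfQ.mem hy)) hx
    · exact (autFn_apply χ x.2).symm.trans (hfx x x.2).symm
    · exact (img_img hf.1 le_sup_left hh hP''M).symm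
  refine le_trans ?_ ((hP.2 P₃ hconj).trans ?_)
  · have hle : NK S M' (transK hf L) ≤ Q'' ⊔ NK S Q'' K'' ∧
        ∀ g ∈ NK S M' (transK hf L), g ∈ NK S Q'' K'' ∧ g ∈ normalizerIn S P'' := by
      suffices H : ∀ g ∈ NK S M' (transK hf L), g ∈ NK S Q'' K'' ∧ g ∈ normalizerIn S P'' from
        ⟨fun g hg => Subgroup.mem_sup_right (H g hg).1, H⟩
      intro g hg
      obtain ⟨hgS, β, hβ, e⟩ := mem_NK.1 hg
      obtain ⟨α, ⟨⟨a, ha, ea⟩, ⟨b, hb, eb⟩⟩, eα⟩ := mem_transK.1 hβ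
      have key : ∀ x : ↥(P ⊔ Q), g * f x * g⁻¹ = f (α x : ↥(P ⊔ Q)) := fun x => by
        rw [← eα x, e (hf.equiv x)]
        rfl
      constructor
      · refine mem_NK.2 ⟨hgS, MulAut.congr hfQ.equiv a, ⟨a, ha, rfl⟩, fun y => ?_⟩
        obtain ⟨x, rfl⟩ := hfQ.equiv.surjective y
        rw [congr_apply_coe, ea x, ← key]
        rfl
      · have := finite_of_le hfP.le_right
        refine mem_normalizerIn_of_conj hgS fun y hy => ?_
        obtain ⟨x, hx, rfl⟩ := hfP.exists_eq hy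
        rw [key ⟨x, Subgroup.mem_sup_left hx⟩, ← eb ⟨x, hx⟩]
        exact hfP.mem (b ⟨x, hx⟩).2
    rw [← hh.card_img hle.1]
    have := finite_of_le (S := S) (P := normalizerIn N P₃) (inf_le_left.trans (NK_le S Q K))
    refine Subgroup.card_le_of_le (hh.img_le hle.1 fun g hg => ⟨hhN g (hle.2 g hg).1, ?_⟩)
    exact (map_normalizerIn hh hP''M rfl (hle.1 hg) (hle.2 g hg).2).2
  · have := finite_of_le (S := S) (P := NK S (P ⊔ Q) L) (NK_le _ _ _)
    exact Subgroup.card_le_of_le hge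

theorem kSys_receptive [Finite S] {p : ℕ} [Fact p.Prime] (hS : IsPGroup p S)
    (hF : F.IsSaturated p) (hQK : IsFullyK F Q K) {P : Subgroup Ω}
    (hP : (kSys F Q K hQK.1).IsFullyNormalized P) :
    (kSys F Q K hQK.1).IsReceptive P := by
  set N := NK S Q K
  refine isReceptive_iff.2 ⟨hP.1, fun P₀ φ hφ => ?_⟩
  obtain ⟨hP₀, hφN, f', hf', e, hK⟩ := isMap_kSys.1 hφ.1
  have hJ : autInducedBy N P ≤ autInducedBy N P := le_rfl
  obtain ⟨hrec, hsyl⟩ := fullyK_spec hS hF (fullyK_sup hS hF hQK hP _ hJ)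
  have hiso : IsIso F (P₀ ⊔ Q) (P ⊔ Q) f' := by
    refine ⟨hf', IsIso.img_eq_of hf' le_rfl (fun x hx => ?_) fun y hy => ?_⟩
    · exact hf'.forall_mem_sup le_sup_left le_sup_right
        (fun z hz => Subgroup.mem_sup_left (e z hz ▸ hφ.mem hz))
        (fun z hz => Subgroup.mem_sup_right (hK.mem hz)) hx
    · refine (hf'.mem_img_iff le_rfl).1 ((sup_le (fun z hz => ?_) (fun z hz => ?_) :
        P ⊔ Q ≤ img f' (P₀ ⊔ Q)) hy)
      · obtain ⟨x, hx, rfl⟩ := hφ.exists_eq hz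
        exact e x hx ▸ hf'.mem_img (Subgroup.mem_sup_left hx)
      · obtain ⟨x, hx, rfl⟩ := hK.exists_eq hz
        exact hf'.mem_img (Subgroup.mem_sup_right hx)
  set L := restK (le_sup_right : Q ≤ P ⊔ Q) K ⊓ restK le_sup_left (autInducedBy N P)
  obtain ⟨χ, ⟨hχA, ⟨a, ha, ea⟩, ⟨b, hb, eb⟩⟩, F', hF', heq⟩ :=
    exists_KExtension hS hrec hsyl hiso (L.comap (MulAut.congr hiso.equiv).toMonoidHom)
      (fun α hα => hα)
  obtain ⟨n, hn, hbn⟩ := mem_autInducedBy_iff.1 hb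
  have hnS : n ∈ S := NK_le S Q K hn
  set F'' := fun x => n⁻¹ * F' x * n⁻¹⁻¹ with hF''
  have hF''m := hF'.comp (IsMap.conj (F := F) (le_refl S) (inv_mem hnS)) fun x hx => hF'.mem hx
  obtain ⟨u, hu, hun⟩ := onK_conj (K := K) (inv_mem hn)
  obtain ⟨k, hk, hkf⟩ := hK
  have hFQ : ∀ x : Q, ((u * a * k) x : Q) = (F'' x : Ω) := by
    intro x
    show ((u (a (k x)) : Q) : Ω) = n⁻¹ * F' x * n⁻¹⁻¹
    rw [hun, ea, heq x (Subgroup.mem_sup_right x.2),
      autFn_apply χ (hiso.mem (Subgroup.mem_sup_right x.2))]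
    exact congrArg (fun z : ↥(P ⊔ Q) => n⁻¹ * ((χ z : ↥(P ⊔ Q)) : Ω) * n⁻¹⁻¹)
      (Subtype.ext (hkf x))
  have hFP : ∀ x ∈ P₀, F'' x = φ x := by
    intro x hx
    show n⁻¹ * F' x * n⁻¹⁻¹ = φ x
    rw [heq x (Subgroup.mem_sup_left hx), autFn_apply χ (hiso.mem (Subgroup.mem_sup_left hx))]
    have h1 : (⟨f' x, hiso.mem (Subgroup.mem_sup_left hx)⟩ : ↥(P ⊔ Q)) =
        ⟨φ x, Subgroup.mem_sup_left (hφ.mem hx)⟩ := Subtype.ext (e x hx)
    rw [h1, ← eb ⟨φ x, hφ.mem hx⟩, hbn ⟨φ x, hφ.mem hx⟩]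
    group
  -- the extender lies in the `L`-normalizer
  have hX : Nx N P₀ φ ≤ NK S (P₀ ⊔ Q) (L.comap (MulAut.congr hiso.equiv).toMonoidHom) := by
    intro g hg
    obtain ⟨hgN, h, hh, hgh⟩ := mem_Nx.1 hg
    have hgS : g ∈ S := NK_le S Q K hgN.1
    have := finite_of_le hiso.le_left
    have hgM : g ∈ normalizerIn S (P₀ ⊔ Q) := by
      refine mem_normalizerIn_of_conj hgS fun x hx => ?_
      exact (IsMap.conj (F := F) hiso.le_left hgS).forall_mem_sup le_sup_left le_sup_right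
        (fun y hy => Subgroup.mem_sup_left (normalizerIn_conj hgN hy))
        (fun y hy => Subgroup.mem_sup_right ((onK_conj hgN.1).mem hy)) hx
    refine mem_NK.2 ⟨hgS, normConj S _ ⟨g, hgM⟩, ⟨?_, ?_⟩, fun x => rfl⟩
    · obtain ⟨v, hv, hvg⟩ := onK_conj hgN.1
      refine ⟨k * v * k⁻¹, mul_mem (mul_mem hk hv) (inv_mem hk), fun y => ?_⟩
      obtain ⟨x, rfl⟩ := k.surjective y
      rw [MulAut.mul_apply, MulAut.mul_apply, MulAut.inv_apply_self, hkf, hvg]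
      have h1 : (⟨(k x : Q), Subgroup.mem_sup_right (k x).2⟩ : ↥(P ⊔ Q)) =
          hiso.equiv ⟨x, Subgroup.mem_sup_right x.2⟩ := Subtype.ext (hkf x)
      rw [h1]
      refine Eq.trans ?_ (congr_apply_coe hiso _ _).symm
      rfl
    · have hPfin := finite_of_le (hP.1.trans (NK_le S Q K))
      have hhP : h ∈ normalizerIn N P := by
        refine mem_normalizerIn_of_conj hh fun y hy => ?_
        obtain ⟨x, hx, rfl⟩ := hφ.exists_eq hy
        rw [← hgh x hx]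
        exact hφ.mem (normalizerIn_conj hgN hx)
      refine ⟨normConj N P ⟨h, hhP⟩, (range_normConj N P).le ⟨_, rfl⟩, fun y => ?_⟩
      obtain ⟨y, hy⟩ := y
      obtain ⟨x, hx, rfl⟩ := hφ.exists_eq hy
      have h1 : (⟨φ x, Subgroup.mem_sup_left hy⟩ : ↥(P ⊔ Q)) =
          hiso.equiv ⟨x, Subgroup.mem_sup_left hx⟩ := Subtype.ext (e x hx).symm
      rw [h1]
      refine Eq.trans ?_ (congr_apply_coe hiso _ _).symm
      show h * φ x * h⁻¹ = f' (g * x * g⁻¹)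
      rw [← hgh x hx, e _ (normalizerIn_conj hgN hx)]
  refine ⟨F'', isMap_kSys.2 ⟨fun g hg => hg.1.1, fun g hg => ?_, F'', hF''m.mono ?_,
    fun _ _ => rfl, u * a * k, mul_mem (mul_mem hu ha) hk, hFQ⟩, hFP⟩
  · have hQle : Q ≤ (P₀ ⊔ Q) ⊔ NK S (P₀ ⊔ Q) (L.comap (MulAut.congr hiso.equiv).toMonoidHom) :=
      le_sup_right.trans le_sup_left
    have hOn : OnK K F'' := ⟨u * a * k, mul_mem (mul_mem hu ha) hk, hFQ⟩
    refine map_NK hF''m hQle (hOn.img_eq hF''m hQle) (fun α hα => ?_)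
      (Subgroup.mem_sup_right (hX hg)) hg.1.1
    refine ⟨(u * a * k) * α * (u * a * k)⁻¹,
      mul_mem (mul_mem (mul_mem (mul_mem hu ha) hk) hα)
        (inv_mem (mul_mem (mul_mem hu ha) hk)), fun y hy => ?_⟩
    have h1 : (⟨_, hy⟩ : Q) = (u * a * k) y := Subtype.ext (hFQ y).symm
    rw [h1, MulAut.mul_apply, MulAut.mul_apply, MulAut.inv_apply_self, hFQ]
  · exact sup_le (hX.trans le_sup_right) (le_sup_right.trans le_sup_left)

theorem kSys_fullyAutomized_top [Finite S] {p : ℕ} [Fact p.Prime] (hS : IsPGroup p S)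
    (hF : F.IsSaturated p) (hQK : IsFullyK F Q K) :
    (kSys F Q K hQK.1).IsFullyAutomized p (NK S Q K) := by
  set N := NK S Q K
  have := finite_of_le (S := S) (P := N) (NK_le S Q K)
  obtain ⟨-, hsyl⟩ := fullyK_spec hS hF
    (fullyK_sup hS hF hQK (isFullyNormalized_self (kSys F Q K hQK.1)) ⊤ le_top)
  have hMS : N ⊔ Q ≤ S := le_NK_sup hQK.1 le_rfl
  have := finite_mulAut hMS
  refine isFullyAutomized_iff.2 ⟨le_rfl, ?_⟩
  set M := N ⊔ Q
  set W := restK (le_sup_left : N ≤ M) ⊤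
  have h1 := (hsyl.subgroupOf (W := W) (inf_le_right.trans inf_le_right)).image (restHom _ ⊤)
  convert h1 using 1
  · ext β
    constructor
    · intro hβ
      obtain ⟨g, hg, hgβ⟩ := mem_autInducedBy_iff.1 hβ
      have hgS : g ∈ S := NK_le S Q K hg
      have hgM : g ∈ normalizerIn S M := le_normalizerIn hMS (Subgroup.mem_sup_left hg)
      have hW : normConj S M ⟨g, hgM⟩ ∈ W := ⟨β, trivial, fun x => hgβ x⟩
      refine ⟨⟨_, hW⟩, ⟨(range_normConj S M).le ⟨_, rfl⟩, onK_conj hg, hW⟩, ?_⟩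
      exact MulEquiv.ext fun x => Subtype.ext ((restHom_apply _ _ _ x).trans (hgβ x).symm)
    · rintro ⟨α, ⟨hα, ⟨a, ha, ea⟩, -⟩, rfl⟩
      obtain ⟨g, hg, hgα⟩ := mem_autInducedBy_iff.1 hα
      have hgN : g ∈ N := mem_NK.2 ⟨hg, a, ha, fun x =>
        (ea x).trans (hgα ⟨x, Subgroup.mem_sup_right x.2⟩)⟩
      exact mem_autInducedBy_iff.2 ⟨g, hgN, fun x =>
        (restHom_apply _ _ _ x).trans (hgα ⟨x, Subgroup.mem_sup_left x.2⟩)⟩
  · ext β
    rw [mem_autGroup_iff le_rfl, isMap_kSys]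
    constructor
    · rintro ⟨-, -, f', hf', e, a, ha, hK⟩
      have hiso : IsIso F M M f' := by
        refine ⟨hf', eq_of_le_of_card hMS (hf'.img_le le_rfl fun x hx => ?_) (hf'.card_img le_rfl).ge⟩
        exact hf'.forall_mem_sup le_sup_left le_sup_right
          (fun z hz => Subgroup.mem_sup_left (e z hz ▸ autFn_mem β hz))
          (fun z hz => Subgroup.mem_sup_right (OnK.mem ⟨a, ha, hK⟩ hz)) hx
      obtain ⟨α, hα, hαf⟩ := exists_aut_of_isIso hiso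
      have hW : α ∈ W := ⟨β, trivial, fun x =>
        ((autFn_apply β x.2).symm.trans (e x x.2).symm).trans (hαf ⟨x, Subgroup.mem_sup_left x.2⟩).symm⟩
      refine ⟨⟨α, hW⟩, ⟨hα, ⟨a, ha, fun x => (hK x).trans (hαf ⟨x, Subgroup.mem_sup_right x.2⟩).symm⟩, hW⟩, ?_⟩
      refine MulEquiv.ext fun x => Subtype.ext ((restHom_apply _ _ _ x).trans ?_)
      exact (hαf ⟨x, Subgroup.mem_sup_left x.2⟩).trans ((e x x.2).trans (autFn_apply β x.2))
    · rintro ⟨α, ⟨hα, ⟨a, ha, ea⟩, -⟩, rfl⟩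
      refine ⟨le_rfl, fun x hx => autFn_mem _ hx, autFn (α : MulAut M),
        (mem_autGroup_iff hMS).1 hα, fun x hx => ?_, a, ha, fun x => ?_⟩
      · rw [autFn_apply _ (Subgroup.mem_sup_left hx), autFn_apply _ hx]
        exact (restHom_apply _ _ α ⟨x, hx⟩).symm
      · rw [autFn_apply _ (Subgroup.mem_sup_right x.2)]
        exact ea x

theorem isSaturated_kSys [Finite S] {p : ℕ} [Fact p.Prime] (hS : IsPGroup p S)
    (hF : F.IsSaturated p) (hQK : IsFullyK F Q K) : (kSys F Q K hQK.1).IsSaturated p :=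
  have := finite_of_le (S := S) (P := NK S Q K) (NK_le S Q K)
  isSaturated_of_criterion (hS.to_le (NK_le S Q K)) (kSys_fullyAutomized_top hS hF hQK)
    fun _ hP => kSys_receptive hS hF hQK hP

end Cfsg.Agent.Fusion

namespace Cfsg.Agent.Fusion

open Cfsg Cfsg.FusionSystem

variable {Ω : Type*} [Group Ω] {T T' : Subgroup Ω}

theorem exists_system_congr (h : T = T') (E : FusionSystem T) {H : (P : Subgroup Ω) → Set (P →* Ω)}
    (hH : ∀ P, E.Hom P = H P) : ∃ E' : FusionSystem T', ∀ P, E'.Hom P = H P := by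
  subst h
  exact ⟨E, hH⟩

theorem isSaturated_congr {p : ℕ} (h : T = T') {E : FusionSystem T} {E' : FusionSystem T'}
    (hH : ∀ P, E.Hom P = E'.Hom P) (hE : E.IsSaturated p) : E'.IsSaturated p := by
  subst h
  rwa [← ext_of_hom hH]

end Cfsg.Agent.Fusion
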