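import Cfsg.Agent.Lib.Fusion.Realized
import Cfsg.Agent.Lib.Fusion.KSystem
import Cfsg.Agent.Lib.Fusion.Centric
import Cfsg.Agent.Lib.Transfer.Tate
import Cfsg.Agent.Lib.Involves.Basic

/-
Normalizer systems, their models, and realizations of constrained systems by arbitrary finite groups.
Main results: `isMap_normalizer_iff`, `exists_normalizerSystem`, `isSaturated_normalizer`,
`nc_normalizer`, `exists_model_map` (a realizing group with a small centralizer maps onto the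
model), `exists_onto_model`, `involves_of_model`.
-/

set_option autoImplicit false

open scoped Classical

namespace Cfsg.Agent.Fusion

open Cfsg Cfsg.FusionSystem

universe u v w

variable {Ω : Type u} [Group Ω] {S : Subgroup Ω} {F : FusionSystem S} {p : ℕ}

theorem isMap_congr_hom {T T' : Subgroup Ω} {E : FusionSystem T} {E' : FusionSystem T'}
    (h : ∀ P, E.Hom P = E'.Hom P) {P : Subgroup Ω} {f : Ω → Ω} : IsMap E P f ↔ IsMap E' P f :=
  exists_congr fun φ => and_congr_left' (by rw [h P])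

theorem onK_top_iff [Finite S] {Q : Subgroup Ω} {M : Subgroup Ω} {f : Ω → Ω} (hf : IsMap F M f)
    (hQ : Q ≤ M) : OnK (⊤ : Subgroup (MulAut Q)) f ↔ ∀ x ∈ Q, f x ∈ Q := by
  refine ⟨fun h x hx => h.mem hx, fun h => ?_⟩
  have := finite_of_le (hQ.trans hf.le)
  have hiso : IsIso F Q Q f := ⟨hf.mono hQ,
    eq_of_le_of_card (hQ.trans hf.le) (hf.img_le hQ h) (hf.card_img hQ).ge⟩
  obtain ⟨α, -, e⟩ := exists_aut_of_isIso hiso
  exact ⟨α, trivial, e⟩

/-- The maps of a normalizer system. -/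
theorem isMap_normalizer_iff [Finite S] {X : Subgroup Ω} (hX : X ≤ S)
    {E : FusionSystem (normalizerIn S X)} (hE : F.IsNormalizerSystem X E) {P : Subgroup Ω}
    {f : Ω → Ω} :
    IsMap E P f ↔ P ≤ normalizerIn S X ∧ (∀ x ∈ P, f x ∈ normalizerIn S X) ∧
      ∃ f', IsMap F (P ⊔ X) f' ∧ (∀ x ∈ P, f' x = f x) ∧ ∀ x ∈ X, f' x ∈ X := by
  rw [isMap_congr_hom (E' := kSys F X ⊤ hX) (fun P => (hE P).trans (kSys_top_hom hX P).symm),
    isMap_kSys, KRel, NK_top]
  refine and_congr_right fun _ => and_congr_right fun _ => ?_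
  exact ⟨fun ⟨f', h1, h2, h3⟩ => ⟨f', h1, h2, (onK_top_iff h1 le_sup_right).1 h3⟩,
    fun ⟨f', h1, h2, h3⟩ => ⟨f', h1, h2, (onK_top_iff h1 le_sup_right).2 h3⟩⟩

theorem exists_normalizerSystem {X : Subgroup Ω} (hX : X ≤ S) :
    ∃ E : FusionSystem (normalizerIn S X), F.IsNormalizerSystem X E :=
  exists_system_congr (NK_top S X) (kSys F X ⊤ hX) (kSys_top_hom hX)

theorem isSaturated_normalizer [Finite S] [Fact p.Prime] (hS : IsPGroup p S) (hF : F.IsSaturated p)
    {X : Subgroup Ω} (hX : F.IsFullyNormalized X) {E : FusionSystem (normalizerIn S X)}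
    (hE : F.IsNormalizerSystem X E) : E.IsSaturated p :=
  isSaturated_congr (NK_top S X) (fun P => (kSys_top_hom hX.1 P).trans (hE P).symm)
    (isSaturated_kSys hS hF (isFullyK_top_iff.2 hX))

theorem normal_in_normalizer [Finite S] {X : Subgroup Ω} (hX : X ≤ S)
    {E : FusionSystem (normalizerIn S X)} (hE : F.IsNormalizerSystem X E) : E.IsNormal X := by
  have : Finite (normalizerIn S X) := finite_of_le (S := S) inf_le_left
  refine FusionChain.isNormal_iff.2 ⟨le_normalizerIn hX, fun P f hf => ?_⟩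
  obtain ⟨hP, hfN, f', hf', e, hX'⟩ := (isMap_normalizer_iff hX hE).1 hf
  refine ⟨f', (isMap_normalizer_iff hX hE).2 ⟨sup_le hP (le_normalizerIn hX), fun x hx => ?_, f',
    hf'.mono (sup_le le_rfl le_sup_right), fun _ _ => rfl, hX'⟩, e, hX'⟩
  exact hf'.forall_mem_sup le_sup_left le_sup_right (fun y hy => e y hy ▸ hfN y hy)
    (fun y hy => le_normalizerIn hX (hX' y hy)) hx

/-- A fully normalized centric subgroup is normal and centric in its normalizer system. -/
theorem nc_normalizer [Finite S] [Fact p.Prime] (hS : IsPGroup p S) (hF : F.IsSaturated p)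
    {X : Subgroup Ω} (hX : F.IsFullyNormalized X) (hc : F.IsCentric X)
    {E : FusionSystem (normalizerIn S X)} (hE : F.IsNormalizerSystem X E) : NC E p X := by
  have : Finite (normalizerIn S X) := finite_of_le (S := S) inf_le_left
  have hn := normal_in_normalizer hX.1 hE
  refine ⟨inferInstance, inferInstance, hS.to_le inf_le_left, isSaturated_normalizer hS hF hX hE,
    hn, hn.1, fun R hR => ?_⟩
  obtain ⟨f, hf⟩ := isConj_iff.1 hR
  have hRX : R = X := by
    refine eq_of_le_of_card hn.1 (fun y hy => ?_) hf.card_eq.ge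
    obtain ⟨x, hx, rfl⟩ := hf.exists_eq hy
    exact FusionChain.mapsTo_of_normal hn hf.1 le_rfl x hx
  subst hRX
  exact (inf_le_inf_right _ inf_le_left).trans (hc.2 R (isConj_refl F hX.1))

section Quot

variable {T P : Subgroup Ω} {N : FusionSystem T} {G : Type v} [Group G] {ι : T →* G}

/-- A finite group realizing a constrained system, with the normal centric subgroup normal and
its centralizer having only `p`-elements inside it, maps onto the model. -/
theorem exists_model_map [Finite G] (h : NC N p P) (hι : N.IsRealizedBy ι)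
    (hn : ∀ (g : G) (x : T), (x : Ω) ∈ P → ∃ y : T, (y : Ω) ∈ P ∧ g * ι x * g⁻¹ = ι y)
    (hC : ∀ g : G, (∀ x : T, (x : Ω) ∈ P → g * ι x * g⁻¹ = ι x) →
      (∃ k : ℕ, orderOf g = p ^ k) → ∃ z : T, (z : Ω) ∈ P ∧ ι z = g) :
    ∃ π : G →* h.Mdl, Function.Surjective π ∧ ∀ t, π (ι t) = h.emb t := by
  have := h.fin
  have := h.prime
  have hp : p.Prime := Fact.out
  set Pim : Subgroup G := (P.subgroupOf T).map ι with hPim
  have hPn : Pim.Normal := ⟨by
    rintro _ ⟨x, hx, rfl⟩ g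
    obtain ⟨y, hy, e⟩ := hn g x hx
    exact ⟨y, hy, e.symm⟩⟩
  have hPp : IsPGroup p Pim := (h.pgrp.to_subgroup _).map _
  set C : Subgroup G := Subgroup.centralizer (Pim : Set G)
  have hCn : C.Normal := Subgroup.normal_centralizer
  have hmemC : ∀ g : G, g ∈ C ↔ ∀ x : T, (x : Ω) ∈ P → g * ι x * g⁻¹ = ι x := by
    refine fun g => ⟨fun hg x hx => ?_, fun hg => ?_⟩
    · rw [← Subgroup.mem_centralizer_iff.1 hg (ι x) ⟨x, hx, rfl⟩, mul_inv_cancel_right]
    · refine Subgroup.mem_centralizer_iff.2 ?_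
      rintro _ ⟨x, hx, rfl⟩
      exact (mul_inv_eq_iff_eq_mul.1 (hg x hx)).symm
  have hpel : ∀ g ∈ C, (∃ k : ℕ, orderOf g = p ^ k) → g ∈ Pim := fun g hg hk => by
    obtain ⟨z, hz, rfl⟩ := hC g ((hmemC g).1 hg) hk
    exact ⟨z, hz, rfl⟩
  obtain ⟨R⟩ : Nonempty (Sylow p C) := inferInstance
  have hRP : ∀ r : C, r ∈ (R : Subgroup C) → (r : G) ∈ Pim := fun r hr => by
    obtain ⟨k, hk⟩ := R.isPGroup' ⟨r, hr⟩
    have h1 : orderOf (r : G) ∣ p ^ k :=
      orderOf_dvd_of_pow_eq_one (congrArg Subtype.val (congrArg Subtype.val hk))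
    obtain ⟨j, -, hj⟩ := (Nat.dvd_prime_pow hp).1 h1
    exact hpel r r.2 ⟨j, hj⟩
  obtain ⟨R', N0, hN0, hcompl⟩ :=
    Transfer.hasNormalPComplement_of_normalizer_le_centralizer R (fun c _ =>
      Subgroup.mem_centralizer_iff.2 fun r hr =>
        Subtype.ext (Subgroup.mem_centralizer_iff.1 c.2 r (hRP r hr)))
  have hN0c : (Nat.card N0).Coprime p := by
    rw [← hcompl.index_eq_card]
    exact (hp.coprime_iff_not_dvd.2 R'.not_dvd_index).symm
  set K : Subgroup G := Cfsg.pPrimeCore p G with hK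
  have hKn : K.Normal := Subgroup.sSup_normal _ fun _ h => h.1
  have hKc : (Nat.card K).Coprime p := Cores.coprime_card_pPrimeCore p
  have hN0K : N0.map C.subtype ≤ K := by
    have hle : N0 ≤ Cfsg.pPrimeCore p C := Cores.le_pPrimeCore hN0 hN0c
    refine (Subgroup.map_mono hle).trans ?_
    rw [Cores.pPrimeCore_map_subtype]
    exact inf_le_left
  have hKdisj : ∀ t : T, ι t ∈ K → t = 1 := fun t ht => by
    obtain ⟨k, hk⟩ := h.pgrp t
    have h1 : orderOf (ι t) ∣ p ^ k := orderOf_dvd_of_pow_eq_one (by rw [← map_pow, hk, map_one])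
    have h2 : orderOf (ι t) = 1 := Nat.eq_one_of_dvd_coprimes
      ((hKc.symm).pow_left k) h1 (Subgroup.orderOf_dvd_natCard K ht)
    exact hι.1 ((orderOf_eq_one_iff.1 h2).trans (map_one ι).symm)
  set q : G →* G ⧸ K := QuotientGroup.mk' K with hq
  have hqι : Function.Injective (q.comp ι) := (injective_iff_map_eq_one _).2 fun t ht =>
    hKdisj t ((QuotientGroup.eq_one_iff _).1 ht)
  have hreal : N.IsRealizedBy (q.comp ι) := by
    refine ⟨hqι, fun A hA φ hφ => ⟨fun hmem => ?_, fun ⟨gq, hgq⟩ => ?_⟩⟩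
    · obtain ⟨g, hg⟩ := (hι.2 A hA φ hφ).1 hmem
      exact ⟨q g, fun x => by
        simp only [MonoidHom.comp_apply, hg x, map_mul, map_inv]⟩
    obtain ⟨g, rfl⟩ := QuotientGroup.mk'_surjective K gq
    set φ' : A →* T := φ.codRestrict T hφ
    set A' : Subgroup G := (ι.comp φ').range
    set B : Subgroup G := ((MulAut.conj g).toMonoidHom.comp
      (ι.comp (Subgroup.inclusion hA))).range
    have hA'p : IsPGroup p A' :=
      (h.pgrp.to_le hA).of_surjective _ (MonoidHom.rangeRestrict_surjective _)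
    have hBp : IsPGroup p B :=
      (h.pgrp.to_le hA).of_surjective _ (MonoidHom.rangeRestrict_surjective _)
    have hsyl : IsSylowIn p A' (A' ⊔ K) := by
      refine ⟨le_sup_left, hA'p, fun D hAD hD hDp => le_antisymm (fun d hd => ?_) hAD⟩
      obtain ⟨a, ha, k, hk, rfl⟩ := Subgroup.mem_sup_of_normal_right.1 (hD hd)
      have hkD : k ∈ D := by simpa using D.mul_mem (D.inv_mem (hAD ha)) hd
      obtain ⟨n, hn⟩ := hDp ⟨k, hkD⟩
      have h1 : orderOf k ∣ p ^ n := orderOf_dvd_of_pow_eq_one (congrArg Subtype.val hn)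
      have h2 : orderOf k = 1 := Nat.eq_one_of_dvd_coprimes
        ((hKc.symm).pow_left n) h1 (Subgroup.orderOf_dvd_natCard K hk)
      rw [orderOf_eq_one_iff.1 h2, mul_one]
      exact ha
    have hBle : B ≤ A' ⊔ K := by
      rintro _ ⟨x, rfl⟩
      have e : q (ι (φ' x)) = q (g * ι ⟨x, hA x.2⟩ * g⁻¹) := by
        rw [map_mul, map_mul, map_inv]
        exact hgq x
      rw [hq, QuotientGroup.mk'_eq_mk'] at e
      obtain ⟨z, hz, e⟩ := e
      exact show g * ι ⟨x, hA x.2⟩ * g⁻¹ ∈ A' ⊔ K from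
        e ▸ Subgroup.mul_mem_sup ⟨x, rfl⟩ hz
    obtain ⟨m, hm, hconj⟩ := hsyl.exists_conj_le hBp hBle
    obtain ⟨a, ha, k, hk, rfl⟩ := Subgroup.mem_sup_of_normal_right.1 hm
    refine (hι.2 A hA φ hφ).2 ⟨k * g, fun x => ?_⟩
    have h1 := A'.mul_mem (A'.mul_mem (A'.inv_mem ha) (hconj _ ⟨x, rfl⟩)) ha
    have h2 : k * g * ι ⟨x, hA x.2⟩ * (k * g)⁻¹ ∈ A' := by
      convert h1 using 1
      show _ = a⁻¹ * (a * k * (g * ι ⟨x, hA x.2⟩ * g⁻¹) * (a * k)⁻¹) * a
      group
    obtain ⟨y, hy⟩ := h2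
    have h3 : q (ι (φ' y)) = q (ι (φ' x)) := by
      have hk1 : q k = 1 := (QuotientGroup.eq_one_iff _).2 hk
      have h4 : q (ι (φ' x)) = q g * q (ι ⟨x, hA x.2⟩) * (q g)⁻¹ := hgq x
      rw [show ι (φ' y) = k * g * ι ⟨x, hA x.2⟩ * (k * g)⁻¹ from hy, h4]
      simp [map_mul, map_inv, hk1]
    have h5 : φ' y = φ' x := hqι h3
    rw [show ι ⟨φ x, hφ x⟩ = ι (φ' x) from rfl, ← h5]
    exact hy
  obtain ⟨ψ, hψ⟩ := h.exists_equiv (q.comp ι) hreal (fun gq x hx => by
    obtain ⟨g, rfl⟩ := QuotientGroup.mk'_surjective K gq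
    obtain ⟨y, hy, e⟩ := hn g x hx
    exact ⟨y, hy, show q g * q (ι x) * (q g)⁻¹ = q (ι y) by rw [← map_inv, ← map_mul, ← map_mul, e]⟩)
    (fun gq hg => by
      obtain ⟨g, rfl⟩ := QuotientGroup.mk'_surjective K gq
      have hgC : g ∈ C := (hmemC g).2 fun x hx => by
        obtain ⟨y, hy, e⟩ := hn g x hx
        have h1 : q (g * ι x * g⁻¹) = q (ι x) := by
          rw [map_mul, map_mul, map_inv]
          exact hg x hx
        rw [e] at h1
        rw [e, hqι h1]
      obtain ⟨⟨n, r⟩, hnr⟩ := hcompl.2 ⟨g, hgC⟩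
      have hrC : ((r : C) : G) ∈ Pim := by
        obtain ⟨k, hk⟩ := R'.isPGroup' r
        have h1 : orderOf ((r : C) : G) ∣ p ^ k :=
          orderOf_dvd_of_pow_eq_one (congrArg Subtype.val (congrArg Subtype.val hk))
        obtain ⟨j, -, hj⟩ := (Nat.dvd_prime_pow hp).1 h1
        exact hpel _ (r : C).2 ⟨j, hj⟩
      obtain ⟨z, hz, ez⟩ := hrC
      refine ⟨z, (h.pr_eq_one_iff z).2 (mem_centralizerIn_of_conj z.2 fun x hx => ?_), ?_⟩
      · have h1 := (hmemC _).1 (r : C).2 ⟨x, h.le hx⟩ hx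
        rw [← ez, ← map_inv, ← map_mul, ← map_mul] at h1
        exact congrArg Subtype.val (hι.1 h1)
      · have hn1 : q ((n : C) : G) = 1 :=
          (QuotientGroup.eq_one_iff _).2 (hN0K ⟨n, n.2, rfl⟩)
        have hg' : g = ((n : C) : G) * ((r : C) : G) := congrArg Subtype.val hnr.symm
        show q (ι z) = q g
        rw [hg', map_mul, hn1, one_mul, ez])
  exact ⟨ψ.toMonoidHom.comp q, ψ.surjective.comp (QuotientGroup.mk'_surjective K), hψ⟩

/-- Two models are isomorphic, compatibly with the embeddings. -/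
theorem model_unique [Finite T] [Fact p.Prime] (hT : IsPGroup p T) {L : Type w} [Group L]
    {κ : T →* L} (hL : N.IsModel p L κ) (hG : N.IsModel p G ι) :
    ∃ ψ : L ≃* G, ∀ t, ψ (κ t) = ι t := by
  have h := nc_core hT (model_isConstrained hL)
  obtain ⟨a, ha⟩ := model_equiv hL hT h
  obtain ⟨b, hb⟩ := model_equiv hG hT h
  exact ⟨a.trans b.symm, fun t => by simp [ha, ← hb]⟩

/-- A realizing group as above maps onto every model. -/
theorem exists_onto_model [Finite G] (h : NC N p P) (hι : N.IsRealizedBy ι)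
    (hn : ∀ (g : G) (x : T), (x : Ω) ∈ P → ∃ y : T, (y : Ω) ∈ P ∧ g * ι x * g⁻¹ = ι y)
    (hC : ∀ g : G, (∀ x : T, (x : Ω) ∈ P → g * ι x * g⁻¹ = ι x) →
      (∃ k : ℕ, orderOf g = p ^ k) → ∃ z : T, (z : Ω) ∈ P ∧ ι z = g)
    {L : Type w} [Group L] {κ : T →* L} (hL : N.IsModel p L κ) :
    ∃ π : G →* L, Function.Surjective π ∧ ∀ t, π (ι t) = κ t := by
  have := h.fin
  have := h.prime
  obtain ⟨π, hπ, e⟩ := exists_model_map h hι hn hC
  obtain ⟨ψ, hψ⟩ := model_unique h.pgrp hL h.isModel_emb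
  exact ⟨ψ.symm.toMonoidHom.comp π, ψ.symm.surjective.comp hπ, fun t => by simp [e, ← hψ]⟩

theorem involves_of_model [Finite G] (h : NC N p P) (hι : N.IsRealizedBy ι)
    (hn : ∀ (g : G) (x : T), (x : Ω) ∈ P → ∃ y : T, (y : Ω) ∈ P ∧ g * ι x * g⁻¹ = ι y)
    (hC : ∀ g : G, (∀ x : T, (x : Ω) ∈ P → g * ι x * g⁻¹ = ι x) →
      (∃ k : ℕ, orderOf g = p ^ k) → ∃ z : T, (z : Ω) ∈ P ∧ ι z = g)
    {L : Type u} [Group L] {κ : T →* L} (hL : N.IsModel p L κ) {H : Type w} [Group H]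
    (hH : Cfsg.Involves H L) : Cfsg.Involves H G := by
  obtain ⟨π, hπ, -⟩ := exists_onto_model h hι hn hC hL
  exact Agent.Involves.involves_of_surjective π hπ hH

end Quot

end Cfsg.Agent.Fusion

namespace Cfsg.Agent.Fusion

open Cfsg Cfsg.FusionSystem

universe u v

variable {Ω : Type u} [Group Ω] {T : Subgroup Ω} {N : FusionSystem T} {G : Type v} [Group G]
  {ι : T →* G}

/-- An element of a realizing group carrying the image of `W` into the image of `T` gives a map. -/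
theorem exists_map_of_conj (hι : N.IsRealizedBy ι) {W : Subgroup Ω} (hW : W ≤ T) (m : G)
    (hm : ∀ (w : Ω) (hw : w ∈ W), ∃ s : T, m * ι ⟨w, hW hw⟩ * m⁻¹ = ι s) :
    ∃ g, IsMap N W g ∧ ∀ (w : Ω) (hw : w ∈ W), ∃ hg : g w ∈ T,
      m * ι ⟨w, hW hw⟩ * m⁻¹ = ι ⟨g w, hg⟩ := by
  classical
  choose s hs using hm
  let g : Ω → Ω := fun w => if hw : w ∈ W then (s w hw : Ω) else 1
  have hg : ∀ (w : Ω) (hw : w ∈ W), g w = s w hw := fun w hw => dif_pos hw
  refine ⟨g, (isMap_realized_iff hι hW (fun w hw => hg w hw ▸ Subtype.mem _)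
    fun a ha b hb => ?_).2 ⟨m, fun w hw => ?_⟩, fun w hw => ⟨hg w hw ▸ Subtype.mem _, ?_⟩⟩
  · rw [hg _ (mul_mem ha hb), hg a ha, hg b hb, ← Subgroup.coe_mul]
    refine congrArg Subtype.val (hι.1 ?_)
    rw [map_mul ι (s a ha), ← hs a ha, ← hs b hb, ← hs _ (mul_mem ha hb),
      show (⟨a * b, hW (mul_mem ha hb)⟩ : T) = ⟨a, hW ha⟩ * ⟨b, hW hb⟩ from rfl, map_mul]
    group
  all_goals
    simp only [hg w hw, Subtype.coe_eta]
    exact hs w hw

end Cfsg.Agent.Fusion
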