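import Cfsg.Agent.Lib.Fusion.GroupBridge
import Cfsg.Agent.Lib.Fusion.LocalModel

/-
The centre of a fusion system is detected in the models of its centric subgroups.
Main results: `fix_of_mem_center`, `center_le_normalizer_center`, `mem_center_of_fixed`,
`mem_center_of_local`, `wsub`, `mem_center_of_functor`.
-/

set_option autoImplicit false

namespace Cfsg.Agent.Fusion

open Cfsg Cfsg.FusionSystem

universe u

variable {Ω : Type u} [Group Ω] {S : Subgroup Ω} {F : FusionSystem S} {p : ℕ}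

/-- Elements of the centre are fixed by every map. -/
theorem fix_of_mem_center {x : Ω} (hx : x ∈ F.center) {P : Subgroup Ω} {f : Ω → Ω}
    (hf : IsMap F P f) (hxP : x ∈ P) : f x = x := by
  let C : Subgroup Ω :=
    { carrier := {y | ∀ P f, IsMap F P f →
        ∃ P' g, P ≤ P' ∧ y ∈ P' ∧ IsMap F P' g ∧ (∀ v ∈ P, g v = f v) ∧ g y = y}
      one_mem' := fun P f hf => ⟨P, f, le_rfl, P.one_mem, hf, fun _ _ => rfl, hf.map_one⟩
      mul_mem' := fun {a b} ha hb P f hf => by
        obtain ⟨P₁, g₁, h₁, haP, hg₁, e₁, ea⟩ := ha P f hf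
        obtain ⟨P₂, g₂, h₂, hbP, hg₂, e₂, eb⟩ := hb P₁ g₁ hg₁
        exact ⟨P₂, g₂, h₁.trans h₂, mul_mem (h₂ haP) hbP, hg₂,
          fun v hv => (e₂ v (h₁ hv)).trans (e₁ v hv),
          by rw [hg₂.map_mul (h₂ haP) hbP, e₂ a haP, ea, eb]⟩
      inv_mem' := fun {a} ha P f hf => by
        obtain ⟨P₁, g₁, h₁, haP, hg₁, e₁, ea⟩ := ha P f hf
        exact ⟨P₁, g₁, h₁, inv_mem haP, hg₁, e₁, by rw [hg₁.map_inv haP, ea]⟩ }
  have hle : F.center ≤ C := sSup_le fun Q hQ y hy P f hf => by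
    obtain ⟨φ, hφ, hφf⟩ := hf
    obtain ⟨ψ, hψ, h1, h2⟩ := hQ.2 P φ hφ
    exact ⟨P ⊔ Q, toFn ψ, le_sup_left, Subgroup.mem_sup_right hy, isMap_toFn hψ,
      fun v hv => (toFn_apply ψ (Subgroup.mem_sup_left hv)).trans ((h1 ⟨v, hv⟩).trans (hφf v hv)),
      (toFn_apply ψ (Subgroup.mem_sup_right hy)).trans (h2 ⟨y, hy⟩)⟩
  obtain ⟨P', g, -, -, -, e, ex⟩ := hle hx P f hf
  rw [← e x hxP, ex]

theorem center_le (F : FusionSystem S) : F.center ≤ S := sSup_le fun _ h => h.1

theorem mem_center_centralizer {x : Ω} (hx : x ∈ F.center) :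
    x ∈ S ⊓ Subgroup.centralizer (S : Set Ω) :=
  ⟨center_le F hx, Subgroup.mem_centralizer_iff.2 fun s hs =>
    mul_inv_eq_iff_eq_mul.1 (fix_of_mem_center hx (IsMap.conj le_rfl hs) (center_le F hx))⟩

/-- An element of `Z(S)` fixed by the automizers of the centric radical subgroups is central. -/
theorem mem_center_of_fixed [Finite S] [Fact p.Prime] (hS : IsPGroup p S) (hF : F.IsSaturated p)
    {x : Ω} (hx : x ∈ S ⊓ Subgroup.centralizer (S : Set Ω))
    (h : ∀ R : Subgroup Ω, F.IsFullyNormalized R → F.IsCentric R → x ∈ R →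
      ∀ α ∈ F.autGroup R, autFn α x = x) : x ∈ F.center := by
  set X := Subgroup.zpowers x
  have key : ∀ {P : Subgroup Ω} {f : Ω → Ω}, IsMap F P f →
      ∃ g, IsMap F (P ⊔ X) g ∧ (∀ v ∈ P, g v = f v) ∧ g x = x := by
    intro P f hf
    refine FusionChain.alperin_induction hS hF
      (fun P f => ∃ g, IsMap F (P ⊔ X) g ∧ (∀ v ∈ P, g v = f v) ∧ g x = x) ?_ ?_ ?_ ?_ hf
    · rintro P f g - ⟨k, hk, e, ex⟩ he
      exact ⟨k, hk, fun v hv => (e v hv).trans (he v hv), ex⟩
    · rintro P P' f - hle ⟨k, hk, e, ex⟩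
      exact ⟨k, hk.mono (sup_le_sup_right hle X), fun v hv => e v (hle hv), ex⟩
    · rintro P P' f g - - hfP ⟨k, hk, e, ex⟩ ⟨l, hl, e', ex'⟩
      refine ⟨fun v => l (k v), hk.comp hl fun v hv => hk.forall_mem_sup le_sup_left le_sup_right
        (fun y hy => Subgroup.mem_sup_left (e y hy ▸ hfP y hy)) (fun y hy => ?_) hv,
        fun v hv => ?_, show l (k x) = x by rw [ex, ex']⟩
      · refine Subgroup.mem_sup_right ?_
        obtain ⟨i, rfl⟩ := Subgroup.mem_zpowers_iff.1 hy
        have hxk : x ∈ P ⊔ X := Subgroup.mem_sup_right (Subgroup.mem_zpowers x)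
        obtain ⟨φ, -, hφ⟩ := hk
        rw [← hφ _ (zpow_mem hxk i), show (⟨x ^ i, zpow_mem hxk i⟩ : (P ⊔ X : Subgroup Ω)) =
          ⟨x, hxk⟩ ^ i from rfl, map_zpow, hφ x hxk, ex]
        exact zpow_mem (Subgroup.mem_zpowers x) i
      · show l (k v) = g (f v)
        rw [e v hv, e' _ (hfP v hv)]
    · intro R hR hRc _ α hα _
      have hxR : x ∈ R := hRc.2 R (isConj_refl F hR.1)
        ⟨hx.1, Subgroup.centralizer_le (SetLike.coe_subset_coe.2 hR.1) hx.2⟩
      rw [sup_eq_left.2 (Subgroup.zpowers_le.2 hxR)]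
      exact ⟨_, (isIso_autFn hR.1 hα).1, fun _ _ => rfl, h R hR hRc hxR α hα⟩
  suffices F.IsCentral X from (le_sSup this : X ≤ F.center) (Subgroup.mem_zpowers x)
  refine ⟨Subgroup.zpowers_le.2 hx.1, fun P φ hφ => ?_⟩
  obtain ⟨g, ⟨ψ, hψ, hψg⟩, e, ex⟩ := key (isMap_toFn hφ)
  refine ⟨ψ, hψ, fun v => ?_, fun v => ?_⟩
  · rw [← toFn_coe φ v, ← e v v.2]
    exact hψg _ _
  · obtain ⟨v, hv⟩ := v
    obtain ⟨i, rfl⟩ := Subgroup.mem_zpowers_iff.1 hv
    have hxk : x ∈ P ⊔ X := Subgroup.mem_sup_right (Subgroup.mem_zpowers x)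
    show ψ (⟨x, hxk⟩ ^ i) = x ^ i
    rw [map_zpow, hψg x hxk, ex]

/-- `Z(F) ≤ Z(N_F(X))` for `X` normal in `S`. -/
theorem center_le_normalizer_center [Finite S] {X : Subgroup Ω} (hX : X ≤ S)
    (hn : normalizerIn S X = S) {N : FusionSystem (normalizerIn S X)}
    (hN : F.IsNormalizerSystem X N) : F.center ≤ N.center := by
  refine sSup_le fun Q hQ => le_sSup (show N.IsCentral Q from ⟨hn.symm ▸ hQ.1, fun P φ hφ => ?_⟩)
  obtain ⟨hP, -, f', hf', e, hfX⟩ := (isMap_normalizer_iff hX hN).1 (isMap_toFn hφ)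
  obtain ⟨φ', hφ', hφf⟩ := hf'
  obtain ⟨ψ, hψ, h1, h2⟩ := hQ.2 (P ⊔ X) φ' hφ'
  have hg : IsMap F ((P ⊔ X) ⊔ Q) (toFn ψ) := isMap_toFn hψ
  have e1 : ∀ v ∈ P ⊔ X, toFn ψ v = f' v := fun v hv =>
    (toFn_apply ψ (Subgroup.mem_sup_left hv)).trans ((h1 ⟨v, hv⟩).trans (hφf v hv))
  have hle : P ⊔ Q ≤ (P ⊔ X) ⊔ Q := sup_le_sup_right le_sup_left _
  have hm : IsMap N (P ⊔ Q) (toFn ψ) := (isMap_normalizer_iff hX hN).2
    ⟨(sup_le hP (hn.symm ▸ hQ.1)), fun v hv => hn.symm ▸ hg.mem (hle hv), toFn ψ,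
      hg.mono (sup_le hle (le_sup_right.trans le_sup_left)), fun _ _ => rfl,
      fun v hv => e1 v (Subgroup.mem_sup_right hv) ▸ hfX v hv⟩
  obtain ⟨χ, hχ, hχe⟩ := hm
  refine ⟨χ, hχ, fun v => ?_, fun v => ?_⟩
  · refine (hχe v _).trans ((e1 v (Subgroup.mem_sup_left v.2)).trans ?_)
    rw [e v v.2, toFn_coe]
  · exact (hχe v _).trans ((toFn_apply ψ (Subgroup.mem_sup_right v.2)).trans (h2 v))

/-- An element of `Z(S)` fixed by the automorphisms of `W S` is central if in every local model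
`L`, with Sylow group the image of `T`, the normalizer of the image of `W T` detects it. -/
theorem mem_center_of_local [Finite S] [Fact p.Prime] (hS : IsPGroup p S) (hF : F.IsSaturated p)
    {x : Ω} (hx : x ∈ S ⊓ Subgroup.centralizer (S : Set Ω)) (W : Subgroup Ω → Subgroup Ω)
    (hWle : ∀ T, T ≤ S → W T ≤ T) (hWx : ∀ T, T ≤ S → x ∈ T → x ∈ W T)
    (hWn : ∀ T, T ≤ S → normalizerIn S T ≤ Subgroup.normalizer (W T : Set Ω))
    (hbase : ∀ f, IsMap F (W S) f → (∀ y ∈ W S, f y ∈ W S) → f x = x)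
    (hloc : ∀ U : Subgroup Ω, F.IsFullyNormalized U → F.IsCentric U →
      ∀ E : FusionSystem (normalizerIn S U), F.IsNormalizerSystem U E →
      ∀ (L : Type u) [Group L] (ι : ↥(normalizerIn S U) →* L), E.IsModel p L ι →
      ∀ hxT : x ∈ normalizerIn S U, ι ⟨x, hxT⟩ ∈ Cfsg.pCore p L →
      (∀ n ∈ Subgroup.normalizer
          ((((W (normalizerIn S U)).subgroupOf (normalizerIn S U)).map ι : Subgroup L) : Set L),
        n * ι ⟨x, hxT⟩ * n⁻¹ = ι ⟨x, hxT⟩) →
      ∀ g : L, g * ι ⟨x, hxT⟩ * g⁻¹ = ι ⟨x, hxT⟩) : x ∈ F.center := by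
  suffices key : ∀ (m : ℕ) (U : Subgroup Ω),
      (Nat.card S - Nat.card (normalizerIn S U)) * (Nat.card S + 1) + (Nat.card S - Nat.card U) = m →
      x ∈ U → ∀ f, IsIso F U U f → f x = x from
    mem_center_of_fixed hS hF hx fun R hR _ hxR α hα =>
      key _ R rfl hxR _ (isIso_autFn hR.1 hα)
  intro m
  induction m using Nat.strong_induction_on with
  | _ m ih =>
  intro U hm hxU f hf
  have hUS := hf.le_left
  have hN : ∀ V : Subgroup Ω, Nat.card (normalizerIn S V) ≤ Nat.card S :=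
    fun V => Subgroup.card_le_of_le inf_le_left
  -- subgroups with a larger normalizer
  have IH : ∀ V : Subgroup Ω, x ∈ V → Nat.card (normalizerIn S U) < Nat.card (normalizerIn S V) →
      ∀ g, IsIso F V V g → g x = x := by
    intro V hxV hlt g hg
    refine ih _ ?_ V rfl hxV g hg
    have h1 : (Nat.card S - Nat.card (normalizerIn S V) + 1) * (Nat.card S + 1) ≤
        (Nat.card S - Nat.card (normalizerIn S U)) * (Nat.card S + 1) :=
      Nat.mul_le_mul_right _ (by have := hN V; omega)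
    rw [add_mul, one_mul] at h1
    omega
  by_cases hfn : F.IsFullyNormalized U
  swap
  · obtain ⟨U', f₁, hU', hf₁, hf₁U, -⟩ := exists_fullyNormalized_map hS hF hUS
    have hlt : Nat.card (normalizerIn S U) < Nat.card (normalizerIn S U') := by
      have hle := hU'.2 U (isConj_symm (isConj_iff.2 ⟨f₁, hf₁.mono (le_normalizerIn hUS), hf₁U⟩))
      refine lt_of_le_of_ne hle fun e => hfn ⟨hUS, fun Q hQ => e ▸ hU'.2 Q ?_⟩
      exact isConj_trans (isConj_symm (isConj_iff.2 ⟨f₁, hf₁.mono (le_normalizerIn hUS), hf₁U⟩)) hQ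
    -- maps on large subgroups fix `x`
    have hbig : ∀ {P : Subgroup Ω} {g : Ω → Ω}, IsMap F P g →
        Nat.card (normalizerIn S U) ≤ Nat.card P → x ∈ P → g x = x := by
      intro P g hg
      refine FusionChain.alperin_induction hS hF
        (fun P g => Nat.card (normalizerIn S U) ≤ Nat.card P → x ∈ P → g x = x) ?_ ?_ ?_ ?_ hg
      · intro P f g _ h he h1 h2
        rw [← he x h2]
        exact h h1 h2
      · intro P P' f hf hle h h1 h2
        have := finite_of_le hf.le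
        exact h (h1.trans (Subgroup.card_le_of_le hle)) (hle h2)
      · intro P P' f g hf hg hfP h h' h1 h2
        show g (f x) = x
        rw [h h1 h2]
        refine h' (h1.trans ?_) (h h1 h2 ▸ hfP x h2)
        rw [← hf.card_img le_rfl]
        have := finite_of_le hg.le
        exact Subgroup.card_le_of_le (hf.img_le le_rfl hfP)
      · intro R hR _ _ α hα _ h1 h2
        refine IH R h2 ?_ _ (isIso_autFn hR.1 hα)
        rcases eq_or_lt_of_le hR.1 with e | hlt'
        · rw [e, normalizerIn_self]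
          exact hlt.trans_le (hN U')
        · refine h1.trans_lt ?_
          have := finite_of_le (S := S) (P := normalizerIn S R) inf_le_left
          refine lt_of_le_of_ne (Subgroup.card_le_of_le (le_normalizerIn hR.1)) fun e => ?_
          exact (lt_normalizerIn hS le_rfl hlt').ne (eq_of_le_of_card inf_le_left (le_normalizerIn hR.1) e.ge)
    have hfix : f₁ x = x := hbig hf₁ le_rfl (le_normalizerIn hUS hxU)
    have h₁ : IsIso F U U' f₁ := ⟨hf₁.mono (le_normalizerIn hUS), hf₁U⟩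
    obtain ⟨g₁, hg₁, hg₁f, hfg₁⟩ := h₁.symm
    have := IH U' (hfix ▸ h₁.mem hxU) hlt _ ((hg₁.trans hf).trans h₁)
    have e : g₁ x = x := by
      conv_lhs => rw [← hfix]
      exact hg₁f x hxU
    rw [e] at this
    exact h₁.1.inj (hf.mem hxU) hxU (this.trans hfix.symm)
  by_cases hC : centralizerIn S U ≤ U
  swap
  · have hrec := receptive_of_fullyNormalized hS hF hfn
    obtain ⟨f', hf', e⟩ := (isReceptive_iff.1 hrec).2 U f hf
    set V := U ⊔ centralizerIn S U
    have hV : V ≤ Nx S U f := sup_le (le_Nx hf.1) (centralizerIn_le_Nx S U f)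
    have hiso : IsIso F V V f' := by
      refine ⟨hf'.mono hV, eq_of_le_of_card (sup_le hUS inf_le_left) ((hf'.mono hV).img_le le_rfl
        fun v hv => ?_) ((hf'.mono hV).card_img le_rfl).ge⟩
      refine (hf'.mono hV).forall_mem_sup le_sup_left le_sup_right
        (fun y hy => Subgroup.mem_sup_left (e y hy ▸ hf.mem hy)) (fun y hy => ?_) hv
      exact Subgroup.mem_sup_right (map_centralizerIn (hf'.mono hV) le_sup_left
        ((img_congr e).trans hf.2) (Subgroup.mem_sup_right hy) hy)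
    rw [← e x hxU]
    refine ih _ ?_ V rfl (Subgroup.mem_sup_left hxU) f' hiso
    have := finite_of_le hiso.le_left
    have := finite_of_le (S := S) (P := normalizerIn S V) inf_le_left
    have h1 : Nat.card U < Nat.card V := lt_of_not_ge fun h => hC
      (le_sup_right.trans (eq_of_le_of_card hiso.le_left le_sup_left h).ge)
    have h2 : Nat.card (normalizerIn S U) ≤ Nat.card (normalizerIn S V) :=
      Subgroup.card_le_of_le fun n hn => by
        refine mem_normalizerIn_of_conj hn.1 fun v hv => ?_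
        have hle : V.map (MulAut.conj n).toMonoidHom ≤ V := by
          rw [Subgroup.map_sup]
          refine sup_le_sup ?_ ?_
          · rintro _ ⟨y, hy, rfl⟩
            exact normalizerIn_conj hn hy
          · rintro _ ⟨y, hy, rfl⟩
            refine mem_centralizerIn_of_conj (mul_mem (mul_mem hn.1 hy.1) (inv_mem hn.1)) fun z hz => ?_
            have h3 := centralizerIn_conj hy (normalizerIn_conj_inv hn hz)
            calc (MulAut.conj n).toMonoidHom y * z * ((MulAut.conj n).toMonoidHom y)⁻¹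
                = n * (y * (n⁻¹ * z * n) * y⁻¹) * n⁻¹ := by
                  simp [MulAut.conj_apply]; group
              _ = z := by rw [h3]; group
        exact hle ⟨v, hv, rfl⟩
    have h3 := Subgroup.card_le_of_le hiso.le_left
    have h4 : (Nat.card S - Nat.card (normalizerIn S V)) * (Nat.card S + 1) ≤
        (Nat.card S - Nat.card (normalizerIn S U)) * (Nat.card S + 1) :=
      Nat.mul_le_mul_right _ (by omega)
    omega
  have hc : F.IsCentric U :=
    centric_of_fullyCentralized (fullyCentralized_of_fullyNormalized hS hF hfn) hC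
  obtain ⟨E, hE⟩ := exists_normalizerSystem (F := F) hUS
  have h := nc_normalizer hS hF hfn hc hE
  have hM := h.isModel_emb
  have hTS : (normalizerIn S U) ≤ S := inf_le_left
  have hxT : x ∈ (normalizerIn S U) := le_normalizerIn hUS hxU
  have hxO : h.emb ⟨x, hxT⟩ ∈ Cfsg.pCore p h.Mdl := by
    have hn : ((U.subgroupOf (normalizerIn S U)).map h.emb).Normal := by
      constructor
      rintro _ ⟨q, hq, rfl⟩ g
      exact ⟨⟨(((h.proj g : MulAut U) ⟨q, hq⟩ : U) : Ω), h.le (Subtype.mem _)⟩,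
        Subtype.mem (α := Ω) ((h.proj g : MulAut U) ⟨q, hq⟩), (h.emb_conj g ⟨q, hq⟩).symm⟩
    exact (le_sSup ⟨hn, (h.pgrp.to_subgroup _).map _⟩ :
      (U.subgroupOf (normalizerIn S U)).map h.emb ≤ Cfsg.pCore p h.Mdl) ⟨⟨x, hxT⟩, hxU, rfl⟩
  have hxW := hWx (normalizerIn S U) hTS hxT
  have key : ∀ n ∈ Subgroup.normalizer ((((W (normalizerIn S U)).subgroupOf (normalizerIn S U)).map h.emb : Subgroup h.Mdl) : Set h.Mdl),
      n * h.emb ⟨x, hxT⟩ * n⁻¹ = h.emb ⟨x, hxT⟩ := by
    intro n hn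
    have hWT := hWle (normalizerIn S U) hTS
    have hmem : ∀ (y : Ω) (hy : y ∈ W (normalizerIn S U)), n * h.emb ⟨y, hWT hy⟩ * n⁻¹ ∈ ((W (normalizerIn S U)).subgroupOf (normalizerIn S U)).map h.emb :=
      fun y hy => (Subgroup.mem_normalizer_iff.1 hn _).1 ⟨⟨y, hWT hy⟩, hy, rfl⟩
    obtain ⟨g, hg, hgn⟩ := conj_map hM.2.1 hWT n fun y hy => by
      obtain ⟨t, -, ht⟩ := hmem y hy
      exact ⟨t, ht⟩
    have hgW : ∀ y ∈ W (normalizerIn S U), g y ∈ W (normalizerIn S U) := fun y hy => by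
      obtain ⟨hgy, e⟩ := hgn y hy
      obtain ⟨t, ht, ht'⟩ := hmem y hy
      rw [← e] at ht'
      rw [h.emb_injective ht'] at ht
      exact ht
    obtain ⟨-, -, g', hg', e', -⟩ := (isMap_normalizer_iff hUS hE).1 hg
    have hgF : IsMap F (W (normalizerIn S U)) g := (hg'.mono le_sup_left).congr fun y hy => e' y hy
    suffices g x = x by
      obtain ⟨_, e⟩ := hgn x hxW
      rw [← e]
      exact congrArg h.emb (Subtype.ext this)
    have hTW : (normalizerIn S U) ≤ normalizerIn S (W (normalizerIn S U)) := fun t ht =>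
      ⟨hTS ht, hWn (normalizerIn S U) hTS (le_normalizerIn hTS ht)⟩
    by_cases hTS' : (normalizerIn S U) = S
    · rw [hTS'] at hgF hgW hxW
      exact hbase g hgF hgW
    · refine IH (W (normalizerIn S U)) hxW ?_ g ⟨hgF, eq_of_le_of_card (hWT.trans hTS) (hgF.img_le le_rfl hgW)
        (hgF.card_img le_rfl).ge⟩
      have := finite_of_le (S := S) (P := normalizerIn S (W (normalizerIn S U))) inf_le_left
      refine lt_of_lt_of_le (b := Nat.card (normalizerIn S (normalizerIn S U))) ?_ (Subgroup.card_le_of_le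
        fun t ht => ⟨ht.1, hWn (normalizerIn S U) hTS ht⟩)
      have := finite_of_le (S := S) (P := normalizerIn S (normalizerIn S U)) inf_le_left
      refine lt_of_le_of_ne (Subgroup.card_le_of_le (le_normalizerIn hTS)) fun e => ?_
      exact (lt_normalizerIn hS le_rfl (lt_of_le_of_ne hTS hTS')).ne
        (eq_of_le_of_card inf_le_left (le_normalizerIn hTS) e.ge)
  have hall := hloc U hfn hc E hE h.Mdl h.emb hM hxT hxO key
  have hfE : IsMap E U f := (isMap_normalizer_iff hUS hE).2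
    ⟨le_normalizerIn hUS, fun y hy => le_normalizerIn hUS (hf.mem hy), f,
      (sup_idem U).symm ▸ hf.1, fun _ _ => rfl, fun y hy => hf.mem hy⟩
  obtain ⟨g, hg⟩ := (isMap_realized_iff hM.2.1 (le_normalizerIn hUS)
    (fun y hy => le_normalizerIn hUS (hf.mem hy)) fun a ha b hb => hf.1.map_mul ha hb).1 hfE
  have := (hg x hxU).symm.trans (hall g)
  exact congrArg Subtype.val (h.emb_injective this)

end Cfsg.Agent.Fusion
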