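import Cfsg.Agent.Lib.Fusion.Model
import Cfsg.Agent.Lib.Fusion.Group
import Cfsg.Agent.Lib.FusionIso.Basic
import Cfsg.Agent.Lib.Cores.Basic

/-
Realized systems and models.
Main results: `realizedIso`, `isSaturated_of_realized`, `pre`, `model_isConstrained`,
`model_core` (the core is the preimage of `O_p(G)`), `model_equiv`, `eq_conj_of_derivation`,
`nc_core`.
-/

set_option autoImplicit false

open scoped IsMulCommutative

namespace Cfsg.Agent.Fusion

open Cfsg Cfsg.FusionSystem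

universe u v

variable {Ω : Type u} [Group Ω] {S : Subgroup Ω} {F : FusionSystem S} {G : Type v} [Group G]
  {ι : S →* G}

open Classical in
/-- The embedding as a function on the ambient group. -/
noncomputable def embFn (ι : S →* G) (x : Ω) : G := if h : x ∈ S then ι ⟨x, h⟩ else 1

theorem embFn_apply (ι : S →* G) {x : Ω} (h : x ∈ S) : embFn ι x = ι ⟨x, h⟩ := dif_pos h

theorem isMap_realized_iff (hι : F.IsRealizedBy ι) {P : Subgroup Ω} {f : Ω → Ω}
    (hP : P ≤ S) (hf : ∀ x ∈ P, f x ∈ S)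
    (hmul : ∀ x ∈ P, ∀ y ∈ P, f (x * y) = f x * f y) :
    IsMap F P f ↔ ∃ g : G, ∀ (x : Ω) (hx : x ∈ P),
      g * ι ⟨x, hP hx⟩ * g⁻¹ = ι ⟨f x, hf x hx⟩ := by
  set φ : P →* Ω := MonoidHom.mk' (fun x => f x) fun a b => hmul a a.2 b b.2
  rw [isMap_iff_mem (φ := φ) fun x hx => rfl, hι.2 P hP φ fun x => hf x x.2]
  exact ⟨fun ⟨g, hg⟩ => ⟨g, fun x hx => (hg ⟨x, hx⟩).symm⟩,
    fun ⟨g, hg⟩ => ⟨g, fun x => (hg x x.2).symm⟩⟩

/-- A realized system is isomorphic to the system of the realizing group. -/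
noncomputable def realizedIso (hι : F.IsRealizedBy ι) :
    FusionIso.FIso (groupFusionSystem ι.range) F where
  toFun g := (Function.invFun ι g : S)
  invFun := embFn ι
  mem _ _ := Subtype.mem _
  mem' y hy := embFn_apply ι hy ▸ ⟨_, rfl⟩
  left := by
    rintro _ ⟨s, rfl⟩
    rw [Function.leftInverse_invFun hι.1 s, embFn_apply ι s.2]
  right y hy := by
    rw [embFn_apply ι hy, Function.leftInverse_invFun hι.1]
  mul := by
    rintro _ ⟨s, rfl⟩ _ ⟨t, rfl⟩
    rw [← map_mul ι, Function.leftInverse_invFun hι.1, Function.leftInverse_invFun hι.1,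
      Function.leftInverse_invFun hι.1, Subgroup.coe_mul]
  fwd P f hf := by
    obtain ⟨hP, g, hg⟩ := isMap_group_iff.1 hf
    have hmul : ∀ a ∈ P, ∀ b ∈ P, ((Function.invFun ι (a * b) : S) : Ω) =
        (Function.invFun ι a : S) * (Function.invFun ι b : S) := by
      intro a ha b hb
      obtain ⟨s, rfl⟩ := hP ha
      obtain ⟨t, rfl⟩ := hP hb
      rw [← map_mul ι, Function.leftInverse_invFun hι.1, Function.leftInverse_invFun hι.1,
        Function.leftInverse_invFun hι.1, Subgroup.coe_mul]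
    have hmem : ∀ y ∈ FusionIso.imT (fun g => ((Function.invFun ι g : S) : Ω)) P,
        ∃ x : S, ι x ∈ P ∧ (x : Ω) = y := by
      intro y hy
      obtain ⟨a, ha, rfl⟩ := (FusionIso.mem_imT hmul).1 hy
      obtain ⟨s, rfl⟩ := hP ha
      exact ⟨s, ha, congrArg Subtype.val (Function.leftInverse_invFun hι.1 s).symm⟩
    have hle : FusionIso.imT (fun g => ((Function.invFun ι g : S) : Ω)) P ≤ S := by
      intro y hy
      obtain ⟨x, -, rfl⟩ := hmem y hy
      exact x.2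
    refine (isMap_realized_iff hι hle (fun x _ => Subtype.mem _) fun x hx y hy => ?_).2
      ⟨g, fun y hy => ?_⟩
    · obtain ⟨x, hxP, rfl⟩ := hmem x hx
      obtain ⟨y, hyP, rfl⟩ := hmem y hy
      obtain ⟨s, hs⟩ := hf.mem hxP
      obtain ⟨t, ht⟩ := hf.mem hyP
      simp only [embFn_apply ι x.2, embFn_apply ι y.2, embFn_apply ι (x * y).2,
        ← Subgroup.coe_mul, Subtype.coe_eta, map_mul ι, hf.map_mul hxP hyP, ← hs, ← ht,
        Function.leftInverse_invFun hι.1 _]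
      rw [← map_mul ι, Function.leftInverse_invFun hι.1]
    · obtain ⟨x, hxP, rfl⟩ := hmem y hy
      obtain ⟨s, hs⟩ := hf.mem hxP
      simp only [embFn_apply ι x.2, Subtype.coe_eta]
      rw [← hs, Function.leftInverse_invFun hι.1, hs, (hg _ hxP).2]
  bwd P f hf := by
    have hmul : ∀ x ∈ P, ∀ y ∈ P, embFn ι (x * y) = embFn ι x * embFn ι y := by
      intro x hx y hy
      rw [embFn_apply ι (hf.le hx), embFn_apply ι (hf.le hy),
        embFn_apply ι (hf.le (P.mul_mem hx hy)), ← map_mul]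
      rfl
    obtain ⟨g, hg⟩ := (isMap_realized_iff hι hf.le (fun x hx => hf.mem hx)
      fun x hx y hy => hf.map_mul hx hy).1 hf
    have hle : FusionIso.imT (embFn ι) P ≤ ι.range := fun y hy => by
      obtain ⟨x, hx, rfl⟩ := (FusionIso.mem_imT hmul).1 hy
      exact embFn_apply ι (hf.le hx) ▸ ⟨_, rfl⟩
    refine isMap_group_iff.2 ⟨hle, g, fun y hy => ?_⟩
    obtain ⟨x, hx, rfl⟩ := (FusionIso.mem_imT hmul).1 hy
    rw [embFn_apply ι (hf.le hx), Function.leftInverse_invFun hι.1, hg x hx,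
      embFn_apply ι (hf.mem hx)]
    exact ⟨⟨_, rfl⟩, rfl⟩

theorem isSaturated_of_realized [Finite S] [Finite G] {p : ℕ} [Fact p.Prime]
    (hι : F.IsRealizedBy ι) (hT : ∃ T : Sylow p G, (T : Subgroup G) = ι.range) :
    F.IsSaturated p := by
  obtain ⟨T, hT⟩ := hT
  have h1 := isSaturated_group T
  rw [hT] at h1
  exact (realizedIso hι).isSaturated h1

/-- The preimage in `Ω` of a subgroup of `G`. -/
def pre (ι : S →* G) (N : Subgroup G) : Subgroup Ω := (N.comap ι).map S.subtype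

theorem mem_pre {N : Subgroup G} {x : Ω} : x ∈ pre ι N ↔ ∃ h : x ∈ S, ι ⟨x, h⟩ ∈ N := by
  constructor
  · rintro ⟨s, hs, rfl⟩
    exact ⟨s.2, hs⟩
  · rintro ⟨h, hx⟩
    exact ⟨⟨x, h⟩, hx, rfl⟩

section Model

variable [Finite S] {p : ℕ} [Fact p.Prime] (hG : F.IsModel p G ι)
include hG

theorem model_saturated : F.IsSaturated p :=
  have := hG.1
  isSaturated_of_realized hG.2.1 hG.2.2.1

theorem pCore_le_range : (Cfsg.pCore p G : Subgroup G) ≤ ι.range := by
  obtain ⟨T, hT⟩ := hG.2.2.1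
  exact hT ▸ Cores.pCore_le_sylow T

theorem pre_pCore_normal : F.IsNormal (pre ι (Cfsg.pCore p G)) := by
  have hle : pre ι (Cfsg.pCore p G) ≤ S := Subgroup.map_subtype_le _
  have hn : (Cfsg.pCore p G).Normal := Subgroup.sSup_normal _ fun _ h => h.1
  refine FusionChain.isNormal_iff.2 ⟨hle, fun P f hf => ?_⟩
  obtain ⟨g, hg⟩ := (isMap_realized_iff hG.2.1 hf.le (fun x hx => hf.mem hx)
    fun x hx y hy => hf.map_mul hx hy).1 hf
  have hM : P ⊔ pre ι (Cfsg.pCore p G) ≤ S := sup_le hf.le hle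
  have hy : ∀ (x : Ω) (hx : x ∈ P ⊔ pre ι (Cfsg.pCore p G)),
      g * ι ⟨x, hM hx⟩ * g⁻¹ ∈ ι.range := by
    intro x hx
    have hle' : P ⊔ pre ι (Cfsg.pCore p G) ≤
        (ι.range.comap ((MulAut.conj g).toMonoidHom.comp ι)).map S.subtype := by
      refine sup_le (fun y hy => ?_) fun y hy => ?_
      · exact ⟨⟨y, hf.le hy⟩, show g * ι _ * g⁻¹ ∈ ι.range from hg y hy ▸ ⟨_, rfl⟩, rfl⟩
      · obtain ⟨hyS, hy⟩ := mem_pre.1 hy
        exact ⟨⟨y, hyS⟩, show g * ι _ * g⁻¹ ∈ ι.range from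
          pCore_le_range hG (hn.conj_mem _ hy g), rfl⟩
    obtain ⟨⟨y, hyS⟩, hy, rfl⟩ := hle' hx
    exact hy
  choose s hs using hy
  classical
  set k : Ω → Ω := fun x =>
    if hx : x ∈ P ⊔ pre ι (Cfsg.pCore p G) then (s x hx : Ω) else 1 with hk
  have hk' : ∀ (x : Ω) (hx : x ∈ P ⊔ pre ι (Cfsg.pCore p G)), k x = s x hx := fun x hx =>
    dif_pos hx
  refine ⟨k, (isMap_realized_iff hG.2.1 hM (fun x hx => hk' x hx ▸ Subtype.mem _)
    fun x hx y hy => ?_).2 ⟨g, fun x hx => ?_⟩, fun x hx => ?_, fun x hx => ?_⟩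
  · rw [hk' _ (mul_mem hx hy), hk' x hx, hk' y hy, ← Subgroup.coe_mul]
    refine congrArg Subtype.val (hG.2.1.1 ?_)
    rw [map_mul ι (s x hx), hs, hs, hs,
      show (⟨x * y, hM (mul_mem hx hy)⟩ : S) = ⟨x, hM hx⟩ * ⟨y, hM hy⟩ from rfl, map_mul]
    group
  · simp only [hk' x hx, Subtype.coe_eta, hs]
  · rw [hk' x (Subgroup.mem_sup_left hx)]
    exact congrArg Subtype.val (hG.2.1.1 ((hs _ _).trans (hg x hx)) :
      s x (Subgroup.mem_sup_left hx) = ⟨f x, hf.mem hx⟩)
  · rw [hk' x (Subgroup.mem_sup_right hx)]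
    refine mem_pre.2 ⟨Subtype.mem _, ?_⟩
    simp only [Subtype.coe_eta, hs]
    obtain ⟨hxS, hx⟩ := mem_pre.1 hx
    exact hn.conj_mem _ hx g

theorem pre_pCore_centric : F.IsCentric (pre ι (Cfsg.pCore p G)) := by
  refine ⟨Subgroup.map_subtype_le _, fun R hR => ?_⟩
  obtain ⟨f, hf⟩ := isConj_iff.1 hR
  have hRe : R = pre ι (Cfsg.pCore p G) := by
    refine eq_of_le_of_card (Subgroup.map_subtype_le _) (fun y hy => ?_) hf.card_eq.ge
    obtain ⟨x, hx, rfl⟩ := hf.exists_eq hy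
    exact FusionChain.mapsTo_of_normal (pre_pCore_normal hG) hf.1 le_rfl x hx
  subst hRe
  intro x hx
  refine mem_pre.2 ⟨hx.1, hG.2.2.2 (Subgroup.mem_centralizer_iff.2 fun y hy => ?_)⟩
  obtain ⟨t, rfl⟩ := pCore_le_range hG hy
  rw [← map_mul, ← map_mul]
  exact congrArg ι (Subtype.ext ((mem_centralizerIn.1 hx).2 t (mem_pre.2 ⟨t.2, hy⟩)).symm)

theorem model_isConstrained : F.IsConstrained p :=
  ⟨model_saturated hG, _, pre_pCore_normal hG, pre_pCore_centric hG⟩

theorem model_nc (hS : IsPGroup p S) : NC F p (pre ι (Cfsg.pCore p G)) :=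
  ⟨inferInstance, inferInstance, hS, model_saturated hG, pre_pCore_normal hG,
    pre_pCore_centric hG⟩

theorem model_equiv_pre {Q : Subgroup Ω} (h : NC F p Q) (hQ : Q = pre ι (Cfsg.pCore p G)) :
    ∃ ψ : G ≃* h.Mdl, ∀ s : S, ψ (ι s) = h.emb s := by
  subst hQ
  refine h.exists_equiv ι hG.2.1 (fun g x hx => ?_) fun g hg => ?_
  · obtain ⟨_, hx⟩ := mem_pre.1 hx
    have hm := (Subgroup.sSup_normal _ fun _ h => h.1 : (Cfsg.pCore p G).Normal).conj_mem _ hx g
    obtain ⟨y, hy⟩ := pCore_le_range hG hm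
    exact ⟨y, mem_pre.2 ⟨y.2, hy.symm ▸ hm⟩, hy.symm⟩
  · have hcl : g ∈ Subgroup.centralizer ((Cfsg.pCore p G : Subgroup G) : Set G) := by
      refine Subgroup.mem_centralizer_iff.2 fun y hy => ?_
      obtain ⟨t, rfl⟩ := pCore_le_range hG hy
      exact (mul_inv_eq_iff_eq_mul.1 (hg t (mem_pre.2 ⟨t.2, hy⟩))).symm
    obtain ⟨z, rfl⟩ := pCore_le_range hG (hG.2.2.2 hcl)
    refine ⟨z, (h.pr_eq_one_iff z).2 (mem_centralizerIn_of_conj z.2 fun x hx => ?_), rfl⟩
    have h1 := hg ⟨x, (Subgroup.map_subtype_le _) hx⟩ hx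
    rw [← map_inv, ← map_mul, ← map_mul] at h1
    exact congrArg Subtype.val (hG.2.1.1 h1)

theorem pre_pCore_radical (hS : IsPGroup p S) : F.IsRadical p (pre ι (Cfsg.pCore p G)) := by
  set Q := pre ι (Cfsg.pCore p G) with hQ
  have h := model_nc hG hS
  obtain ⟨ψ, hψ⟩ := model_equiv_pre hG h rfl
  refine ⟨h.le, le_antisymm ?_ (FusionChain.inn_le_pCoreAut hS h.le)⟩
  rintro _ ⟨a, ha, rfl⟩
  obtain ⟨e, rfl⟩ := h.proj_surjective a
  have hker : IsPGroup p h.proj.ker := by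
    refine (hS.of_surjective h.emb.rangeRestrict h.emb.rangeRestrict_surjective).to_le ?_
    intro g hg
    obtain ⟨z, -, rfl⟩ := h.ker_proj g hg
    exact ⟨z, rfl⟩
  set N := (Cfsg.pCore p (F.autGroup Q)).comap h.proj
  have hN : N.Normal := (Subgroup.sSup_normal _ fun _ h => h.1 :
    (Cfsg.pCore p (F.autGroup Q)).Normal).comap _
  have hNp : IsPGroup p N := (Cores.isPGroup_pCore p _).comap_of_ker_isPGroup _ hker
  have hle : N.map ψ.symm.toMonoidHom ≤ Cfsg.pCore p G :=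
    le_sSup ⟨hN.map _ ψ.symm.surjective, hNp.map _⟩
  have h1 : ψ.symm e ∈ Cfsg.pCore p G := hle ⟨e, ha, rfl⟩
  obtain ⟨t, ht⟩ := pCore_le_range hG h1
  have he : e = h.emb t := by rw [← hψ, ht, MulEquiv.apply_symm_apply]
  have htQ : (t : Ω) ∈ Q := mem_pre.2 ⟨t.2, ht.symm ▸ h1⟩
  subst he
  refine ⟨⟨t, htQ⟩, MulEquiv.ext fun q => Subtype.ext ?_⟩
  rw [h.proj_emb]
  rfl

theorem model_core (hS : IsPGroup p S) : pre ι (Cfsg.pCore p G) = F.core :=
  le_antisymm (le_sSup (pre_pCore_normal hG)) (sSup_le fun _ hQ =>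
    le_radical_of_normal hS hQ (pre_pCore_centric hG) (pre_pCore_radical hG hS))

theorem model_equiv (hS : IsPGroup p S) (h : NC F p F.core) :
    ∃ ψ : G ≃* h.Mdl, ∀ s : S, ψ (ι s) = h.emb s :=
  model_equiv_pre hG h (model_core hG hS).symm

end Model

/-- An automorphism that is the identity on a subgroup of coprime index and trivial modulo an
abelian normal subgroup inside it is conjugation by that subgroup. -/
theorem eq_conj_of_derivation {G : Type*} [Group G] [Finite G] (Z T : Subgroup G) [Z.Normal]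
    [IsMulCommutative Z] (hcop : (Nat.card Z).Coprime T.index) (ψ : G →* G)
    (hT : ∀ t ∈ T, ψ t = t) (hd : ∀ g, ψ g * g⁻¹ ∈ Z) :
    ∃ z ∈ Z, (∀ t ∈ T, z * t = t * z) ∧ ∀ g, ψ g = z * g * z⁻¹ := by
  classical
  have := Fintype.ofFinite (G ⧸ T)
  set d : G → Z := fun g => ⟨ψ g * g⁻¹, hd g⟩ with hddef
  have hdT : ∀ g t, t ∈ T → d (g * t) = d g := fun g t ht =>
    Subtype.ext (show ψ (g * t) * (g * t)⁻¹ = ψ g * g⁻¹ by rw [map_mul, hT t ht]; group)
  set dq : G ⧸ T → Z := fun j => d (Quotient.out j)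
  have hdq : ∀ g, dq (QuotientGroup.mk g) = d g := fun g => by
    obtain ⟨t, ht⟩ := QuotientGroup.mk_out_eq_mul T g
    show d _ = d g
    rw [ht, hdT g t t.2]
  set c : G → Z →* Z := fun g => (MulAut.conjNormal g).toMonoidHom with hc
  have hdmul : ∀ g g', d (g * g') = d g * c g (d g') := fun g g' =>
    Subtype.ext (show ψ (g * g') * (g * g')⁻¹ = ψ g * g⁻¹ * (g * (ψ g' * g'⁻¹) * g⁻¹) by
      rw [map_mul]; group)
  set w := ∏ j, dq j with hw
  have key : ∀ g, w = d g ^ Fintype.card (G ⧸ T) * c g w := by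
    intro g
    calc w = ∏ j, dq (g • j) := (Fintype.prod_equiv (MulAction.toPerm g) _ _ fun j => rfl).symm
      _ = ∏ j, d g * c g (dq j) := Finset.prod_congr rfl fun j _ => by
          obtain ⟨a, rfl⟩ := QuotientGroup.mk_surjective j
          rw [MulAction.Quotient.smul_mk, hdq, hdq, smul_eq_mul, hdmul]
      _ = _ := by rw [Finset.prod_mul_distrib, Finset.prod_const, Finset.card_univ, map_prod]
  have hcop' : (Nat.card Z).Coprime (Fintype.card (G ⧸ T)) := by
    rwa [← Nat.card_eq_fintype_card]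
  obtain ⟨z, hz⟩ := (powCoprime hcop').surjective w
  rw [powCoprime_apply] at hz
  have hψ : ∀ g, ψ g = z * g * (z : G)⁻¹ := by
    intro g
    have h2 : d g * c g z = z := (powCoprime hcop').injective (by
      simp only [powCoprime_apply]
      rw [mul_pow, ← map_pow, hz]
      exact (key g).symm)
    have h3 : ψ g * g⁻¹ * (g * z * g⁻¹) = (z : G) := congrArg Subtype.val h2
    calc ψ g = (ψ g * g⁻¹ * (g * z * g⁻¹)) * g * (z : G)⁻¹ := by group
      _ = _ := by rw [h3]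
  refine ⟨z, z.2, fun t ht => ?_, hψ⟩
  have := hψ t
  rw [hT t ht] at this
  exact (eq_mul_inv_iff_mul_eq.1 this).symm

/-- The core of a constrained system is normal centric. -/
theorem nc_core [Finite S] {p : ℕ} [Fact p.Prime] (hS : IsPGroup p S) (hF : F.IsConstrained p) :
    NC F p F.core := by
  obtain ⟨hsat, Q, hn, hc⟩ := hF
  have h : NC F p Q := ⟨inferInstance, inferInstance, hS, hsat, hn, hc⟩
  have hm := h.isModel_emb
  rw [← model_core hm hS]
  exact model_nc hm hS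

end Cfsg.Agent.Fusion
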