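import Cfsg.Agent.Lib.Fusion.SylowIn

/-
Fusion systems: maps as functions `Ω → Ω` on the ambient type, to avoid transporting along
equalities of subgroups.
Main definitions: `IsMap F P f` (`f` restricted to `P` is a map of `F`), `IsIso F P Q f`,
`toFn φ`, `img f P`, `Nx S P f` (the extender).
Main results: `IsMap.comp/mono/congr/conj`, `IsIso.trans/symm`, `mem_autInducedBy_iff`,
`mem_autGroup_iff`, `isConj_iff`, `extender_eq`, `isReceptive_iff`, `autS_le_autGroup`,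
`isFullyAutomized_iff`, `isConj_refl/symm/trans`, `ext_of_le`.
-/

set_option autoImplicit false

open scoped Classical

namespace Cfsg.Agent.Fusion

open Cfsg Cfsg.FusionSystem

variable {Ω : Type*} [Group Ω] {S : Subgroup Ω}

/-- `f` is, on `P`, a map of the system. -/
def IsMap (F : FusionSystem S) (P : Subgroup Ω) (f : Ω → Ω) : Prop :=
  ∃ φ ∈ F.Hom P, ∀ (x : Ω) (hx : x ∈ P), φ ⟨x, hx⟩ = f x

/-- A homomorphism on a subgroup as a function on the ambient type. -/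
noncomputable def toFn {P : Subgroup Ω} (φ : P →* Ω) : Ω → Ω :=
  fun x => if h : x ∈ P then φ ⟨x, h⟩ else 1

theorem toFn_apply {P : Subgroup Ω} (φ : P →* Ω) {x : Ω} (hx : x ∈ P) :
    toFn φ x = φ ⟨x, hx⟩ := dif_pos hx

@[simp] theorem toFn_coe {P : Subgroup Ω} (φ : P →* Ω) (x : P) : toFn φ x = φ x :=
  toFn_apply φ x.2

/-- The image of `P` under `f`, as a subgroup. -/
def img (f : Ω → Ω) (P : Subgroup Ω) : Subgroup Ω := Subgroup.closure (f '' (P : Set Ω))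

theorem isMap_toFn {F : FusionSystem S} {P : Subgroup Ω} {φ : P →* Ω} (h : φ ∈ F.Hom P) :
    IsMap F P (toFn φ) :=
  ⟨φ, h, fun _ hx => (toFn_apply φ hx).symm⟩

theorem isMap_iff_mem {F : FusionSystem S} {P : Subgroup Ω} {φ : P →* Ω} {f : Ω → Ω}
    (h : ∀ (x : Ω) (hx : x ∈ P), φ ⟨x, hx⟩ = f x) : IsMap F P f ↔ φ ∈ F.Hom P := by
  refine ⟨fun ⟨ψ, hψ, h'⟩ => ?_, fun hφ => ⟨φ, hφ, h⟩⟩
  rwa [show φ = ψ from MonoidHom.ext fun x => (h x x.2).trans (h' x x.2).symm]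

theorem mem_of_isMap {F : FusionSystem S} {P : Subgroup Ω} {φ : P →* Ω} {f : Ω → Ω}
    (hf : IsMap F P f) (h : ∀ x : P, φ x = f x) : φ ∈ F.Hom P :=
  (isMap_iff_mem fun x hx => h ⟨x, hx⟩).1 hf

namespace IsMap

variable {F : FusionSystem S} {P Q : Subgroup Ω} {f g : Ω → Ω}

theorem congr (h : IsMap F P f) (e : ∀ x ∈ P, f x = g x) : IsMap F P g :=
  let ⟨φ, hφ, hf⟩ := h
  ⟨φ, hφ, fun x hx => (hf x hx).trans (e x hx)⟩

theorem le (h : IsMap F P f) : P ≤ S :=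
  let ⟨_, hφ, _⟩ := h
  (F.le_of_mem hφ).1

theorem mem (h : IsMap F P f) {x : Ω} (hx : x ∈ P) : f x ∈ S :=
  let ⟨_, hφ, hf⟩ := h
  hf x hx ▸ (F.le_of_mem hφ).2 ⟨x, hx⟩

theorem map_mul (h : IsMap F P f) {x y : Ω} (hx : x ∈ P) (hy : y ∈ P) :
    f (x * y) = f x * f y := by
  obtain ⟨φ, -, hf⟩ := h
  rw [← hf x hx, ← hf y hy, ← hf _ (P.mul_mem hx hy), ← _root_.map_mul]
  rfl

theorem map_one (h : IsMap F P f) : f 1 = 1 := by
  obtain ⟨φ, -, hf⟩ := h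
  rw [← hf 1 P.one_mem]
  exact _root_.map_one φ

theorem map_inv (h : IsMap F P f) {x : Ω} (hx : x ∈ P) : f x⁻¹ = (f x)⁻¹ := by
  obtain ⟨φ, -, hf⟩ := h
  rw [← hf x hx, ← hf _ (P.inv_mem hx), ← _root_.map_inv]
  rfl

theorem map_conj (h : IsMap F P f) {x y : Ω} (hx : x ∈ P) (hy : y ∈ P) :
    f (x * y * x⁻¹) = f x * f y * (f x)⁻¹ := by
  rw [h.map_mul (P.mul_mem hx hy) (P.inv_mem hx), h.map_mul hx hy, h.map_inv hx]

theorem injOn (h : IsMap F P f) : Set.InjOn f P := by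
  intro x hx y hy hxy
  obtain ⟨φ, hφ, hf⟩ := h
  have := F.injective_of_mem hφ (a₁ := ⟨x, hx⟩) (a₂ := ⟨y, hy⟩) (by rw [hf, hf, hxy])
  exact congrArg Subtype.val this

theorem inj (h : IsMap F P f) {x y : Ω} (hx : x ∈ P) (hy : y ∈ P) (e : f x = f y) : x = y :=
  h.injOn hx hy e

theorem mem_img_iff (h : IsMap F P f) (hQ : Q ≤ P) {y : Ω} :
    y ∈ img f Q ↔ ∃ x ∈ Q, f x = y := by
  refine ⟨fun hy => ?_, fun ⟨x, hx, e⟩ => Subgroup.subset_closure ⟨x, hx, e⟩⟩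
  obtain ⟨φ, -, hf⟩ := h
  have hle : img f Q ≤ (Q.subgroupOf P).map φ := by
    rw [img, Subgroup.closure_le]
    rintro _ ⟨x, hx, rfl⟩
    exact ⟨⟨x, hQ hx⟩, hx, hf x (hQ hx)⟩
  obtain ⟨x, hx, rfl⟩ := hle hy
  exact ⟨x, hx, (hf x x.2).symm⟩

theorem mem_img (_h : IsMap F P f) {x : Ω} (hx : x ∈ Q) : f x ∈ img f Q :=
  Subgroup.subset_closure ⟨x, hx, rfl⟩

theorem img_le (h : IsMap F P f) (hQ : Q ≤ P) {R : Subgroup Ω} (hR : ∀ x ∈ Q, f x ∈ R) :
    img f Q ≤ R := fun y hy => by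
  obtain ⟨x, hx, rfl⟩ := (h.mem_img_iff hQ).1 hy
  exact hR x hx

theorem img_le_S (h : IsMap F P f) : img f P ≤ S := h.img_le le_rfl fun _ hx => h.mem hx

theorem card_img (h : IsMap F P f) (hQ : Q ≤ P) : Nat.card (img f Q) = Nat.card Q := by
  refine (Nat.card_congr (Equiv.ofBijective
    (fun x : Q => (⟨f x, h.mem_img x.2⟩ : img f Q)) ⟨fun x y e => ?_, fun y => ?_⟩)).symm
  · exact Subtype.ext (h.inj (hQ x.2) (hQ y.2) (congrArg Subtype.val e))
  · obtain ⟨x, hx, e⟩ := (h.mem_img_iff hQ).1 y.2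
    exact ⟨⟨x, hx⟩, Subtype.ext e⟩

theorem id (h : P ≤ S) : IsMap F P (fun x => x) :=
  ⟨_, F.conj_mem h S.one_mem, fun x _ => by simp [conjHom]⟩

theorem conj (h : P ≤ S) {s : Ω} (hs : s ∈ S) : IsMap F P (fun x => s * x * s⁻¹) :=
  ⟨_, F.conj_mem h hs, fun x _ => rfl⟩

theorem comp (hf : IsMap F P f) (hg : IsMap F Q g) (h : ∀ x ∈ P, f x ∈ Q) :
    IsMap F P (fun x => g (f x)) := by
  obtain ⟨φ, hφ, hf⟩ := hf
  obtain ⟨ψ, hψ, hg⟩ := hg
  refine ⟨_, F.comp_mem hφ hψ (fun x => (hf x x.2).symm ▸ h x x.2), fun x hx => ?_⟩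
  simp [hg, hf]

theorem mono (hf : IsMap F P f) (h : Q ≤ P) : IsMap F Q f :=
  ((IsMap.id (h.trans hf.le)).comp hf h).congr fun _ _ => rfl

end IsMap

/-- `f` restricts to an isomorphism of the system from `P` onto `Q`. -/
def IsIso (F : FusionSystem S) (P Q : Subgroup Ω) (f : Ω → Ω) : Prop :=
  IsMap F P f ∧ img f P = Q

theorem IsMap.isIso {F : FusionSystem S} {P : Subgroup Ω} {f : Ω → Ω} (h : IsMap F P f) :
    IsIso F P (img f P) f := ⟨h, rfl⟩

theorem IsMap.isIso_of_mono {F : FusionSystem S} {P R : Subgroup Ω} {f : Ω → Ω}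
    (h : IsMap F P f) (hR : R ≤ P) : IsIso F R (img f R) f := ⟨h.mono hR, rfl⟩

theorem img_congr {P : Subgroup Ω} {f g : Ω → Ω} (e : ∀ x ∈ P, f x = g x) :
    img f P = img g P := by
  rw [img, img, Set.image_congr e]

theorem toFn_img {P : Subgroup Ω} (φ : P →* Ω) : img (toFn φ) P = φ.range := by
  rw [img, ← Subgroup.closure_eq φ.range]
  congr 1
  ext y
  constructor
  · rintro ⟨x, hx, rfl⟩
    exact ⟨⟨x, hx⟩, (toFn_apply φ hx).symm⟩
  · rintro ⟨x, rfl⟩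
    exact ⟨x, x.2, toFn_coe φ x⟩

namespace IsIso

variable {F : FusionSystem S} {P Q R : Subgroup Ω} {f g : Ω → Ω}

theorem congr (h : IsIso F P Q f) (e : ∀ x ∈ P, f x = g x) : IsIso F P Q g :=
  ⟨h.1.congr e, (img_congr e).symm.trans h.2⟩

theorem le_left (h : IsIso F P Q f) : P ≤ S := h.1.le

theorem le_right (h : IsIso F P Q f) : Q ≤ S := h.2 ▸ h.1.img_le_S

theorem mem (h : IsIso F P Q f) {x : Ω} (hx : x ∈ P) : f x ∈ Q := h.2 ▸ h.1.mem_img hx

theorem exists_eq (h : IsIso F P Q f) {y : Ω} (hy : y ∈ Q) : ∃ x ∈ P, f x = y :=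
  (h.1.mem_img_iff le_rfl).1 (h.2.symm ▸ hy)

theorem card_eq (h : IsIso F P Q f) : Nat.card Q = Nat.card P := h.2 ▸ h.1.card_img le_rfl

theorem refl (h : P ≤ S) : IsIso F P P (fun x => x) :=
  ⟨IsMap.id h, by rw [img, Set.image_id', Subgroup.closure_eq]⟩

theorem trans (h : IsIso F P Q f) (h' : IsIso F Q R g) : IsIso F P R (fun x => g (f x)) := by
  refine ⟨h.1.comp h'.1 fun x hx => h.mem hx, le_antisymm ?_ ?_⟩
  · exact (h.1.comp h'.1 fun x hx => h.mem hx).img_le le_rfl fun x hx => h'.mem (h.mem hx)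
  · intro z hz
    obtain ⟨y, hy, rfl⟩ := h'.exists_eq hz
    obtain ⟨x, hx, rfl⟩ := h.exists_eq hy
    exact Subgroup.subset_closure ⟨x, hx, rfl⟩

theorem symm (h : IsIso F P Q f) :
    ∃ g, IsIso F Q P g ∧ (∀ x ∈ P, g (f x) = x) ∧ ∀ y ∈ Q, f (g y) = y := by
  obtain ⟨⟨φ, hφ, hf⟩, himg⟩ := h
  obtain ⟨ψ, hψ, hinv⟩ := F.inv_mem hφ
  have hrange : φ.range = Q := by
    rw [← himg, ← toFn_img φ]
    exact img_congr fun x hx => (toFn_apply φ hx).trans (hf x hx)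
  have key : ∀ x ∈ P, toFn ψ (f x) = x := by
    intro x hx
    rw [toFn_apply ψ (x := f x) ⟨⟨x, hx⟩, hf x hx⟩]
    refine Eq.trans ?_ (hinv ⟨x, hx⟩)
    exact congrArg ψ (Subtype.ext (hf x hx).symm)
  refine ⟨toFn ψ, ⟨hrange ▸ isMap_toFn hψ, ?_⟩, key, fun y hy => ?_⟩
  · refine Eq.trans ?_ (Subgroup.closure_eq P)
    show Subgroup.closure _ = Subgroup.closure _
    congr 1
    ext z
    constructor
    · rintro ⟨y, hy, rfl⟩
      obtain ⟨x, rfl⟩ := (hrange.symm ▸ hy : y ∈ φ.range)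
      rw [hf x x.2, key x x.2]
      exact x.2
    · intro hz
      exact ⟨f z, himg ▸ Subgroup.subset_closure ⟨z, hz, rfl⟩, key z hz⟩
  · obtain ⟨x, rfl⟩ := (hrange.symm ▸ hy : y ∈ φ.range)
    rw [hf x x.2, key x x.2]

theorem mono (h : IsIso F P Q f) {P' : Subgroup Ω} (hP : P' ≤ P) : IsIso F P' (img f P') f :=
  ⟨h.1.mono hP, rfl⟩

theorem img_eq_of (h : IsMap F P f) {Q' R' : Subgroup Ω} (hQ : Q' ≤ P)
    (h1 : ∀ x ∈ Q', f x ∈ R') (h2 : ∀ y ∈ R', ∃ x ∈ Q', f x = y) : img f Q' = R' :=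
  le_antisymm (h.img_le hQ h1) fun y hy => (h.mem_img_iff hQ).2 (h2 y hy)

end IsIso

theorem isConj_iff {F : FusionSystem S} {P Q : Subgroup Ω} :
    F.IsConj P Q ↔ ∃ f, IsIso F P Q f := by
  constructor
  · rintro ⟨φ, hφ, rfl⟩
    exact ⟨toFn φ, isMap_toFn hφ, toFn_img φ⟩
  · rintro ⟨f, ⟨φ, hφ, hf⟩, rfl⟩
    refine ⟨φ, hφ, ?_⟩
    rw [← toFn_img φ]
    exact img_congr fun x hx => (toFn_apply φ hx).trans (hf x hx)

theorem isConj_refl (F : FusionSystem S) {P : Subgroup Ω} (h : P ≤ S) : F.IsConj P P :=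
  isConj_iff.2 ⟨_, IsIso.refl h⟩

theorem isConj_symm {F : FusionSystem S} {P Q : Subgroup Ω} (h : F.IsConj P Q) : F.IsConj Q P := by
  obtain ⟨f, hf⟩ := isConj_iff.1 h
  obtain ⟨g, hg, -, -⟩ := hf.symm
  exact isConj_iff.2 ⟨g, hg⟩

theorem isConj_trans {F : FusionSystem S} {P Q R : Subgroup Ω} (h : F.IsConj P Q)
    (h' : F.IsConj Q R) : F.IsConj P R := by
  obtain ⟨f, hf⟩ := isConj_iff.1 h
  obtain ⟨g, hg⟩ := isConj_iff.1 h'
  exact isConj_iff.2 ⟨_, hf.trans hg⟩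

theorem isConj_le {F : FusionSystem S} {P Q : Subgroup Ω} (h : F.IsConj P Q) : P ≤ S ∧ Q ≤ S := by
  obtain ⟨f, hf⟩ := isConj_iff.1 h
  exact ⟨hf.le_left, hf.le_right⟩

/-! ### Equality of systems -/

theorem isMap_of_le {F E : FusionSystem S} (h : F ≤ E) {P : Subgroup Ω} {f : Ω → Ω}
    (hf : IsMap F P f) : IsMap E P f :=
  let ⟨φ, hφ, e⟩ := hf
  ⟨φ, h P hφ, e⟩

theorem le_of_isMap {F E : FusionSystem S} (h : ∀ P f, IsMap F P f → IsMap E P f) : F ≤ E :=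
  fun P φ hφ => mem_of_isMap (h P (toFn φ) (isMap_toFn hφ)) fun x => (toFn_coe φ x).symm

theorem ext_of_hom {F E : FusionSystem S} (h : ∀ P, F.Hom P = E.Hom P) : F = E := by
  cases F; cases E
  congr
  exact funext h

theorem ext_of_le {F E : FusionSystem S} (h : F ≤ E) (h' : E ≤ F) : F = E :=
  ext_of_hom fun P => (h P).antisymm (h' P)

/-! ### Centralizers and normalizers in `S` -/

theorem mem_centralizerIn {P : Subgroup Ω} {g : Ω} :
    g ∈ centralizerIn S P ↔ g ∈ S ∧ ∀ x ∈ P, g * x = x * g := by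
  simp [centralizerIn, Subgroup.mem_centralizer_iff, eq_comm]

theorem centralizerIn_conj {P : Subgroup Ω} {g x : Ω} (hg : g ∈ centralizerIn S P) (hx : x ∈ P) :
    g * x * g⁻¹ = x := by
  rw [(mem_centralizerIn.1 hg).2 x hx, mul_inv_cancel_right]

theorem mem_centralizerIn_of_conj {P : Subgroup Ω} {g : Ω} (hg : g ∈ S)
    (h : ∀ x ∈ P, g * x * g⁻¹ = x) : g ∈ centralizerIn S P :=
  mem_centralizerIn.2 ⟨hg, fun x hx => mul_inv_eq_iff_eq_mul.1 (h x hx)⟩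

theorem mem_normalizerIn {P : Subgroup Ω} {g : Ω} :
    g ∈ normalizerIn S P ↔ g ∈ S ∧ ∀ x, x ∈ P ↔ g * x * g⁻¹ ∈ P := by
  simp [normalizerIn, Subgroup.mem_normalizer_iff]

theorem normalizerIn_conj {P : Subgroup Ω} {g x : Ω} (hg : g ∈ normalizerIn S P) (hx : x ∈ P) :
    g * x * g⁻¹ ∈ P :=
  ((mem_normalizerIn.1 hg).2 x).1 hx

theorem normalizerIn_conj_inv {P : Subgroup Ω} {g x : Ω} (hg : g ∈ normalizerIn S P) (hx : x ∈ P) :
    g⁻¹ * x * g ∈ P := by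
  have := normalizerIn_conj ((normalizerIn S P).inv_mem hg) hx
  simpa using this

theorem mem_normalizerIn_of_conj {P : Subgroup Ω} [Finite P] {g : Ω} (hg : g ∈ S)
    (h : ∀ x ∈ P, g * x * g⁻¹ ∈ P) : g ∈ normalizerIn S P := by
  refine mem_normalizerIn.2 ⟨hg, fun x => ⟨h x, fun hx => ?_⟩⟩
  have hs : Function.Surjective (fun y : P => (⟨g * y * g⁻¹, h y y.2⟩ : P)) :=
    Finite.surjective_of_injective fun a b e => by simpa using congrArg Subtype.val e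
  obtain ⟨⟨y, hy⟩, e⟩ := hs ⟨_, hx⟩
  have e' : g * y * g⁻¹ = g * x * g⁻¹ := congrArg Subtype.val e
  rwa [← mul_left_cancel (mul_right_cancel e')]

theorem le_normalizerIn {P : Subgroup Ω} (h : P ≤ S) : P ≤ normalizerIn S P :=
  le_inf h Subgroup.le_normalizer

theorem centralizerIn_le_normalizerIn (S P : Subgroup Ω) : centralizerIn S P ≤ normalizerIn S P := by
  intro g hg
  refine mem_normalizerIn.2 ⟨hg.1, fun x => ⟨fun hx => (centralizerIn_conj hg hx).symm ▸ hx, ?_⟩⟩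
  intro hx
  have := centralizerIn_conj ((centralizerIn S P).inv_mem hg) hx
  have e : x = g * x * g⁻¹ := by simpa [mul_assoc] using this
  rwa [e]

/-! ### `Aut_F(P)` and `Aut_K(P)` -/

theorem mem_autInducedBy_iff {K P : Subgroup Ω} {α : MulAut P} :
    α ∈ autInducedBy K P ↔ ∃ g ∈ K, ∀ x : P, ((α x : P) : Ω) = g * x * g⁻¹ := by
  refine ⟨fun h => ?_, fun h => Subgroup.subset_closure h⟩
  induction h using Subgroup.closure_induction with
  | mem x hx => exact hx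
  | one => exact ⟨1, K.one_mem, fun x => by simp⟩
  | mul a b _ _ ha hb =>
    obtain ⟨g, hg, hga⟩ := ha
    obtain ⟨k, hk, hkb⟩ := hb
    refine ⟨g * k, K.mul_mem hg hk, fun x => ?_⟩
    rw [MulAut.mul_apply, hga, hkb]
    group
  | inv a _ ha =>
    obtain ⟨g, hg, hga⟩ := ha
    refine ⟨g⁻¹, K.inv_mem hg, fun x => ?_⟩
    have := hga (a⁻¹ x)
    rw [MulAut.apply_inv_self] at this
    rw [this]
    group

theorem autInducedBy_le_of_le {K K' P : Subgroup Ω} (h : K ≤ K') :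
    autInducedBy K P ≤ autInducedBy K' P :=
  Subgroup.closure_mono fun _ ⟨g, hg, hα⟩ => ⟨g, h hg, hα⟩

theorem isMap_aut_iff {F : FusionSystem S} {P : Subgroup Ω} {α : MulAut P} :
    P.subtype.comp α.toMonoidHom ∈ F.Hom P ↔
      IsMap F P (toFn (P.subtype.comp α.toMonoidHom)) :=
  (isMap_iff_mem fun _ hx => (toFn_apply _ hx).symm).symm

theorem aut_apply_toFn {P : Subgroup Ω} (α : MulAut P) {x : Ω} (hx : x ∈ P) :
    toFn (P.subtype.comp α.toMonoidHom) x = (α ⟨x, hx⟩ : P) :=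
  toFn_apply _ hx

/-- The function on `Ω` given by an automorphism of `P`. -/
noncomputable def autFn {P : Subgroup Ω} (α : MulAut P) : Ω → Ω :=
  toFn (P.subtype.comp α.toMonoidHom)

theorem autFn_apply {P : Subgroup Ω} (α : MulAut P) {x : Ω} (hx : x ∈ P) :
    autFn α x = (α ⟨x, hx⟩ : P) := toFn_apply _ hx

theorem autFn_mem {P : Subgroup Ω} (α : MulAut P) {x : Ω} (hx : x ∈ P) : autFn α x ∈ P :=
  autFn_apply α hx ▸ (α ⟨x, hx⟩).2

theorem autFn_isIso {F : FusionSystem S} {P : Subgroup Ω} {α : MulAut P}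
    (h : IsMap F P (autFn α)) : IsIso F P P (autFn α) := by
  refine ⟨h, IsIso.img_eq_of h le_rfl (fun x hx => autFn_mem α hx) fun y hy => ?_⟩
  refine ⟨(α⁻¹ ⟨y, hy⟩ : P), (α⁻¹ ⟨y, hy⟩ : P).2, ?_⟩
  rw [autFn_apply α (α⁻¹ ⟨y, hy⟩ : P).2]
  simp

theorem mem_autGroup_iff {F : FusionSystem S} {P : Subgroup Ω} (hP : P ≤ S) {α : MulAut P} :
    α ∈ F.autGroup P ↔ IsMap F P (autFn α) := by
  refine ⟨fun h => ?_, fun h => Subgroup.subset_closure (isMap_aut_iff.2 h)⟩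
  induction h using Subgroup.closure_induction with
  | mem x hx => exact isMap_aut_iff.1 hx
  | one => exact (IsMap.id hP).congr fun x hx => by rw [autFn_apply _ hx]; rfl
  | mul a b _ _ ha hb =>
    refine (hb.comp ha fun x hx => autFn_mem b hx).congr fun x hx => ?_
    refine (autFn_apply a (autFn_mem b hx)).trans (Eq.trans ?_ (autFn_apply (a * b) hx).symm)
    exact congrArg (fun y : P => ((a y : P) : Ω)) (Subtype.ext (autFn_apply b hx))
  | inv a _ ha =>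
    obtain ⟨g, hg, hga, -⟩ := (autFn_isIso ha).symm
    refine hg.1.congr fun x hx => ?_
    rw [autFn_apply _ hx]
    have h2 := hga _ (a⁻¹ ⟨x, hx⟩ : P).2
    rw [autFn_apply _ (a⁻¹ ⟨x, hx⟩ : P).2] at h2
    simpa using h2

theorem isIso_autFn {F : FusionSystem S} {P : Subgroup Ω} (hP : P ≤ S) {α : MulAut P}
    (h : α ∈ F.autGroup P) : IsIso F P P (autFn α) :=
  autFn_isIso ((mem_autGroup_iff hP).1 h)

/-- An isomorphism of the system as a group isomorphism. -/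
noncomputable def IsIso.equiv {F : FusionSystem S} {P Q : Subgroup Ω} {f : Ω → Ω}
    (h : IsIso F P Q f) : P ≃* Q :=
  MulEquiv.ofBijective (MonoidHom.mk' (fun x : P => (⟨f x, h.mem x.2⟩ : Q))
      fun a b => Subtype.ext (h.1.map_mul a.2 b.2))
    ⟨fun a b e => Subtype.ext (h.1.inj a.2 b.2 (congrArg Subtype.val e)), fun y =>
      let ⟨x, hx, e⟩ := h.exists_eq y.2
      ⟨⟨x, hx⟩, Subtype.ext e⟩⟩

@[simp] theorem IsIso.equiv_apply {F : FusionSystem S} {P Q : Subgroup Ω} {f : Ω → Ω}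
    (h : IsIso F P Q f) (x : P) : ((h.equiv x : Q) : Ω) = f x := rfl

theorem IsIso.equiv_symm_spec {F : FusionSystem S} {P Q : Subgroup Ω} {f : Ω → Ω}
    (h : IsIso F P Q f) (y : Q) : f (h.equiv.symm y : P) = y :=
  congrArg Subtype.val (h.equiv.apply_symm_apply y)

theorem exists_aut_of_isIso {F : FusionSystem S} {P : Subgroup Ω} {f : Ω → Ω}
    (h : IsIso F P P f) : ∃ α ∈ F.autGroup P, ∀ x : P, ((α x : P) : Ω) = f x :=
  ⟨h.equiv, (mem_autGroup_iff h.le_left).2 (h.1.congr fun x hx =>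
    ((autFn_apply _ hx).trans (h.equiv_apply ⟨x, hx⟩)).symm), fun x => h.equiv_apply x⟩

theorem autInducedBy_le_autGroup (F : FusionSystem S) {K P : Subgroup Ω} (hK : K ≤ S)
    (hP : P ≤ S) : autInducedBy K P ≤ F.autGroup P := by
  intro α hα
  obtain ⟨g, hg, h⟩ := mem_autInducedBy_iff.1 hα
  exact (mem_autGroup_iff hP).2 ((IsMap.conj hP (hK hg)).congr fun x hx => by
    rw [autFn_apply _ hx]; exact (h ⟨x, hx⟩).symm)

theorem inn_le_autInducedBy {K P : Subgroup Ω} (h : P ≤ K) : Cfsg.Inn P ≤ autInducedBy K P := by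
  rintro _ ⟨x, rfl⟩
  exact mem_autInducedBy_iff.2 ⟨x, h x.2, fun y => rfl⟩

theorem inn_le_autGroup (F : FusionSystem S) {P : Subgroup Ω} (hP : P ≤ S) :
    Cfsg.Inn P ≤ F.autGroup P :=
  (inn_le_autInducedBy hP).trans (autInducedBy_le_autGroup F le_rfl hP)

/-! ### The extender and receptive subgroups -/

/-- The extender of `f` on `P`. -/
def Nx (S P : Subgroup Ω) (f : Ω → Ω) : Subgroup Ω where
  carrier := {g | g ∈ normalizerIn S P ∧
    ∃ h ∈ S, ∀ x ∈ P, f (g * x * g⁻¹) = h * f x * h⁻¹}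
  one_mem' := ⟨one_mem _, 1, one_mem _, fun x _ => by simp⟩
  mul_mem' := by
    rintro a b ⟨ha, u, hu, hua⟩ ⟨hb, v, hv, hvb⟩
    refine ⟨mul_mem ha hb, u * v, mul_mem hu hv, fun x hx => ?_⟩
    rw [show a * b * x * (a * b)⁻¹ = a * (b * x * b⁻¹) * a⁻¹ by group,
      hua _ (normalizerIn_conj hb hx), hvb x hx]
    group
  inv_mem' := by
    rintro a ⟨ha, u, hu, hua⟩
    refine ⟨inv_mem ha, u⁻¹, inv_mem hu, fun x hx => ?_⟩
    have h1 := hua _ (normalizerIn_conj (inv_mem ha) hx)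
    rw [show a * (a⁻¹ * x * a⁻¹⁻¹) * a⁻¹ = x by group] at h1
    rw [h1]
    group

theorem mem_Nx {P : Subgroup Ω} {f : Ω → Ω} {g : Ω} :
    g ∈ Nx S P f ↔ g ∈ normalizerIn S P ∧
      ∃ h ∈ S, ∀ x ∈ P, f (g * x * g⁻¹) = h * f x * h⁻¹ := Iff.rfl

theorem Nx_le_normalizerIn (S P : Subgroup Ω) (f : Ω → Ω) : Nx S P f ≤ normalizerIn S P :=
  fun _ h => h.1

theorem le_Nx {F : FusionSystem S} {P : Subgroup Ω} {f : Ω → Ω} (h : IsMap F P f) :
    P ≤ Nx S P f :=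
  fun g hg => ⟨le_normalizerIn h.le hg, f g, h.mem hg, fun _ hx => h.map_conj hg hx⟩

theorem centralizerIn_le_Nx (S P : Subgroup Ω) (f : Ω → Ω) : centralizerIn S P ≤ Nx S P f :=
  fun g hg => ⟨centralizerIn_le_normalizerIn S P hg, 1, one_mem _,
    fun x hx => by rw [centralizerIn_conj hg hx]; simp⟩

theorem extender_eq {P : Subgroup Ω} (φ : P →* Ω) {f : Ω → Ω}
    (hf : ∀ x : P, φ x = f x) : extender S P φ = Nx S P f := by
  refine le_antisymm ((Subgroup.closure_le _).2 ?_) fun g hg => Subgroup.subset_closure ?_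
  · rintro g ⟨hgS, hgN, h, hh, e⟩
    refine ⟨⟨hgS, hgN⟩, h, hh, fun x hx => ?_⟩
    have hx' := (Subgroup.mem_normalizer_iff.1 hgN x).1 hx
    have := e ⟨x, hx⟩ hx'
    rwa [hf, hf] at this
  · obtain ⟨hgN, h, hh, e⟩ := hg
    refine ⟨hgN.1, hgN.2, h, hh, fun x hx => ?_⟩
    rw [hf, hf]
    exact e x x.2

theorem isReceptive_iff {F : FusionSystem S} {Q : Subgroup Ω} :
    F.IsReceptive Q ↔ Q ≤ S ∧ ∀ (P : Subgroup Ω) (f : Ω → Ω), IsIso F P Q f →
      ∃ f', IsMap F (Nx S P f) f' ∧ ∀ x ∈ P, f' x = f x := by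
  constructor
  · rintro ⟨hQ, h⟩
    refine ⟨hQ, fun P f hf => ?_⟩
    obtain ⟨⟨φ, hφ, e⟩, himg⟩ := hf
    have e' : ∀ x : P, φ x = f x := fun x => e x x.2
    have hrange : φ.range = Q := by
      rw [← himg, ← toFn_img φ]
      exact img_congr fun x hx => (toFn_apply φ hx).trans (e x hx)
    obtain ⟨ψ, hψ, hext⟩ := h P φ hφ hrange
    rw [← extender_eq φ e']
    refine ⟨toFn ψ, isMap_toFn hψ, fun x hx => ?_⟩
    have hle : P ≤ extender S P φ := by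
      rw [extender_eq φ e']
      exact le_Nx ⟨φ, hφ, e⟩
    rw [toFn_apply ψ (hle hx), hext x hx (hle hx), e]
  · rintro ⟨hQ, h⟩
    refine ⟨hQ, fun P φ hφ hrange => ?_⟩
    obtain ⟨f', ⟨ψ, hψ, e⟩, hext⟩ :=
      h P (toFn φ) ⟨isMap_toFn hφ, (toFn_img φ).trans hrange⟩
    have key : ∀ E, E = Nx S P (toFn φ) → ∃ ψ ∈ F.Hom E,
        ∀ (x : Ω) (hP : x ∈ P) (hN : x ∈ E), ψ ⟨x, hN⟩ = φ ⟨x, hP⟩ := by
      rintro E rfl
      exact ⟨ψ, hψ, fun x hP hN => by rw [e, hext x hP, toFn_apply φ hP]⟩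
    exact key _ (extender_eq φ fun x => (toFn_coe φ x).symm)

/-! ### Finiteness -/

theorem finite_of_le [Finite S] {P : Subgroup Ω} (h : P ≤ S) : Finite P :=
  Finite.of_injective _ (Subgroup.inclusion_injective h)

theorem finite_mulAut [Finite S] {P : Subgroup Ω} (h : P ≤ S) : Finite (MulAut P) :=
  have := finite_of_le h
  Finite.of_injective (fun α : MulAut P => (α : P → P)) DFunLike.coe_injective

theorem eq_of_le_of_card [Finite S] {P Q : Subgroup Ω} (hQ : Q ≤ S) (hle : P ≤ Q)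
    (h : Nat.card Q ≤ Nat.card P) : P = Q :=
  have := finite_of_le hQ
  Subgroup.eq_of_le_of_card_ge hle h

theorem isPGroup_autInducedBy {p : ℕ} (hS : IsPGroup p S) {P : Subgroup Ω} :
    IsPGroup p (autInducedBy S P) := by
  intro α
  obtain ⟨g, hg, hα⟩ := mem_autInducedBy_iff.1 α.2
  obtain ⟨k, hk⟩ := hS ⟨g, hg⟩
  refine ⟨k, Subtype.ext (MulEquiv.ext fun x => Subtype.ext ?_)⟩
  have hpow : ∀ n : ℕ, ((((α : MulAut P) ^ n) x : P) : Ω) = g ^ n * x * (g ^ n)⁻¹ := by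
    intro n
    induction n with
    | zero => simp
    | succ n ih =>
      rw [pow_succ', MulAut.mul_apply, hα, ih]
      group
  have hg1 : g ^ p ^ k = 1 := congrArg Subtype.val hk
  rw [SubgroupClass.coe_pow, hpow, hg1]
  simp

theorem isFullyAutomized_iff {F : FusionSystem S} {p : ℕ} {P : Subgroup Ω} :
    F.IsFullyAutomized p P ↔
      P ≤ S ∧ IsSylowIn p (autInducedBy S P) (F.autGroup P) := by
  refine and_congr_right fun hP => ?_
  exact (isSylowIn_iff_exists (autInducedBy_le_autGroup F le_rfl hP)).symm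

end Cfsg.Agent.Fusion
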