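import Cfsg.Agent.Lib.Fusion.Saturation

/-
The saturation criterion: a fully automized `S` and receptive fully normalized subgroups suffice.
Main results: `isSaturated_of_criterion`, `IsMap.forall_mem_sup`.
-/

set_option autoImplicit false

namespace Cfsg.Agent.Fusion

open Cfsg Cfsg.FusionSystem

variable {Ω : Type*} [Group Ω] {S : Subgroup Ω} {F : FusionSystem S}

theorem IsMap.forall_mem_sup {M P Q R : Subgroup Ω} {f : Ω → Ω} (hf : IsMap F M f) (hP : P ≤ M)
    (hQ : Q ≤ M) (h1 : ∀ x ∈ P, f x ∈ R) (h2 : ∀ x ∈ Q, f x ∈ R) {x : Ω} (hx : x ∈ P ⊔ Q) :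
    f x ∈ R := by
  obtain ⟨φ, -, e⟩ := hf
  have hle : P ⊔ Q ≤ (R.comap φ).map M.subtype := by
    refine sup_le (fun y hy => ?_) (fun y hy => ?_)
    · exact ⟨⟨y, hP hy⟩, show φ _ ∈ R from (e y _).symm ▸ h1 y hy, rfl⟩
    · exact ⟨⟨y, hQ hy⟩, show φ _ ∈ R from (e y _).symm ▸ h2 y hy, rfl⟩
  obtain ⟨y, hy, rfl⟩ := hle hx
  show f y ∈ R
  rw [← e y y.2]
  exact hy

theorem IsMap.eqOn_sup {M P Q : Subgroup Ω} {f g : Ω → Ω} (hf : IsMap F M f) (hg : IsMap F M g)
    (hP : P ≤ M) (hQ : Q ≤ M) (h1 : ∀ x ∈ P, f x = g x) (h2 : ∀ x ∈ Q, f x = g x) {x : Ω}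
    (hx : x ∈ P ⊔ Q) : f x = g x := by
  obtain ⟨φ, -, e⟩ := hf
  obtain ⟨ψ, -, e'⟩ := hg
  have hle : P ⊔ Q ≤ (φ.eqLocus ψ).map M.subtype := by
    refine sup_le (fun y hy => ?_) (fun y hy => ?_)
    · exact ⟨⟨y, hP hy⟩, show φ _ = ψ _ by rw [e, e']; exact h1 y hy, rfl⟩
    · exact ⟨⟨y, hQ hy⟩, show φ _ = ψ _ by rw [e, e']; exact h2 y hy, rfl⟩
  obtain ⟨y, hy, rfl⟩ := hle hx
  show f y = g y
  rw [← e y y.2, ← e' y y.2]
  exact hy

theorem autFn_pow {P : Subgroup Ω} (α : MulAut P) (n : ℕ) {x : Ω} (hx : x ∈ P) :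
    autFn (α ^ n) x = (autFn α)^[n] x := by
  induction n with
  | zero =>
    show autFn (α ^ 0) x = x
    rw [autFn_apply _ hx]
    simp
  | succ n ih =>
    rw [Function.iterate_succ_apply', ← ih, autFn_apply _ hx,
      autFn_apply α (autFn_mem (α ^ n) hx)]
    simp only [pow_succ', MulAut.mul_apply]
    exact congrArg (fun y : P => ((α y : P) : Ω)) (Subtype.ext (autFn_apply (α ^ n) hx).symm)

theorem fullyAutomized_of_criterion_step [Finite S] {p : ℕ} [Fact p.Prime] (hS : IsPGroup p S)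
    {P : Subgroup Ω} (hPS : P < S) (hn : F.IsFullyNormalized P) (hr : F.IsReceptive P)
    (ih : ∀ N : Subgroup Ω, Nat.card P < Nat.card N → F.IsFullyNormalized N →
      F.IsFullyAutomized p N)
    (hrec : ∀ N : Subgroup Ω, F.IsFullyNormalized N → F.IsReceptive N) :
    F.IsFullyAutomized p P := by
  by_contra hA
  have := finite_mulAut hn.1
  set T := autInducedBy S P with hT
  obtain ⟨B, hTB, hB⟩ := exists_isSylowIn_ge (isPGroup_autInducedBy (P := P) hS)
    (autInducedBy_le_autGroup F le_rfl hn.1)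
  have hne : T < B := lt_of_le_of_ne hTB fun e => hA (isFullyAutomized_iff.2 ⟨hn.1, by rwa [show autInducedBy S P = B from e]⟩)
  obtain ⟨α, hαN, hαT⟩ := SetLike.exists_of_lt (lt_normalizerIn hB.isPGroup le_rfl hne)
  have hαB : α ∈ B := hαN.1
  have hα := isIso_autFn hn.1 (hB.le hαB)
  set N := normalizerIn S P with hN
  have hPN : P ≤ N := le_normalizerIn hn.1
  have hNx : N ≤ Nx S P (autFn α) := by
    intro g hg
    have hc : α * normConj S P ⟨g, hg⟩ * α⁻¹ ∈ T :=
      normalizerIn_conj hαN ((range_normConj S P).le ⟨_, rfl⟩)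
    obtain ⟨h, hh, e⟩ := mem_autInducedBy_iff.1 hc
    refine mem_Nx.2 ⟨hg, h, hh, fun x hx => ?_⟩
    have := e (α ⟨x, hx⟩)
    rw [MulAut.mul_apply, MulAut.mul_apply, MulAut.inv_apply_self] at this
    rw [autFn_apply α hx, autFn_apply α (normalizerIn_conj hg hx)]
    exact this
  obtain ⟨β, hβ, hβα⟩ := (isReceptive_iff.1 hr).2 P _ hα
  replace hβ := hβ.mono hNx
  have himg : img β P = P := (img_congr hβα).trans hα.2
  have hNS : N ≤ S := inf_le_left
  have hβN : IsIso F N N β :=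
    ⟨hβ, eq_of_le_of_card hNS (hβ.img_le le_rfl fun g hg => map_normalizerIn hβ hPN himg hg hg)
      (hβ.card_img le_rfl).ge⟩
  obtain ⟨b, hb, hbβ⟩ := exists_aut_of_isIso hβN
  have := finite_mulAut hNS
  have hbα : ∀ (n : ℕ) (x : Ω), x ∈ P → autFn (b ^ n) x = autFn (α ^ n) x := by
    intro n x hx
    rw [autFn_pow b n (hPN hx), autFn_pow α n hx]
    induction n with
    | zero => rfl
    | succ n ih' =>
      rw [Function.iterate_succ_apply', Function.iterate_succ_apply', ih']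
      have hy : (autFn α)^[n] x ∈ P := by rw [← autFn_pow α n hx]; exact autFn_mem _ hx
      rw [autFn_apply b (hPN hy)]
      exact (hbβ ⟨_, hPN hy⟩).trans (hβα _ hy)
  set m := orderOf b / p ^ (orderOf b).factorization p with hm
  have hp : p.Prime := Fact.out
  have hmp : p.Coprime m := Nat.coprime_ordCompl hp (orderOf_pos b).ne'
  have hbm : (b ^ m) ^ p ^ (orderOf b).factorization p = 1 := by
    rw [← pow_mul, hm, mul_comm, Nat.mul_div_cancel' (Nat.ordProj_dvd _ _), pow_orderOf_eq_one]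
  -- the power `b ^ m` is a `p`-element
  have hU : IsPGroup p (Subgroup.zpowers (b ^ m)) := by
    rintro ⟨_, k, rfl⟩
    refine ⟨(orderOf b).factorization p, Subtype.ext ?_⟩
    show ((b ^ m) ^ k) ^ _ = 1
    rw [← zpow_natCast, ← zpow_mul, mul_comm, zpow_mul, zpow_natCast, hbm, one_zpow]
  have hPN' : P < N := lt_normalizerIn hS le_rfl hPS
  have hcard : Nat.card P < Nat.card N := by
    have := finite_of_le hNS
    exact lt_of_le_of_ne (Subgroup.card_le_of_le hPN) fun e =>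
      hPN'.ne (Subgroup.eq_of_le_of_card_ge hPN e.ge)
  obtain ⟨R, hR, hRn⟩ := exists_fullyNormalized F hNS
  obtain ⟨f, hf⟩ := isConj_iff.1 hR
  have := finite_mulAut hRn.1
  have hRA := ih R (hf.card_eq.symm ▸ hcard) hRn
  obtain ⟨a, ha, hconj⟩ := (isFullyAutomized_iff.1 hRA).2.exists_conj_le
    (hU.map (MulAut.congr hf.equiv).toMonoidHom) (by
      rintro _ ⟨u, hu, rfl⟩
      obtain ⟨k, rfl⟩ := hu
      exact congr_mem_autGroup hf (zpow_mem (pow_mem hb m) k))
  obtain ⟨h, hh, e⟩ := mem_autInducedBy_iff.1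
    (hconj _ ⟨b ^ m, Subgroup.mem_zpowers _, rfl⟩)
  set f₂ := fun x => autFn a (f x) with hf₂
  have hf₂iso : IsIso F N R f₂ := hf.trans (isIso_autFn hRn.1 ha)
  have hf₂b : ∀ x ∈ N, f₂ (autFn (b ^ m) x) = h * f₂ x * h⁻¹ := by
    intro x hx
    have he := e (a (hf.equiv ⟨x, hx⟩))
    rw [MulAut.mul_apply, MulAut.mul_apply, MulAut.inv_apply_self] at he
    show autFn a (f (autFn (b ^ m) x)) = h * autFn a (f x) * h⁻¹
    rw [autFn_apply a (hf.mem (autFn_mem _ hx)), autFn_apply a (hf.mem hx)]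
    refine Eq.trans ?_ he
    refine congrArg (fun y : R => ((a y : R) : Ω)) (Subtype.ext ?_)
    refine (congrArg f (autFn_apply (b ^ m) hx)).trans ?_
    exact (congr_apply_coe hf (b ^ m) ⟨x, hx⟩).symm
  set P' := img f₂ P with hP'
  have hP'S : P' ≤ S := (hf₂iso.1.mono hPN).img_le_S
  have := finite_of_le hP'S
  have hhN : h ∈ normalizerIn S P' := by
    refine mem_normalizerIn_of_conj hh fun y hy => ?_
    obtain ⟨x, hx, rfl⟩ := (hf₂iso.1.mem_img_iff hPN).1 hy
    rw [← hf₂b x (hPN hx), hbα m x hx]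
    exact hf₂iso.1.mem_img (autFn_mem _ hx)
  have hR' : R = normalizerIn S P' := by
    refine eq_of_le_of_card inf_le_left (fun y hy => ?_) ?_
    · obtain ⟨x, hx, rfl⟩ := hf₂iso.exists_eq hy
      exact map_normalizerIn hf₂iso.1 hPN rfl hx hx
    · rw [hf₂iso.card_eq]
      exact hn.2 P' (isConj_iff.2 ⟨f₂, hf₂iso.mono hPN⟩)
  obtain ⟨g, hg, rfl⟩ := hf₂iso.exists_eq (hR'.symm ▸ hhN : h ∈ R)
  have hαm : α ^ m ∈ T := by
    refine mem_autInducedBy_iff.2 ⟨g, hg.1, fun x => ?_⟩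
    rw [← autFn_apply (α ^ m) x.2, ← hbα m x x.2]
    refine hf₂iso.1.inj (autFn_mem _ (hPN x.2)) (mul_mem (mul_mem hg (hPN x.2)) (inv_mem hg)) ?_
    rw [hf₂b x (hPN x.2), hf₂iso.1.map_conj hg (hPN x.2)]
  obtain ⟨k, hk⟩ := hB.isPGroup ⟨α, hαB⟩
  have hord : orderOf α ∣ p ^ k := orderOf_dvd_of_pow_eq_one (congrArg Subtype.val hk)
  obtain ⟨j, hj⟩ := exists_pow_eq_self_of_coprime
    (Nat.Coprime.coprime_dvd_right hord (hmp.symm.pow_right k))
  exact hαT (hj ▸ T.pow_mem hαm j)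

theorem fullyAutomized_of_criterion [Finite S] {p : ℕ} [Fact p.Prime] (hS : IsPGroup p S)
    (hA : F.IsFullyAutomized p S)
    (hrec : ∀ N : Subgroup Ω, F.IsFullyNormalized N → F.IsReceptive N) (P : Subgroup Ω)
    (hP : F.IsFullyNormalized P) : F.IsFullyAutomized p P := by
  suffices H : ∀ n, ∀ P : Subgroup Ω, Nat.card S - Nat.card P = n → F.IsFullyNormalized P →
      F.IsFullyAutomized p P from H _ P rfl hP
  intro n
  induction n using Nat.strong_induction_on with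
  | _ n ih =>
    intro P hn hP
    rcases eq_or_lt_of_le hP.1 with rfl | hlt
    · exact hA
    refine fullyAutomized_of_criterion_step hS hlt hP (hrec P hP) (fun N hN hNn => ?_) hrec
    have := Subgroup.card_le_of_le hNn.1
    exact ih (Nat.card S - Nat.card N) (by omega) N rfl hNn

theorem isSaturated_of_criterion [Finite S] {p : ℕ} [Fact p.Prime] (hS : IsPGroup p S)
    (hA : F.IsFullyAutomized p S)
    (hrec : ∀ N : Subgroup Ω, F.IsFullyNormalized N → F.IsReceptive N) : F.IsSaturated p := by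
  intro P hP
  obtain ⟨R, hR, hRn⟩ := exists_fullyNormalized F hP
  exact ⟨R, hR, fullyAutomized_of_criterion hS hA hrec R hRn, hrec R hRn⟩

theorem fullyNormalized_top : F.IsFullyNormalized S → normalizerIn S S = S :=
  fun _ => normalizerIn_self S

theorem isFullyNormalized_self [Finite S] (F : FusionSystem S) : F.IsFullyNormalized S :=
  ⟨le_rfl, fun Q _ => by rw [normalizerIn_self]; exact Subgroup.card_le_of_le inf_le_left⟩

end Cfsg.Agent.Fusion
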