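/-
Alperin's fusion theorem with tame Sylow intersections.

Main results (namespace `Cfsg.Agent.TameChain`):
* `IsTame P Q` : `P ⊓ Q` is a tame intersection;
* `Chain P A g` : `g` is a product of elements of normalisers of tame intersections carrying `A` along;
* `exists_chain_sylow` : every Sylow subgroup `R` can be moved to `P` by a chain starting at `P ⊓ R`;
* `exists_chain` : Alperin's theorem.
-/
import Cfsg.Agent.EqLemmas

set_option autoImplicit false

namespace Cfsg.Agent.TameChain

variable {G : Type*} [Group G] {p : ℕ}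

/-- The normaliser of the intersection of two Sylow subgroups. -/
def interNormalizer (P Q : Sylow p G) : Subgroup G :=
  Subgroup.normalizer ((((P : Subgroup G) ⊓ (Q : Subgroup G)) : Subgroup G) : Set G)

/-- `P ⊓ Q` is a tame intersection. -/
def IsTame (P Q : Sylow p G) : Prop :=
  ¬ p ∣ ((P : Subgroup G) ⊓ interNormalizer P Q).relIndex (interNormalizer P Q) ∧
    ¬ p ∣ ((Q : Subgroup G) ⊓ interNormalizer P Q).relIndex (interNormalizer P Q)

/-- Conjugation of a set by `g` (`a ↦ g⁻¹ a g`). -/
def conjSet (g : G) (A : Set G) : Set G := (fun a => g⁻¹ * a * g) '' A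

theorem conjSet_one (A : Set G) : conjSet 1 A = A := by simp [conjSet]

theorem conjSet_mul (g h : G) (A : Set G) : conjSet (g * h) A = conjSet h (conjSet g A) := by
  simp only [conjSet, Set.image_image]
  congr 1; funext a; group

theorem conjSet_mono (g : G) {A B : Set G} (h : A ⊆ B) : conjSet g A ⊆ conjSet g B :=
  Set.image_mono h

theorem coe_inv_smul (g : G) (R : Sylow p G) :
    (((g⁻¹ • R : Sylow p G) : Subgroup G) : Set G) = conjSet g ((R : Subgroup G) : Set G) := by
  ext x
  rw [SetLike.mem_coe, Sylow.coe_subgroup_smul, Subgroup.mem_pointwise_smul_iff_inv_smul_mem]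
  simp only [conjSet, Set.mem_image, SetLike.mem_coe]
  constructor
  · intro h
    exact ⟨g * x * g⁻¹, by simpa using h, by group⟩
  · rintro ⟨a, ha, rfl⟩
    simpa [mul_assoc] using ha

theorem conjSet_eq_self {D : Subgroup G} {x : G} (hx : x ∈ Subgroup.normalizer (D : Set G)) :
    conjSet x (D : Set G) = D := by
  ext a
  constructor
  · rintro ⟨b, hb, rfl⟩
    exact (Subgroup.mem_normalizer_iff''.mp hx b).mp hb
  · intro ha
    exact ⟨x * a * x⁻¹, (Subgroup.mem_normalizer_iff.mp hx a).mp ha, by group⟩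

/-- A chain of tame intersections carrying `A` along, with product `g`. -/
inductive Chain (P : Sylow p G) : Set G → G → Prop
  | nil (A : Set G) : Chain P A 1
  | cons (A : Set G) (Q : Sylow p G) (x g : G) (hx : x ∈ interNormalizer P Q) (ht : IsTame P Q)
      (hA : A ⊆ (((P : Subgroup G) ⊓ (Q : Subgroup G) : Subgroup G) : Set G))
      (h : Chain P (conjSet x A) g) : Chain P A (x * g)

theorem Chain.mono {P : Sylow p G} {A B : Set G} {g : G} (h : Chain P B g) (hAB : A ⊆ B) :
    Chain P A g := by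
  induction h generalizing A with
  | nil => exact Chain.nil _
  | cons B Q x g hx ht hA _ ih =>
    exact Chain.cons _ Q x g hx ht (hAB.trans hA) (ih (conjSet_mono x hAB))

theorem Chain.append {P : Sylow p G} {A : Set G} {g k : G} (h : Chain P A g)
    (h' : Chain P (conjSet g A) k) : Chain P A (g * k) := by
  induction h with
  | nil A => rw [one_mul]; rwa [conjSet_one] at h'
  | cons A Q x g hx ht hA _ ih =>
    rw [mul_assoc]
    exact Chain.cons _ Q x _ hx ht hA (ih (by rwa [conjSet_mul] at h'))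

theorem Chain.conjSet_subset {P : Sylow p G} {A : Set G} {g : G} (h : Chain P A g)
    (hA : A ⊆ ((P : Subgroup G) : Set G)) : conjSet g A ⊆ ((P : Subgroup G) : Set G) := by
  induction h with
  | nil A => rwa [conjSet_one]
  | cons A Q x g hx ht hAQ _ ih =>
    rw [conjSet_mul]
    refine ih ((conjSet_mono x hAQ).trans ?_)
    rw [conjSet_eq_self hx]
    exact SetLike.coe_subset_coe.mpr inf_le_left

variable [Finite G] [Fact p.Prime]

theorem tame_self (P : Sylow p G) : IsTame P P := by
  have h : ¬ p ∣ ((P : Subgroup G) ⊓ interNormalizer P P).relIndex (interNormalizer P P) := by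
    rw [Subgroup.inf_relIndex_right]
    exact (P.subtype (N := interNormalizer P P)
      (by rw [interNormalizer, inf_idem]; exact Subgroup.le_normalizer)).not_dvd_index
  exact ⟨h, h⟩

/-- A Sylow subgroup of `G` cutting a subgroup `N` in a Sylow subgroup that contains a given `p`-subgroup. -/
theorem exists_sylow_over (N U : Subgroup G) (hU : IsPGroup p U) (hUN : U ≤ N) :
    ∃ S : Sylow p G, U ≤ (S : Subgroup G) ∧ ¬ p ∣ ((S : Subgroup G) ⊓ N).relIndex N := by
  obtain ⟨T, hT⟩ := (hU.comap_subtype (K := N)).exists_le_sylow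
  obtain ⟨S, hS⟩ := (T.isPGroup'.map N.subtype).exists_le_sylow
  refine ⟨S, fun x hx => hS ⟨⟨x, hUN hx⟩, hT hx, rfl⟩, ?_⟩
  have hTS : (T : Subgroup N) = (S : Subgroup G).subgroupOf N :=
    (T.is_maximal' (S.isPGroup'.comap_subtype (K := N)) (Subgroup.map_le_iff_le_comap.mp hS)).symm
  rw [Subgroup.inf_relIndex_right, Subgroup.relIndex, ← hTS]
  exact T.not_dvd_index

theorem lt_normalizer {P D : Subgroup G} (hP : IsPGroup p P) (hD : D < P) :
    D < P ⊓ Subgroup.normalizer (D : Set G) := by
  refine lt_of_le_of_ne (le_inf hD.le Subgroup.le_normalizer) fun he => ?_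
  have := hP.isNilpotent
  have hlt : D.subgroupOf P < ⊤ := lt_top_iff_ne_top.mpr fun h =>
    hD.not_ge (Subgroup.subgroupOf_eq_top.mp h)
  obtain ⟨x, hx, hxD⟩ := SetLike.exists_of_lt (Group.normalizerCondition_of_isNilpotent _ hlt)
  refine hxD ?_
  rw [Subgroup.mem_subgroupOf, he]
  refine ⟨x.2, Subgroup.mem_normalizer_iff.mpr fun k => ?_⟩
  constructor
  · intro hk
    exact (Subgroup.mem_normalizer_iff.mp hx ⟨k, hD.le hk⟩).mp hk
  · intro hk
    have hkP : k ∈ P := by
      have := mul_mem (mul_mem (inv_mem x.2) (hD.le hk)) x.2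
      simpa [mul_assoc] using this
    exact (Subgroup.mem_normalizer_iff.mp hx ⟨k, hkP⟩).mpr hk

theorem card_conj (g : G) (U : Subgroup G) :
    Nat.card (U.map (MulAut.conj g⁻¹).toMonoidHom) = Nat.card U :=
  (Nat.card_congr (U.equivMapOfInjective _ (MulAut.conj g⁻¹).injective).toEquiv).symm

theorem coe_map_conj (g : G) (U : Subgroup G) :
    ((U.map (MulAut.conj g⁻¹).toMonoidHom : Subgroup G) : Set G) = conjSet g (U : Set G) := by
  rw [Subgroup.coe_map]
  exact Set.image_congr' fun a => by simp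

/-- Every Sylow subgroup `R` is carried to `P` by a chain defined on `P ⊓ R`. -/
theorem exists_chain_sylow (P R : Sylow p G) :
    ∃ g : G, Chain P (((P : Subgroup G) ⊓ (R : Subgroup G) : Subgroup G) : Set G) g ∧ g⁻¹ • R = P := by
  classical
  suffices H : ∀ (c : ℕ) (R : Sylow p G),
      Nat.card (P : Subgroup G) - Nat.card ↥((P : Subgroup G) ⊓ (R : Subgroup G)) = c →
      ∃ g : G, Chain P (((P : Subgroup G) ⊓ (R : Subgroup G) : Subgroup G) : Set G) g ∧ g⁻¹ • R = P from
    H _ R rfl
  intro c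
  induction c using Nat.strong_induction_on with
  | _ c ih =>
    intro R hc
    set D := (P : Subgroup G) ⊓ (R : Subgroup G) with hD
    by_cases hRP : R = P
    · exact ⟨1, Chain.nil _, by rw [inv_one, one_smul, hRP]⟩
    have hcardPR : Nat.card (R : Subgroup G) = Nat.card (P : Subgroup G) :=
      Nat.card_congr (Sylow.equiv R P).toEquiv
    have hDP : D < (P : Subgroup G) := lt_of_le_of_ne inf_le_left fun h => hRP
      (Sylow.ext (P.is_maximal' R.isPGroup' (inf_eq_left.mp h)))
    have hDR : D < (R : Subgroup G) := lt_of_le_of_ne inf_le_right fun h => hRP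
      (Sylow.ext (R.is_maximal' P.isPGroup' (inf_eq_right.mp h)).symm)
    have hlt : ∀ U V : Subgroup G, U < V → Nat.card U < Nat.card V := fun U V h =>
      lt_of_le_of_ne (Subgroup.card_le_of_le h.le) fun he =>
        h.ne (Subgroup.eq_of_le_of_card_ge h.le he.ge)
    -- bigger intersections are settled by induction
    have step : ∀ R' : Sylow p G, Nat.card D < Nat.card ↥((P : Subgroup G) ⊓ (R' : Subgroup G)) →
        ∃ g : G, Chain P (((P : Subgroup G) ⊓ (R' : Subgroup G) : Subgroup G) : Set G) g ∧ g⁻¹ • R' = P := by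
      intro R' h
      refine ih _ ?_ R' rfl
      have := Subgroup.card_le_of_le (inf_le_left : (P : Subgroup G) ⊓ (R' : Subgroup G) ≤ P)
      have := hlt _ _ hDP
      omega
    -- it suffices to move `D` so that the intersection grows
    have finish : ∀ y : G, Chain P (D : Set G) y → ∀ U : Subgroup G, Nat.card D < Nat.card U →
        conjSet y (U : Set G) ⊆ ((P : Subgroup G) : Set G) →
        conjSet y (U : Set G) ⊆ (((y⁻¹ • R : Sylow p G) : Subgroup G) : Set G) →
        ∃ g : G, Chain P (D : Set G) g ∧ g⁻¹ • R = P := by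
      intro y hy U hU hUP hUR
      have hle : U.map (MulAut.conj y⁻¹).toMonoidHom ≤ (P : Subgroup G) ⊓ ((y⁻¹ • R : Sylow p G) : Subgroup G) := by
        refine SetLike.coe_subset_coe.mp ?_
        rw [coe_map_conj, Subgroup.coe_inf]
        exact Set.subset_inter hUP hUR
      obtain ⟨z, hz, hzP⟩ := step (y⁻¹ • R)
        (lt_of_lt_of_le (by rwa [card_conj]) (Subgroup.card_le_of_le hle))
      refine ⟨y * z, hy.append (hz.mono ?_), by rw [mul_inv_rev, mul_smul, hzP]⟩
      rw [Subgroup.coe_inf]
      refine Set.subset_inter (hy.conjSet_subset (SetLike.coe_subset_coe.mpr inf_le_left)) ?_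
      exact (conjSet_mono y (SetLike.coe_subset_coe.mpr inf_le_right)).trans (coe_inv_smul y R).ge
    -- step one: make `P` contain a Sylow subgroup of the normaliser
    set N := Subgroup.normalizer (D : Set G) with hN
    have hPN : D < (P : Subgroup G) ⊓ N := lt_normalizer P.isPGroup' hDP
    obtain ⟨S, hS1, hS2⟩ := exists_sylow_over N _ (P.isPGroup'.to_le (inf_le_left : (P : Subgroup G) ⊓ N ≤ P)) inf_le_right
    obtain ⟨y, hy, hyP⟩ := step S (lt_of_lt_of_le (hlt _ _ hPN) (Subgroup.card_le_of_le (le_inf inf_le_left hS1)))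
    have hyD : Chain P (D : Set G) y :=
      hy.mono (SetLike.coe_subset_coe.mpr (le_inf inf_le_left (hPN.le.trans hS1)))
    set R₁ := y⁻¹ • R with hR₁
    set φ := (MulAut.conj y⁻¹).toMonoidHom with hφ
    have hφinj : Function.Injective φ := (MulAut.conj y⁻¹).injective
    set D₁ := D.map φ with hD₁
    have hD₁le : D₁ ≤ (P : Subgroup G) ⊓ (R₁ : Subgroup G) := by
      refine SetLike.coe_subset_coe.mp ?_
      rw [coe_map_conj, Subgroup.coe_inf]
      refine Set.subset_inter (hyD.conjSet_subset (SetLike.coe_subset_coe.mpr inf_le_left)) ?_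
      exact (conjSet_mono y (SetLike.coe_subset_coe.mpr inf_le_right)).trans (coe_inv_smul y R).ge
    have hyD₁ : conjSet y (D : Set G) = (D₁ : Set G) := (coe_map_conj y D).symm
    by_cases hbig : Nat.card D < Nat.card ↥((P : Subgroup G) ⊓ (R₁ : Subgroup G))
    · obtain ⟨z, hz, hzP⟩ := step R₁ hbig
      refine ⟨y * z, hyD.append (hz.mono ?_), by rw [mul_inv_rev, mul_smul, hzP]⟩
      rw [hyD₁]; exact SetLike.coe_subset_coe.mpr hD₁le
    have hD₁eq : D₁ = (P : Subgroup G) ⊓ (R₁ : Subgroup G) :=
      Subgroup.eq_of_le_of_card_ge hD₁le (by rw [hD₁, card_conj]; omega)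
    set N₁ := Subgroup.normalizer (D₁ : Set G) with hN₁
    have hN₁eq : N₁ = N.map φ := by
      rw [hN₁, hN]; exact (Subgroup.map_equiv_normalizer_eq D (MulAut.conj y⁻¹)).symm
    have hPN₁ : ¬ p ∣ ((P : Subgroup G) ⊓ N₁).relIndex N₁ := by
      have hSP : (S : Subgroup G).map φ = (P : Subgroup G) := by
        refine SetLike.coe_injective ?_
        rw [coe_map_conj, ← coe_inv_smul, hyP]
      rw [hN₁eq, ← hSP, ← Subgroup.map_inf _ _ φ hφinj,
        Subgroup.relIndex_map_map_of_injective _ _ hφinj]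
      exact hS2
    -- step two: `R₁` inside a Sylow subgroup of the normaliser
    have hRN₁ : D₁ < (R₁ : Subgroup G) ⊓ N₁ := by
      refine lt_normalizer R₁.isPGroup' (lt_of_le_of_ne (hD₁le.trans inf_le_right) fun h => ?_)
      have := hlt _ _ hDR
      rw [← card_conj y D, ← hφ, ← hD₁, h, hcardPR, ← Nat.card_congr (Sylow.equiv R₁ P).toEquiv] at this
      exact lt_irrefl _ this
    have hRcard : Nat.card D < Nat.card ↥((R₁ : Subgroup G) ⊓ N₁) := by
      rw [← card_conj y D]; exact hlt _ _ hRN₁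
    obtain ⟨T, hT1, hT2⟩ := exists_sylow_over N₁ _ (R₁.isPGroup'.to_le (inf_le_left : (R₁ : Subgroup G) ⊓ N₁ ≤ R₁)) inf_le_right
    have hD₁T : D₁ ≤ (P : Subgroup G) ⊓ (T : Subgroup G) :=
      le_inf (hD₁le.trans inf_le_left) (hRN₁.le.trans hT1)
    -- pull a subgroup of `R₁` back along `y`
    have pull : ∀ (x : G) (U₁ : Subgroup G), Chain P (D₁ : Set G) x → Nat.card D < Nat.card U₁ →
        U₁ ≤ (R₁ : Subgroup G) → conjSet x (U₁ : Set G) ⊆ ((P : Subgroup G) : Set G) →
        ∃ g : G, Chain P (D : Set G) g ∧ g⁻¹ • R = P := by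
      intro x U₁ hx hU hUR hUP
      refine finish (y * x) (hyD.append (by rwa [hyD₁])) (U₁.map (MulAut.conj y⁻¹⁻¹).toMonoidHom)
        (by rwa [card_conj]) ?_ ?_
      · rw [coe_map_conj, ← conjSet_mul, ← mul_assoc, inv_mul_cancel, one_mul]; exact hUP
      · rw [coe_map_conj, ← conjSet_mul, ← mul_assoc, inv_mul_cancel, one_mul, mul_inv_rev, mul_smul,
          ← hR₁, coe_inv_smul]
        exact conjSet_mono x (SetLike.coe_subset_coe.mpr hUR)
    by_cases hTbig : Nat.card D < Nat.card ↥((P : Subgroup G) ⊓ (T : Subgroup G))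
    · obtain ⟨z, hz, hzP⟩ := step T hTbig
      refine pull z _ (hz.mono (SetLike.coe_subset_coe.mpr hD₁T)) hRcard inf_le_left ?_
      rw [← hzP, coe_inv_smul]
      exact conjSet_mono z (SetLike.coe_subset_coe.mpr hT1)
    · have hTeq : (P : Subgroup G) ⊓ (T : Subgroup G) = D₁ :=
        (Subgroup.eq_of_le_of_card_ge hD₁T (by rw [hD₁, card_conj]; omega)).symm
      have hIN : interNormalizer P T = N₁ := by rw [interNormalizer, hTeq]
      have htame : IsTame P T := by rw [IsTame, hIN]; exact ⟨hPN₁, hT2⟩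
      -- conjugate the Sylow subgroup `T ⊓ N₁` of `N₁` onto `P ⊓ N₁`
      obtain ⟨T', hT'⟩ := (T.isPGroup'.comap_subtype (K := N₁)).exists_le_sylow
      obtain ⟨P', hP'⟩ := (P.isPGroup'.comap_subtype (K := N₁)).exists_le_sylow
      have hPeq : (P : Subgroup G).subgroupOf N₁ = (P' : Subgroup N₁) := by
        have h1 : ¬ p ∣ ((P : Subgroup G).subgroupOf N₁).index := by
          rw [Subgroup.inf_relIndex_right] at hPN₁; exact hPN₁
        let PS : Sylow p N₁ := IsPGroup.toSylow (P.isPGroup'.comap_subtype (K := N₁)) h1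
        exact (PS.is_maximal' P'.isPGroup' hP').symm
      obtain ⟨x, hx⟩ := MulAction.exists_smul_eq N₁ T' P'
      have hmove : conjSet ((x : G)⁻¹) (((R₁ : Subgroup G) ⊓ N₁ : Subgroup G) : Set G) ⊆ ((P : Subgroup G) : Set G) := by
        rintro _ ⟨a, ha, rfl⟩
        have haT : (⟨a, ha.2⟩ : N₁) ∈ (T' : Subgroup N₁) := hT' (hT1 ha)
        have hmem : x * ⟨a, ha.2⟩ * x⁻¹ ∈ (P' : Subgroup N₁) := by
          rw [← hx, Sylow.coe_subgroup_smul]
          exact Subgroup.smul_mem_pointwise_smul _ _ _ haT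
        rw [← hPeq, Subgroup.mem_subgroupOf] at hmem
        simpa using SetLike.mem_coe.mpr hmem
      refine pull (x : G)⁻¹ _ ?_ hRcard inf_le_left hmove
      have := Chain.cons (D₁ : Set G) T (x : G)⁻¹ 1 (by rw [hIN]; exact inv_mem x.2) htame (by rw [hTeq]) (Chain.nil (P := P) _)
      rwa [mul_one] at this

/-- Alperin's fusion theorem. -/
theorem exists_chain (P : Sylow p G) {A : Set G} {g : G} (hA : A ⊆ ((P : Subgroup G) : Set G))
    (hAg : conjSet g A ⊆ ((P : Subgroup G) : Set G)) : Chain P A g := by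
  obtain ⟨y, hy, hyP⟩ := exists_chain_sylow P (g • P)
  have hAR : A ⊆ (((g • P : Sylow p G) : Subgroup G) : Set G) := by
    intro a ha
    rw [SetLike.mem_coe, Sylow.coe_subgroup_smul, Subgroup.mem_pointwise_smul_iff_inv_smul_mem]
    have := hAg ⟨a, ha, rfl⟩
    rw [show (MulAut.conj g)⁻¹ • a = g⁻¹ * a * g by simp]
    exact this
  have hyA : Chain P A y := hy.mono (by rw [Subgroup.coe_inf]; exact Set.subset_inter hA hAR)
  have hn : y⁻¹ * g ∈ interNormalizer P P := by
    rw [interNormalizer, inf_idem]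
    exact Sylow.smul_eq_iff_mem_normalizer.mp (by rw [mul_smul]; exact hyP)
  have hlast : Chain P (conjSet y A) (y⁻¹ * g) := by
    have := Chain.cons (conjSet y A) P (y⁻¹ * g) 1 hn (tame_self P)
      (by rw [inf_idem]; exact hyA.conjSet_subset hA) (Chain.nil (P := P) _)
    rwa [mul_one] at this
  have := hyA.append hlast
  rwa [mul_inv_cancel_left] at this

end Cfsg.Agent.TameChain
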