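import Cfsg.Agent.Lib.Fusion.ThompsonCrit
import Cfsg.Agent.Lib.PLocal.ActionStable
import Cfsg.Agent.Lib.WCCenter.Core
import Cfsg.Agent.Lib.FusionNormal.Generation

/-
An axiomatic Glauberman–Thompson criterion.
Main results: `Ax`, `inter_normal`, `hnpc_of_ax`, `pAut_of_ax`.
-/

set_option autoImplicit false

open scoped Classical commutatorElement

namespace Cfsg.Agent.Fusion

open Cfsg Cfsg.FusionSystem

universe u

variable {G : Type u} [Group G] {p : ℕ}

/-- The axioms for a family of abelian subgroups of a Sylow subgroup. -/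
structure Ax (P : Subgroup G) (𝒜 : Set (Subgroup G)) : Prop where
  ab : ∀ A ∈ 𝒜, A ≤ P ∧ A ≤ Subgroup.centralizer (A : Set G)
  ne : 𝒜.Nonempty
  inv : ∀ Q : Subgroup G, Q ≤ P → ∀ n ∈ Subgroup.normalizer (Q : Set G), ∀ x : G,
    (∀ A ∈ 𝒜, A ≤ Q → x ∈ A) → ∀ A ∈ 𝒜, A ≤ Q → n * x * n⁻¹ ∈ A
  rep : ∀ B : Subgroup G, B ≤ P → ⁅⁅B, B⁆, B⁆ = ⊥ → (∃ A ∈ 𝒜, ⁅B, B⁆ ≤ A ∧ ¬ B ≤ A) →
    ∃ A ∈ 𝒜, ⁅B, B⁆ ≤ A ∧ ¬ B ≤ A ∧ B ≤ Subgroup.normalizer (A : Set G)

/-- The intersection of the family. -/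
def interOf (𝒜 : Set (Subgroup G)) : Subgroup G := ⨅ A ∈ 𝒜, A

theorem mem_interOf {𝒜 : Set (Subgroup G)} {x : G} : x ∈ interOf 𝒜 ↔ ∀ A ∈ 𝒜, x ∈ A := by
  simp [interOf, Subgroup.mem_iInf]

theorem Ax.inter_le {P : Subgroup G} {𝒜 : Set (Subgroup G)} (h : Ax P 𝒜) : interOf 𝒜 ≤ P :=
  fun _ hx => (h.ab _ h.ne.some_mem).1 (mem_interOf.1 hx _ h.ne.some_mem)

theorem Ax.normalizer_le {P : Subgroup G} {𝒜 : Set (Subgroup G)} [Finite G] (h : Ax P 𝒜) :
    Subgroup.normalizer (P : Set G) ≤ Subgroup.normalizer (interOf 𝒜 : Set G) := fun n hn => by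
  rw [PLocal.mem_normalizer_iff_map_eq]
  refine Subgroup.eq_of_le_of_card_ge ?_ (WCCenter.card_map_conj n _).ge
  rintro _ ⟨x, hx, rfl⟩
  exact mem_interOf.2 fun A hA =>
    h.inv P le_rfl n hn x (fun B hB _ => mem_interOf.1 hx B hB) A hA (h.ab A hA).1

theorem quad_of_normalizes {V : Subgroup G} {A : Subgroup G} (hA : A ≤ Subgroup.centralizer (A : Set G))
    (hVA : V ≤ Subgroup.normalizer (A : Set G)) {a : G} (ha : a ∈ A) :
    ⁅⁅V, Subgroup.zpowers a⁆, Subgroup.zpowers a⁆ = ⊥ := by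
  have h1 : ⁅V, Subgroup.zpowers a⁆ ≤ A := by
    refine Subgroup.commutator_le.2 fun v hv b hb => ?_
    have hbA : b ∈ A := Subgroup.zpowers_le.2 ha hb
    exact mul_mem ((Subgroup.mem_normalizer_iff.1 (hVA hv) b).1 hbA) (inv_mem hbA)
  rw [Subgroup.commutator_eq_bot_iff_le_centralizer]
  exact (h1.trans hA).trans (Subgroup.centralizer_le (SetLike.coe_subset_coe.2 (Subgroup.zpowers_le.2 ha)))

variable [Finite G] [Fact p.Prime]

/-- Under `p`-stability every normal `p`-subgroup meets the intersection in a normal subgroup. -/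
theorem inter_normal (S : Sylow p G) {𝒜 : Set (Subgroup G)} (h : Ax (S : Subgroup G) 𝒜)
    (hst : ∀ (B : Subgroup G) [B.Normal], IsPGroup p B → Cfsg.IsPStableOn p B) :
    ∀ (n : ℕ) (B : Subgroup G) [B.Normal], IsPGroup p B → Nat.card B = n →
      (B ⊓ interOf 𝒜).Normal := by
  intro n
  induction n using Nat.strong_induction_on with
  | _ n IH =>
  intro B hBn hBp hn
  set I := interOf 𝒜
  have hBS : B ≤ (S : Subgroup G) := (Cores.le_pCore hBn hBp).trans (Cores.pCore_le_sylow S)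
  have hSI : (S : Subgroup G) ≤ Subgroup.normalizer (I : Set G) :=
    Subgroup.le_normalizer.trans h.normalizer_le
  have hBI : ∀ s ∈ (S : Subgroup G), ∀ x ∈ B ⊓ I, s * x * s⁻¹ ∈ B ⊓ I := fun s hs x hx =>
    ⟨hBn.conj_mem x hx.1 s, (Subgroup.mem_normalizer_iff.1 (hSI hs) x).1 hx.2⟩
  set B₀ := Subgroup.normalClosure ((B ⊓ I : Subgroup G) : Set G)
  have hB₀ : B₀ ≤ B := Subgroup.normalClosure_le_normal fun x hx => hx.1
  have hI0 : B ⊓ I ≤ B₀ := Subgroup.subset_normalClosure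
  rcases hB₀.eq_or_lt with heq | hlt
  swap
  · have hc : Nat.card B₀ < n := by
      rw [← hn]
      exact lt_of_le_of_ne (Subgroup.card_le_of_le hlt.le) fun e =>
        hlt.ne (Subgroup.eq_of_le_of_card_ge hlt.le e.ge)
    have h1 := IH _ hc B₀ (hBp.to_le hB₀) rfl
    rwa [show B₀ ⊓ I = B ⊓ I from le_antisymm (inf_le_inf_right I hB₀) (le_inf hI0 inf_le_right)] at h1
  suffices hall : B ≤ I by rwa [inf_eq_left.2 hall]
  by_cases hb : B = ⊥
  · rw [hb]; exact bot_le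
  set J := ⁅B, B⁆
  haveI : J.Normal := Subgroup.commutator_normal B B
  have hJB : J ≤ B := Subgroup.commutator_le_self B
  have hJlt : Nat.card J < n := by
    rw [← hn]
    refine lt_of_le_of_ne (Subgroup.card_le_of_le hJB) fun e => ?_
    have he : J = B := Subgroup.eq_of_le_of_card_ge hJB e.ge
    haveI := hBp.isNilpotent
    haveI : Nontrivial B := (Subgroup.nontrivial_iff_ne_bot B).2 hb
    refine (Group.IsSolvable.commutator_lt_top_of_nontrivial B).ne
      (Subgroup.map_injective B.subtype_injective ?_)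
    rw [Subgroup.map_subtype_commutator, ← MonoidHom.range_eq_map, Subgroup.range_subtype]
    exact he
  set J₀ := J ⊓ I
  haveI hJ₀ : J₀.Normal := IH _ hJlt J (hBp.to_le hJB) rfl
  -- modulo `J₀` the subgroup is abelian
  have hJI : J ≤ I := by
    set f := QuotientGroup.mk' J₀
    have key : B.map f ≤ Subgroup.centralizer (B.map f : Set (G ⧸ J₀)) := by
      have h1 : (B ⊓ I).map f ≤ Subgroup.centralizer (B.map f : Set (G ⧸ J₀)) := by
        rintro _ ⟨x, hx, rfl⟩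
        refine Subgroup.mem_centralizer_iff.2 ?_
        rintro _ ⟨y, hy, rfl⟩
        rw [← commutatorElement_eq_one_iff_mul_comm, ← map_commutatorElement]
        refine (QuotientGroup.eq_one_iff _).2 ⟨Subgroup.commutator_mem_commutator hy hx.1, ?_⟩
        exact mul_mem ((Subgroup.mem_normalizer_iff.1 (hSI (hBS hy)) x).1 hx.2) (Subgroup.inv_mem _ hx.2)
      haveI : (B.map f).Normal := hBn.map f (QuotientGroup.mk'_surjective _)
      haveI : (Subgroup.centralizer (B.map f : Set (G ⧸ J₀))).Normal := Subgroup.normal_centralizer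
      have h2 : B₀ ≤ (Subgroup.centralizer (B.map f : Set (G ⧸ J₀))).comap f :=
        Subgroup.normalClosure_le_normal fun x hx => h1 ⟨x, hx, rfl⟩
      rw [heq] at h2
      rintro _ ⟨x, hx, rfl⟩
      exact h2 hx
    refine (Subgroup.commutator_le.2 fun x hx y hy => ?_ : J ≤ J₀).trans inf_le_right
    refine (QuotientGroup.eq_one_iff _).1 ?_
    show f ⁅x, y⁆ = 1
    rw [map_commutatorElement, commutatorElement_eq_one_iff_mul_comm]
    exact (Subgroup.mem_centralizer_iff.1 (key ⟨x, hx, rfl⟩) _ ⟨y, hy, rfl⟩).symm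
  have hclass : ⁅⁅B, B⁆, B⁆ = ⊥ := by
    rw [Subgroup.commutator_eq_bot_iff_le_centralizer]
    haveI : (Subgroup.centralizer (J : Set G)).Normal := Subgroup.normal_centralizer
    refine PLocal.le_centralizer_comm ?_
    refine heq.ge.trans (Subgroup.normalClosure_le_normal fun x hx => ?_)
    refine Subgroup.mem_centralizer_iff.2 fun y hy => ?_
    have hA := h.ne.some_mem
    exact (Subgroup.mem_centralizer_iff.1 ((h.ab _ hA).2 (mem_interOf.1 hx.2 _ hA)) y
      (mem_interOf.1 (hJI hy) _ hA))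
  intro b hb'
  refine mem_interOf.2 fun A₀ hA₀ => ?_
  by_contra hbA
  obtain ⟨A, hA, -, hBA, hBN⟩ := h.rep B hBS hclass
    ⟨A₀, hA₀, fun y hy => mem_interOf.1 (hJI hy) A₀ hA₀, fun hle => hbA (hle hb')⟩
  -- quadratic elements
  haveI : (Subgroup.centralizer (B : Set G)).Normal := Subgroup.normal_centralizer
  set C := Subgroup.centralizer (B : Set G)
  set g := QuotientGroup.mk' C
  haveI : (Cfsg.pCore p (G ⧸ C)).Normal := Cores.pCore_normal p _
  set D := (Cfsg.pCore p (G ⧸ C)).comap g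
  haveI : D.Normal := (inferInstance : (Cfsg.pCore p (G ⧸ C)).Normal).comap g
  have hAD : A ≤ D := fun a ha => hst B hBp a (quad_of_normalizes (h.ab A hA).2 hBN ha)
  set P₀ := (S : Subgroup G) ⊓ D
  have hP₀ : IsSylowIn p P₀ D :=
    (show IsSylowIn p (S : Subgroup G) ⊤ from
      ⟨le_top, S.isPGroup', fun X h1 _ h3 => S.3 h3 h1⟩).inf_normal le_top
      fun a _ v hv => (inferInstance : D.Normal).conj_mem v hv a
  have hCD : C ≤ D := fun c hc => by
    refine Subgroup.mem_comap.2 ?_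
    rw [show g c = 1 from (QuotientGroup.eq_one_iff c).2 hc]
    exact one_mem _
  have hDsup : ∀ d ∈ D, ∃ s ∈ P₀, ∃ c ∈ C, d = s * c := by
    intro d hd
    have himg := hP₀.image g
    have hle : D.map g ≤ P₀.map g := by
      refine (himg.2.2 (D.map g) (Subgroup.map_mono inf_le_right) le_rfl ?_).le
      exact (Cores.isPGroup_pCore p _).to_le (Subgroup.map_comap_le _ _)
    obtain ⟨s, hs, e⟩ := hle ⟨d, hd, rfl⟩
    exact ⟨s, hs, s⁻¹ * d, (QuotientGroup.eq).1 e, (mul_inv_cancel_left s d).symm⟩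
  have hfix : ∀ d ∈ D, ∀ x ∈ B ⊓ I, d * x * d⁻¹ ∈ B ⊓ I := by
    intro d hd x hx
    obtain ⟨s, hs, c, hc, rfl⟩ := hDsup d hd
    have e : c * x * c⁻¹ = x := by
      rw [← Subgroup.mem_centralizer_iff.1 hc x hx.1, mul_inv_cancel_right]
    rw [show s * c * x * (s * c)⁻¹ = s * (c * x * c⁻¹) * s⁻¹ by group, e]
    exact hBI s hs.1 x hx
  refine hBA (heq.ge.trans ?_)
  refine (Subgroup.closure_le (k := Group.conjugatesOfSet ((B ⊓ I : Subgroup G) : Set G)) A).2 ?_
  intro y hy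
  obtain ⟨x, hx, hxy⟩ := Group.mem_conjugatesOfSet_iff.1 hy
  obtain ⟨m, rfl⟩ := _root_.isConj_iff.1 hxy
  obtain ⟨d, hd, hconj⟩ := hP₀.exists_conj_le (H := P₀.map (MulAut.conj m).toMonoidHom)
    (hP₀.isPGroup.map _) (by
      rintro _ ⟨v, hv, rfl⟩
      exact (inferInstance : D.Normal).conj_mem v hv.2 m)
  have hk : d * m ∈ Subgroup.normalizer (P₀ : Set G) := by
    rw [PLocal.mem_normalizer_iff_map_eq]
    refine Subgroup.eq_of_le_of_card_ge ?_ (WCCenter.card_map_conj _ _).ge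
    rintro _ ⟨v, hv, rfl⟩
    have := hconj _ ⟨v, hv, rfl⟩
    show d * m * v * (d * m)⁻¹ ∈ P₀
    rw [show d * m * v * (d * m)⁻¹ = d * (m * v * m⁻¹) * d⁻¹ by group]
    exact this
  -- move by the element of `D` first
  have hd' : m⁻¹ * d⁻¹ * m ∈ D := by
    simpa using (inferInstance : D.Normal).conj_mem _ (inv_mem hd) m⁻¹
  have hx' := hfix _ hd' x hx
  have hfin := h.inv P₀ inf_le_left (d * m) hk _
    (fun A' hA' _ => mem_interOf.1 hx'.2 A' hA') A hA (le_inf (h.ab A hA).1 hAD)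
  rwa [show d * m * (m⁻¹ * d⁻¹ * m * x * (m⁻¹ * d⁻¹ * m)⁻¹) * (d * m)⁻¹ = m * x * m⁻¹ by group] at hfin

/-- The axioms pass to a subgroup containing the Sylow subgroup. -/
theorem Ax.subgroup {P : Subgroup G} {𝒜 : Set (Subgroup G)} (h : Ax P 𝒜) {M : Subgroup G}
    (hPM : P ≤ M) : Ax (P.subgroupOf M) {A : Subgroup M | A.map M.subtype ∈ 𝒜} := by
  have hinj := M.subtype_injective
  have hP : ∀ {Q : Subgroup M}, Q ≤ P.subgroupOf M → Q.map M.subtype ≤ P := fun hQ => by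
    rintro _ ⟨x, hx, rfl⟩
    exact hQ hx
  have hback : ∀ A ∈ 𝒜, (A.subgroupOf M).map M.subtype = A := fun A hA =>
    Subgroup.map_subgroupOf_eq_of_le ((h.ab A hA).1.trans hPM)
  refine ⟨fun A hA => ⟨fun x hx => (h.ab _ hA).1 ⟨x, hx, rfl⟩, fun x hx => ?_⟩,
    ⟨h.ne.some.subgroupOf M, by rw [Set.mem_ofPred_eq, hback _ h.ne.some_mem]; exact h.ne.some_mem⟩,
    fun Q hQ n hn x hx A hA hAQ => ?_, fun B hB hcl ⟨A, hA, h1, h2⟩ => ?_⟩
  · refine Subgroup.mem_centralizer_iff.2 fun y hy => hinj ?_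
    exact Subgroup.mem_centralizer_iff.1 ((h.ab _ hA).2 ⟨x, hx, rfl⟩) _ ⟨y, hy, rfl⟩
  · have hn' : (n : G) ∈ Subgroup.normalizer (Q.map M.subtype : Set G) :=
      Subgroup.le_normalizer_map M.subtype ⟨n, hn, rfl⟩
    obtain ⟨y, hy, e⟩ := h.inv _ (hP hQ) n hn' x (fun A' hA' hA'Q => by
      have hA'' : A'.subgroupOf M ≤ Q := fun z hz => by
        obtain ⟨w, hw, ew⟩ := hA'Q hz
        rwa [← hinj ew]
      exact hx (A'.subgroupOf M) (by rw [Set.mem_ofPred_eq, hback A' hA']; exact hA') hA'')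
      (A.map M.subtype) hA (Subgroup.map_mono hAQ)
    rwa [hinj (show M.subtype y = M.subtype (n * x * n⁻¹) from e)] at hy
  · obtain ⟨A', hA', g1, g2, g3⟩ := h.rep (B.map M.subtype) (hP hB)
      (by rw [← Subgroup.map_commutator, ← Subgroup.map_commutator, hcl, Subgroup.map_bot])
      ⟨_, hA, by rw [← Subgroup.map_commutator]; exact Subgroup.map_mono h1,
        fun h3 => h2 fun z hz => by
          obtain ⟨w, hw, ew⟩ := h3 ⟨z, hz, rfl⟩
          rwa [← hinj ew]⟩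
    refine ⟨A'.subgroupOf M, by rw [Set.mem_ofPred_eq, hback A' hA']; exact hA', fun z hz => ?_,
      fun h3 => g2 ?_, fun z hz => ?_⟩
    · refine g1 ?_
      rw [← Subgroup.map_commutator]
      exact ⟨z, hz, rfl⟩
    · rintro _ ⟨z, hz, rfl⟩
      exact h3 hz
    · exact Subgroup.mem_normalizer_iff.2 fun w =>
        Subgroup.mem_normalizer_iff.1 (g3 ⟨z, hz, rfl⟩) w

/-- The criterion in a group with `C(O_p) ≤ O_p`. -/
theorem hnpc_of_ax (hp : p ≠ 2) : ∀ (n : ℕ) (G : Type u) [Group G] [Finite G], Nat.card G = n →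
    Subgroup.centralizer ((Cfsg.pCore p G : Subgroup G) : Set G) ≤ Cfsg.pCore p G →
    ∀ (S : Sylow p G) (𝒜 : Set (Subgroup G)), Ax (S : Subgroup G) 𝒜 →
    HasNormalPComplement p (Subgroup.normalizer (interOf 𝒜 : Set G)) → HasNormalPComplement p G := by
  intro n
  induction n using Nat.strong_induction_on with
  | _ n IH =>
  intro G _ _ hn hC S 𝒜 h hN
  by_contra hno
  haveI : (Cfsg.pCore p G).Normal := Cores.pCore_normal p G
  set O := Cfsg.pCore p G
  have hOS : O ≤ (S : Subgroup G) := Cores.pCore_le_sylow S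
  have hle : ∀ M : Subgroup G, (S : Subgroup G) ≤ M → M ≠ ⊤ → HasNormalPComplement p M := by
    intro M hSM hM
    refine IH (Nat.card M) (hn ▸ PLocal.card_subgroup_lt hM) M rfl ?_ (S.subtype hSM) _
      (h.subgroup hSM) ?_
    · have hOM : O.subgroupOf M ≤ Cfsg.pCore p M :=
        Cores.le_pCore inferInstance ((Cores.isPGroup_pCore p G).comap_of_injective _ M.subtype_injective)
      intro m hm
      refine hOM (Subgroup.mem_subgroupOf.2 (hC (Subgroup.mem_centralizer_iff.2 fun v hv => ?_)))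
      exact congrArg Subtype.val (Subgroup.mem_centralizer_iff.1 hm ⟨v, hSM (hOS hv)⟩ (hOM hv))
    · have hI : (interOf {A : Subgroup M | A.map M.subtype ∈ 𝒜}) = (interOf 𝒜).subgroupOf M := by
        ext x
        rw [mem_interOf, Subgroup.mem_subgroupOf, mem_interOf]
        constructor
        · intro hx A hA
          exact hx (A.subgroupOf M) (by
            rw [Set.mem_ofPred_eq, Subgroup.map_subgroupOf_eq_of_le ((h.ab A hA).1.trans hSM)]; exact hA)
        · intro hx A hA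
          obtain ⟨y, hy, e⟩ := hx _ hA
          rwa [← M.subtype_injective e]
      set J := interOf {A : Subgroup M | A.map M.subtype ∈ 𝒜}
      have hJmap : J.map M.subtype = interOf 𝒜 := by
        rw [hI, Subgroup.map_subgroupOf_eq_of_le (h.inter_le.trans hSM)]
      refine Transfer.hasNormalPComplement_of_injective hN
        ((M.subtype.comp (Subgroup.normalizer (J : Set M)).subtype).codRestrict _ fun x => ?_)
        fun a b hab => Subtype.ext (Subtype.ext (congrArg Subtype.val hab :))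
      rw [← hJmap]
      exact Subgroup.le_normalizer_map M.subtype ⟨x, x.2, rfl⟩
  have hH : O ≠ ⊥ := fun e => by
    refine hno (Transfer.hasNormalPComplement_of_isPGroup fun g => ⟨0, ?_⟩)
    have h1 : g ∈ O := hC (Subgroup.mem_centralizer_iff.2 fun v hv => by
      rw [show v = 1 from Subgroup.mem_bot.1 (e.le hv), mul_one, one_mul])
    rw [Subgroup.mem_bot.1 (e.le h1), one_pow]
  have hO : Cfsg.pPrimeCore p G = ⊥ := by
    haveI := Cores.pPrimeCore_normal p G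
    have hd : Disjoint (Cfsg.pPrimeCore p G) O := by
      rw [disjoint_iff]
      obtain ⟨j, hj⟩ := IsPGroup.iff_card.1 (Cores.isPGroup_pCore p G)
      exact Subgroup.inf_eq_bot_of_coprime (by
        rw [show Nat.card O = p ^ j from hj]
        exact (Cores.coprime_card_pPrimeCore p).pow_right j)
    refine hd.eq_bot_of_le (le_trans (fun k hk => ?_) hC)
    exact Subgroup.mem_centralizer_iff.2 fun o ho =>
      (Subgroup.commute_of_normal_of_disjoint _ O inferInstance inferInstance hd k o hk ho).symm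
  have hquo : HasNormalPComplement p (G ⧸ O) := by
    set f := QuotientGroup.mk' O
    have hf := QuotientGroup.mk'_surjective O
    let Sb : Sylow p (G ⧸ O) := S.mapSurjective hf
    by_cases hSb : (Sb : Subgroup (G ⧸ O)) = ⊥
    · exact Transfer.hasNormalPComplement_of_not_dvd fun hd => Sb.ne_bot_of_dvd_card hd hSb
    have hloc : ∀ X : Subgroup (G ⧸ O), X ≤ (Sb : Subgroup (G ⧸ O)) → X ≠ ⊥ →
        Subgroup.normalizer ((Sb : Subgroup (G ⧸ O)) : Set (G ⧸ O)) ≤
          Subgroup.normalizer (X : Set (G ⧸ O)) →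
        HasNormalPComplement p (Subgroup.normalizer (X : Set (G ⧸ O))) := by
      intro X hX hXne hXN
      have hSX : (S : Subgroup G) ≤ (Subgroup.normalizer (X : Set (G ⧸ O))).comap f := by
        refine Subgroup.map_le_iff_le_comap.1 ?_
        rw [← Sylow.coe_mapSurjective hf S]
        exact Subgroup.le_normalizer.trans hXN
      have hne : (Subgroup.normalizer (X : Set (G ⧸ O))).comap f ≠ ⊤ := by
        intro e
        have hn' : Subgroup.normalizer (X : Set (G ⧸ O)) = ⊤ :=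
          Subgroup.comap_injective hf (e.trans (Subgroup.comap_top f).symm)
        refine hXne (le_bot_iff.1 ?_)
        have h1 := Cores.le_pCore (Subgroup.normalizer_eq_top_iff.1 hn') (Sb.2.to_le hX)
        rwa [Cores.pCore_quotient_self] at h1
      exact Transfer.hasNormalPComplement_of_surjective (hle _ hSX hne) _
        (f.subgroupComap_surjective_of_surjective _ hf)
    refine S2800.main Sb (Or.inl hp) ⟨hloc _ (PLocal.thompsonSubgroupAOf_le _)
      (thompsonA_ne_bot Sb.2 hSb) (PLocal.normalizer_le_normalizer_thompsonSubgroupAOf _),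
      PLocal.hnpc_of_le (Subgroup.centralizer_le_normalizer _) (hloc _ inf_le_left
        (center_ne_bot Sb.2 hSb) (le_normalizer_of_functorial
          (fun {X} [Group X] K => K ⊓ Subgroup.centralizer (K : Set X))
          (fun f K hf => PLocal.map_inf_centralizer_self f hf) _))⟩
  obtain ⟨H, R, hHn, -, hHp, hab, -, hq⟩ := (PLocal.reduced_of_quotient S hno hle hH hO hquo).shape
  have hT2 : ∀ T : Sylow 2 G, IsMulCommutative T := fun T => by
    have htwo : ∀ x ∈ (T : Subgroup G), ∀ k : ℕ, x ^ p ^ k = 1 → x = 1 := fun x hx k hk => by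
      obtain ⟨j, hj⟩ := T.isPGroup' ⟨x, hx⟩
      have h1 : orderOf x ∣ 2 ^ j := orderOf_dvd_of_pow_eq_one (congrArg Subtype.val hj)
      have h2 : orderOf x ∣ p ^ k := orderOf_dvd_of_pow_eq_one hk
      exact orderOf_eq_one_iff.1 (Nat.eq_one_of_dvd_coprimes
        (((Nat.coprime_primes Nat.prime_two Fact.out).2 (Ne.symm hp)).pow j k) h1 h2)
    have hTR : ∀ t ∈ (T : Subgroup G), t ∈ R := by
      intro t ht
      obtain ⟨k, hk⟩ := hq t
      obtain ⟨j, hj⟩ := T.isPGroup' ⟨t, ht⟩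
      have h1 : t ^ 2 ^ j = 1 := congrArg Subtype.val hj
      have h2 := FusionNormal.pow_gcd_mem hk h1
      rwa [(((Nat.coprime_primes Fact.out Nat.prime_two).2 hp).pow k j).gcd_eq_one, pow_one] at h2
    refine ⟨⟨fun a b => Subtype.ext ?_⟩⟩
    show (a : G) * b = b * a
    rw [← commutatorElement_eq_one_iff_mul_comm]
    obtain ⟨k, hk⟩ := hHp ⟨_, hab a (hTR a a.2) b (hTR b b.2)⟩
    refine htwo _ ?_ k (congrArg Subtype.val hk)
    exact mul_mem (mul_mem (mul_mem a.2 b.2) (inv_mem a.2)) (inv_mem b.2)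
  have hst : ∀ (B : Subgroup G) [B.Normal], IsPGroup p B → Cfsg.IsPStableOn p B := fun B _ hB =>
    PLocal.pStableOn_of_abelian_sylow_two hp hT2 B hB
  have hIO : interOf 𝒜 ≤ O := by
    intro i hi
    have hI2 : interOf 𝒜 ≤ Subgroup.centralizer (interOf 𝒜 : Set G) := fun x hx =>
      Subgroup.mem_centralizer_iff.2 fun y hy =>
        Subgroup.mem_centralizer_iff.1 ((h.ab _ h.ne.some_mem).2 (mem_interOf.1 hx _ h.ne.some_mem))
          y (mem_interOf.1 hy _ h.ne.some_mem)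
    have h1 := hst O (Cores.isPGroup_pCore p G) i (quad_of_normalizes hI2
      (hOS.trans (Subgroup.le_normalizer.trans h.normalizer_le)) hi)
    set g := QuotientGroup.mk' (Subgroup.centralizer (O : Set G))
    have hker : IsPGroup p g.ker := by
      rw [QuotientGroup.ker_mk']
      exact (Cores.isPGroup_pCore p G).to_le hC
    exact Cores.le_pCore (N := (Cfsg.pCore p _).comap g) ((Cores.pCore_normal p _).comap g)
      ((Cores.isPGroup_pCore p _).comap_of_ker_isPGroup g hker) h1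
  have hIn := inter_normal S h hst _ O (Cores.isPGroup_pCore p G) rfl
  rw [inf_eq_right.2 hIO] at hIn
  exact hno (PLocal.hnpc_of_normal_normalizer hIn hN)

variable {Ω : Type u} [Group Ω] {S : Subgroup Ω}

/-- The criterion for fusion systems. -/
theorem pAut_of_ax [Finite S] (hS : IsPGroup p S) (hp : p ≠ 2) (𝒜 : Set (Subgroup Ω))
    (h𝒜 : ∀ A ∈ 𝒜, A ≤ S ∧ A ≤ Subgroup.centralizer (A : Set Ω)) (hne : 𝒜.Nonempty)
    (hrep : ∀ B : Subgroup Ω, B ≤ S → ⁅⁅B, B⁆, B⁆ = ⊥ → (∃ A ∈ 𝒜, ⁅B, B⁆ ≤ A ∧ ¬ B ≤ A) →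
      ∃ A ∈ 𝒜, ⁅B, B⁆ ≤ A ∧ ¬ B ≤ A ∧ B ≤ Subgroup.normalizer (A : Set Ω)) :
    ∀ F : FusionSystem S, F.IsSaturated p →
      (∀ Q : Subgroup Ω, Q ≤ S → ∀ α ∈ F.autGroup Q, ∀ x : Q,
        (∀ A ∈ 𝒜, A ≤ Q → (x : Ω) ∈ A) → ∀ A ∈ 𝒜, A ≤ Q → ((α x : Q) : Ω) ∈ A) →
      NPAut p F (interOf 𝒜) → PAut p F := by
  intro F
  induction hm : (graphs F).ncard using Nat.strong_induction_on generalizing F with
  | _ m IH =>
  intro hF hinv hN
  by_contra hno
  have hc : F.IsConstrained p := by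
    refine (thompsonCrit.{u} p).isConstrained_of_minimal
      (fun Ω' _ S' _ F' hS' hF' hOk hH => pAut_of_thompson hS' hF' hOk hH.1 hH.2) hS hF (Or.inl hp)
      hno fun E hEs hsub hnsub => ?_
    refine IH _ (hm ▸ graphs_lt hsub hnsub) E rfl hEs (fun Q hQ α hα => ?_) (hN.sub hsub)
    exact hinv Q hQ α (autGroup_sub hsub hQ hα)
  have hnc := nc_core hS hc
  have hm' := hnc.isModel_emb
  obtain ⟨hfin, hι, ⟨T, hT⟩, hC⟩ := hnc.isModel_emb
  set ι := hnc.emb
  set 𝒜' : Set (Subgroup hnc.Mdl) := (fun A : Subgroup Ω => (A.subgroupOf S).map ι) '' 𝒜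
  have hmem : ∀ {A : Subgroup Ω} {x : S}, ι x ∈ (A.subgroupOf S).map ι ↔ (x : Ω) ∈ A :=
    fun {A x} => ⟨fun ⟨y, hy, e⟩ => by rw [← hι.1 e]; exact hy, fun hx => ⟨x, hx, rfl⟩⟩
  have hI : interOf 𝒜' = ((interOf 𝒜).subgroupOf S).map ι := by
    ext y
    rw [mem_interOf]
    constructor
    · intro hy
      obtain ⟨x, -, rfl⟩ := hy _ ⟨_, hne.some_mem, rfl⟩
      refine ⟨x, mem_interOf.2 fun A hA => hmem.1 (hy _ ⟨A, hA, rfl⟩), rfl⟩
    · rintro ⟨x, hx, rfl⟩ _ ⟨A, hA, rfl⟩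
      exact hmem.2 (mem_interOf.1 hx A hA)
  have hax : Ax (T : Subgroup hnc.Mdl) 𝒜' := by
    rw [hT]
    refine ⟨?_, hne.image _, ?_, ?_⟩
    · rintro _ ⟨A, hA, rfl⟩
      refine ⟨subgroupOf_map_le ι A, ?_⟩
      rintro _ ⟨x, hx, rfl⟩
      refine Subgroup.mem_centralizer_iff.2 ?_
      rintro _ ⟨y, hy, rfl⟩
      rw [← map_mul, ← map_mul]
      exact congrArg ι (Subtype.ext (Subgroup.mem_centralizer_iff.1 ((h𝒜 A hA).2 hx) _ hy))
    · rintro Q hQ n hn x hx _ ⟨A, hA, rfl⟩ hAQ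
      set Q₀ := pre ι Q
      have hQ₀ : Q₀ ≤ S := Subgroup.map_subtype_le _
      have hnQ : ∀ (y : Ω) (hy : y ∈ Q₀), n * ι ⟨y, hQ₀ hy⟩ * n⁻¹ ∈ Q := fun y hy =>
        (Subgroup.mem_normalizer_iff.1 hn _).1 (mem_pre.1 hy).2
      obtain ⟨g, hg, hgn⟩ := conj_map hι hQ₀ n fun y hy => hQ (hnQ y hy)
      have hgQ : ∀ y ∈ Q₀, g y ∈ Q₀ := fun y hy => by
        obtain ⟨hgy, e⟩ := hgn y hy
        exact mem_pre.2 ⟨hgy, e ▸ hnQ y hy⟩
      obtain ⟨α, hα, hαg⟩ := exists_aut_of_isIso (F := F) (f := g) (P := Q₀)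
        ⟨hg, eq_of_le_of_card hQ₀ (hg.img_le le_rfl hgQ) (hg.card_img le_rfl).ge⟩
      have hA0 : A ≤ Q₀ := fun a ha => mem_pre.2 ⟨(h𝒜 A hA).1 ha, hAQ (hmem.2 ha)⟩
      obtain ⟨x', -, rfl⟩ := hx _ ⟨A, hA, rfl⟩ hAQ
      have hx' : ∀ A' ∈ 𝒜, A' ≤ Q₀ → (x' : Ω) ∈ A' := fun A' hA' hA'Q => hmem.1 (hx _ ⟨A', hA', rfl⟩
        (by rintro _ ⟨a, ha, rfl⟩; exact (mem_pre.1 (hA'Q ha)).2))
      have hxQ : (x' : Ω) ∈ Q₀ := hA0 (hx' A hA hA0)
      have h1 := hinv Q₀ hQ₀ α hα ⟨x', hxQ⟩ hx' A hA hA0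
      rw [hαg] at h1
      obtain ⟨hgS, e⟩ := hgn _ hxQ
      rw [← e]
      exact hmem.2 h1
    · rintro B hB hcl ⟨_, ⟨A, hA, rfl⟩, h1, h2⟩
      set B₀ := B.comap ι
      have hBm : B₀.map ι = B := Subgroup.map_comap_eq_self hB
      have hB₀S : B₀.map S.subtype ≤ S := Subgroup.map_subtype_le _
      have hcomm : (⁅B₀, B₀⁆).map ι = ⁅B, B⁆ := by rw [Subgroup.map_commutator, hBm]
      obtain ⟨A', hA', g1, g2, g3⟩ := hrep (B₀.map S.subtype) hB₀S (by
        rw [← Subgroup.map_commutator, ← Subgroup.map_commutator,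
          show ⁅⁅B₀, B₀⁆, B₀⁆ = ⊥ from (Subgroup.map_eq_bot_iff_of_injective _ hι.1).1 (by
            rw [Subgroup.map_commutator, hcomm, hBm, hcl]), Subgroup.map_bot])
        ⟨A, hA, by
          rw [← Subgroup.map_commutator]
          rintro _ ⟨z, hz, rfl⟩
          exact hmem.1 (h1 (hcomm ▸ ⟨z, hz, rfl⟩)), fun h3 => h2 (by
          rw [← hBm]
          rintro _ ⟨z, hz, rfl⟩
          exact hmem.2 (h3 ⟨z, hz, rfl⟩))⟩
      refine ⟨_, ⟨A', hA', rfl⟩, ?_, fun h3 => g2 ?_, ?_⟩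
      · rw [← hcomm]
        rintro _ ⟨z, hz, rfl⟩
        refine hmem.2 (g1 ?_)
        rw [← Subgroup.map_commutator]
        exact ⟨z, hz, rfl⟩
      · rintro _ ⟨z, hz, rfl⟩
        exact hmem.1 (h3 (hBm ▸ ⟨z, hz, rfl⟩))
      · rw [← hBm]
        rintro _ ⟨z, hz, rfl⟩
        refine Subgroup.le_normalizer_map ι ⟨z, ?_, rfl⟩
        exact Subgroup.mem_normalizer_iff.2 fun w =>
          Subgroup.mem_normalizer_iff.1 (g3 ⟨z, hz, rfl⟩) w
  haveI := hfin
  refine hno (pAut_of_model_hnpc hS hm' (hnpc_of_ax hp _ _ rfl hC T 𝒜' hax ?_))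
  rw [hI]
  have hIS : interOf 𝒜 ≤ S := fun x hx =>
    (h𝒜 _ hne.some_mem).1 (mem_interOf.1 hx _ hne.some_mem)
  refine hnpc_normalizer_of_npaut hι ⟨T, hT⟩ hIS (fun s hs => ?_) hN
  haveI : Finite (interOf 𝒜 : Subgroup Ω) := finite_of_le hIS
  refine (mem_normalizerIn_of_conj (S := S) hs fun x hx => ?_).2
  obtain ⟨α, hα, e⟩ := exists_aut_of_isIso (F := F) (f := fun y => s * y * s⁻¹) (P := S)
    ⟨IsMap.conj le_rfl hs, eq_of_le_of_card le_rfl ((IsMap.conj (F := F) le_rfl hs).img_le le_rfl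
      fun y hy => mul_mem (mul_mem hs hy) (inv_mem hs)) ((IsMap.conj (F := F) le_rfl hs).card_img le_rfl).ge⟩
  refine mem_interOf.2 fun A hA => ?_
  have h1 := hinv S le_rfl α hα ⟨x, hIS hx⟩ (fun A' hA' _ => mem_interOf.1 hx A' hA') A hA (h𝒜 A hA).1
  rwa [e] at h1

end Cfsg.Agent.Fusion
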