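import Cfsg.Agent.Lib.Fusion.CenterLocal

/-
Functors on finite p-groups and the centre of a fusion system.
Main results: `wsub`, `wsub_map`, `wsub_range`, `normalizer_le_wsub`, `mem_center_of_functor`,
`exists_pow_of_mem_closure`.
-/

set_option autoImplicit false

namespace Cfsg.Agent.Fusion

open Cfsg Cfsg.FusionSystem

universe u

variable {Ω : Type u} [Group Ω] {S : Subgroup Ω} {F : FusionSystem S} {p : ℕ}

/-- The subgroup of the ambient group given by a functor. -/
def wsub (W : ∀ (Q : Type u) [Group Q], Subgroup Q) {X : Type u} [Group X] (T : Subgroup X) :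
    Subgroup X := (W ↥T).map T.subtype

variable (W : ∀ (Q : Type u) [Group Q], Subgroup Q)
  (hW2 : ∀ (Q R : Type u) [Group Q] [Group R] [Finite Q], IsPGroup p Q → ∀ φ : Q ≃* R,
    (W Q).map φ.toMonoidHom = W R)

include hW2 in
theorem wsub_map {X Y : Type u} [Group X] [Group Y] {T : Subgroup X} [Finite T]
    (hT : IsPGroup p T) (f : X →* Y) (hf : Set.InjOn f (T : Set X)) :
    (wsub W T).map f = wsub W (T.map f) := by
  have hb : Function.Bijective (f.subgroupMap T) :=
    ⟨fun a b e => Subtype.ext (hf a.2 b.2 (congrArg Subtype.val e)), f.subgroupMap_surjective T⟩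
  rw [wsub, wsub, ← hW2 ↥T ↥(T.map f) hT (MulEquiv.ofBijective _ hb), Subgroup.map_map,
    Subgroup.map_map]
  rfl

include hW2 in
/-- The image of the functorial subgroup under an injective homomorphism of the group. -/
theorem wsub_range {T : Subgroup Ω} [Finite T] (hT : IsPGroup p T) {L : Type u} [Group L]
    (ι : T →* L) (hι : Function.Injective ι) :
    ((wsub W T).subgroupOf T).map ι = wsub W ι.range := by
  have h1 : (wsub W T).subgroupOf T = W ↥T :=
    Subgroup.comap_map_eq_self_of_injective T.subtype_injective _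
  rw [h1, wsub, ← hW2 ↥T ↥ι.range hT (MonoidHom.ofInjective hι), Subgroup.map_map]
  rfl

theorem wsub_le {X : Type u} [Group X] (T : Subgroup X) : wsub W T ≤ T := Subgroup.map_subtype_le _

include hW2 in
theorem normalizer_le_wsub {T : Subgroup Ω} [Finite T] (hT : IsPGroup p T) :
    Subgroup.normalizer (T : Set Ω) ≤ Subgroup.normalizer (wsub W T : Set Ω) := fun g hg => by
  rw [PLocal.mem_normalizer_iff_map_eq] at hg ⊢
  rw [wsub_map W hW2 hT _ (MulAut.conj g).injective.injOn, hg]

theorem center_mem_wsub {T : Subgroup Ω} (hWZ : Subgroup.center ↥T ≤ W ↥T) {x : Ω} (hx : x ∈ T)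
    (hc : ∀ t ∈ T, t * x = x * t) : x ∈ wsub W T :=
  ⟨⟨x, hx⟩, hWZ (Subgroup.mem_center_iff.2 fun t => Subtype.ext (hc t t.2)), rfl⟩

/-- The elements of the closure of the `p`-th powers of an abelian group are `p`-th powers. -/
theorem exists_pow_of_mem_closure {A : Subgroup Ω} (hA : ∀ a ∈ A, ∀ b ∈ A, a * b = b * a) {x : Ω}
    (hx : x ∈ Subgroup.closure ((fun z : Ω => z ^ p) '' (A : Set Ω))) : ∃ z ∈ A, z ^ p = x := by
  induction hx using Subgroup.closure_induction with
  | mem y hy => exact hy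
  | one => exact ⟨1, A.one_mem, one_pow _⟩
  | mul a b _ _ ha hb =>
    obtain ⟨u, hu, rfl⟩ := ha
    obtain ⟨v, hv, rfl⟩ := hb
    exact ⟨u * v, A.mul_mem hu hv, Commute.mul_pow (hA u hu v hv) p⟩
  | inv a _ ha =>
    obtain ⟨u, hu, rfl⟩ := ha
    exact ⟨u⁻¹, A.inv_mem hu, inv_pow u p⟩

theorem central_comm {a b : Ω} (ha : a ∈ S ⊓ Subgroup.centralizer (S : Set Ω))
    (hb : b ∈ S ⊓ Subgroup.centralizer (S : Set Ω)) : a * b = b * a :=
  (Subgroup.mem_centralizer_iff.1 hb.2 a ha.1)

/-- Elements of the centre of a normalizer system are fixed by the maps keeping the subgroup. -/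
theorem fix_of_mem_normalizer_center [Finite S] {X : Subgroup Ω} (hX : X ≤ S)
    (hn : normalizerIn S X = S) {N : FusionSystem (normalizerIn S X)}
    (hN : F.IsNormalizerSystem X N) {x : Ω} (hxN : x ∈ N.center) (hxX : x ∈ X) {f : Ω → Ω}
    (hf : IsMap F X f) (hfX : ∀ y ∈ X, f y ∈ X) : f x = x :=
  fix_of_mem_center hxN ((isMap_normalizer_iff hX hN).2 ⟨hn.symm ▸ hX,
    fun y hy => hn.symm ▸ hf.mem hy, f, (sup_idem X).symm ▸ hf, fun _ _ => rfl, hfX⟩) hxX

theorem mem_center_of_normalizer_center [Finite S] {X : Subgroup Ω}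
    (hn : normalizerIn S X = S) {N : FusionSystem (normalizerIn S X)} {x : Ω}
    (hxN : x ∈ N.center) : x ∈ S ⊓ Subgroup.centralizer (S : Set Ω) := by
  have := mem_center_centralizer hxN
  rwa [hn] at this

include hW2 in
/-- The functorial form of the local detection of the centre. -/
theorem mem_center_of_functor [Finite S] [Fact p.Prime] (hS : IsPGroup p S) (hF : F.IsSaturated p)
    (hWZ : ∀ (Q : Type u) [Group Q] [Finite Q], IsPGroup p Q → Subgroup.center Q ≤ W Q)
    {N : FusionSystem (normalizerIn S (wsub W S))} (hN : F.IsNormalizerSystem (wsub W S) N)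
    {x : Ω} (hxN : x ∈ N.center)
    (hloc : ∀ (L : Type u) [Group L] [Finite L] (P : Sylow p L) (y : L),
      Subgroup.centralizer ((Cfsg.pCore p L : Subgroup L) : Set L) ≤ Cfsg.pCore p L →
      y ∈ Cfsg.pCore p L → (∀ s ∈ (P : Subgroup L), s * y = y * s) →
      (∀ n ∈ Subgroup.normalizer ((wsub W (P : Subgroup L) : Subgroup L) : Set L), n * y * n⁻¹ = y) →
      (∀ z : Ω, z ∈ S ⊓ Subgroup.centralizer (S : Set Ω) → z ^ p = x →
        ∃ w ∈ (P : Subgroup L), (∀ s ∈ (P : Subgroup L), s * w = w * s) ∧ w ^ p = y) →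
      (∀ (H : Type) [Group H], F.IsSectionFree p H → ¬ Cfsg.Involves H L) →
      ∀ g : L, g * y * g⁻¹ = y) : x ∈ F.center := by
  have hn : normalizerIn S (wsub W S) = S := inf_eq_left.2
    (Subgroup.le_normalizer.trans (normalizer_le_wsub W hW2 hS))
  have hx := mem_center_of_normalizer_center hn hxN
  have hxW : ∀ T, T ≤ S → x ∈ T → x ∈ wsub W T := fun T hT hxT => by
    have := finite_of_le hT
    exact center_mem_wsub W (hWZ ↥T (hS.to_le hT)) hxT
      fun t ht => Subgroup.mem_centralizer_iff.1 hx.2 t (hT ht)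
  refine mem_center_of_local hS hF hx (fun T => wsub W T) (fun T _ => wsub_le W T) hxW
    (fun T hT => ?_) (fun f hf hfW => fix_of_mem_normalizer_center (wsub_le W S) hn hN hxN
      (hxW S le_rfl hx.1) hf hfW) ?_
  · have := finite_of_le hT
    exact inf_le_right.trans (normalizer_le_wsub W hW2 (hS.to_le hT))
  · intro U hU hc E hE L _ ι hM hxT hxO hnW g
    have hsec := fun (H : Type) [Group H] (h : F.IsSectionFree p H) => h U hU hc E hE L ι hM
    obtain ⟨hfin, hι, ⟨P, hP⟩, hCL⟩ := hM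
    have hTS : normalizerIn S U ≤ S := inf_le_left
    have := finite_of_le hTS
    rw [wsub_range W hW2 (hS.to_le hTS) ι hι.1, ← hP] at hnW
    have hcomm : ∀ (z : Ω) (hz : z ∈ normalizerIn S U), z ∈ Subgroup.centralizer (S : Set Ω) →
        ∀ s ∈ (P : Subgroup L), s * ι ⟨z, hz⟩ = ι ⟨z, hz⟩ * s := by
      intro z hz hzc s hs
      rw [hP] at hs
      obtain ⟨t, rfl⟩ := hs
      rw [← map_mul, ← map_mul]
      exact congrArg ι (Subtype.ext (Subgroup.mem_centralizer_iff.1 hzc t (hTS t.2)))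
    refine hloc L P _ hCL hxO (hcomm x hxT hx.2) hnW (fun z hz hzx => ?_) hsec g
    have hzT : z ∈ normalizerIn S U := centralizerIn_le_normalizerIn S U
      ⟨hz.1, Subgroup.centralizer_le (SetLike.coe_subset_coe.2 hU.1) hz.2⟩
    refine ⟨ι ⟨z, hzT⟩, hP.symm ▸ ⟨_, rfl⟩, hcomm z hzT hz.2, ?_⟩
    rw [← map_pow]
    exact congrArg ι (Subtype.ext hzx)

end Cfsg.Agent.Fusion
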