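import Cfsg.Agent.Lib.Fusion.Reduction
import Cfsg.Agent.Lib.Transfer.Alperin
import Cfsg.Agent.Lib.PLocal.Functor

/-
From p-group automizers in a realized system to normal p-complements and back.
Main results: `conj_map`, `hnpc_of_local`, `hnpc_normalizer_of_npaut`, `hnpc_centralizer_of_cpaut`,
`pAut_of_model_hnpc`, `subgroupOf_map_eq`, `le_normalizer_of_functorial`.
-/

set_option autoImplicit false

open scoped Classical

namespace Cfsg.Agent.Fusion

open Cfsg Cfsg.FusionSystem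

universe u v

variable {Ω : Type u} [Group Ω] {S : Subgroup Ω} {F : FusionSystem S} {G : Type v} [Group G]
  {ι : S →* G} {p : ℕ}

theorem map_pre (R : Subgroup G) (hR : R ≤ ι.range) : ((pre ι R).subgroupOf S).map ι = R := by
  rw [pre, Subgroup.subgroupOf, Subgroup.comap_map_eq_self_of_injective S.subtype_injective,
    Subgroup.map_comap_eq, inf_eq_right.2 hR]

theorem mem_map_subgroupOf {W : Subgroup Ω} {y : G} :
    y ∈ (W.subgroupOf S).map ι ↔ ∃ h : S, (h : Ω) ∈ W ∧ ι h = y := Iff.rfl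

theorem subgroupOf_map_le (ι : S →* G) (W : Subgroup Ω) : (W.subgroupOf S).map ι ≤ ι.range := by
  rintro _ ⟨x, -, rfl⟩
  exact ⟨x, rfl⟩

/-- Conjugation by an element of the realizing group gives a map of the system. -/
theorem conj_map (hι : F.IsRealizedBy ι) {P : Subgroup Ω} (hP : P ≤ S) (n : G)
    (hn : ∀ (x : Ω) (hx : x ∈ P), n * ι ⟨x, hP hx⟩ * n⁻¹ ∈ ι.range) :
    ∃ f, IsMap F P f ∧ ∀ (x : Ω) (hx : x ∈ P), ∃ h : f x ∈ S,
      ι ⟨f x, h⟩ = n * ι ⟨x, hP hx⟩ * n⁻¹ := by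
  choose s hs using hn
  set f : Ω → Ω := fun x => if hx : x ∈ P then (s x hx : Ω) else 1 with hf
  have hf' : ∀ (x : Ω) (hx : x ∈ P), f x = s x hx := fun x hx => dif_pos hx
  refine ⟨f, (isMap_realized_iff hι hP (fun x hx => hf' x hx ▸ Subtype.mem _)
    fun x hx y hy => ?_).2 ⟨n, fun x hx => ?_⟩, fun x hx => ?_⟩
  · rw [hf' _ (mul_mem hx hy), hf' x hx, hf' y hy, ← Subgroup.coe_mul]
    refine congrArg Subtype.val (hι.1 ?_)
    rw [map_mul ι (s x hx), hs, hs, hs,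
      show (⟨x * y, hP (mul_mem hx hy)⟩ : S) = ⟨x, hP hx⟩ * ⟨y, hP hy⟩ from rfl, map_mul]
    group
  · simp only [hf' x hx, Subtype.coe_eta, hs]
  · exact ⟨hf' x hx ▸ Subtype.mem _, by simp only [hf' x hx, Subtype.coe_eta, hs]⟩

section Local

variable [Finite S] [Finite G] [Fact p.Prime] (hι : F.IsRealizedBy ι)
  (hT : ∃ T : Sylow p G, (T : Subgroup G) = ι.range)
include hι hT

/-- A local criterion for the normal `p`-complement of a subgroup containing the Sylow subgroup. -/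
theorem hnpc_of_local (M : Subgroup G) (hM : ι.range ≤ M) {W : Subgroup Ω} (hW : W ≤ S)
    (hMW : ∀ n ∈ M, ∀ w : S, (w : Ω) ∈ W → n * ι w * n⁻¹ ∈ (W.subgroupOf S).map ι)
    (H : ∀ A : Subgroup Ω, A ≤ S → ∀ α ∈ F.autGroup A, ∀ g : Ω → Ω, IsMap F (A ⊔ W) g →
      (∀ x ∈ A, g x = autFn α x) → (∀ w ∈ W, g w ∈ W) →
      (∃ n ∈ M, ∀ (w : Ω) (hw : w ∈ W), ∃ h : g w ∈ S, ι ⟨g w, h⟩ = n * ι ⟨w, hW hw⟩ * n⁻¹) →
      ∃ k, α ^ p ^ k = 1) :
    HasNormalPComplement p M := by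
  obtain ⟨T, hT⟩ := hT
  have hTM : (T : Subgroup G) ≤ M := hT ▸ hM
  refine Transfer.hasNormalPComplement_of_local (T.subtype hTM) fun R hR _ n hn hco => ?_
  set R' := R.map M.subtype
  have hR' : R' ≤ ι.range := hT ▸ fun y hy => by
    obtain ⟨r, hr, rfl⟩ := hy
    exact hR.1 hr
  set A := pre ι R'
  have hA : A ≤ S := Subgroup.map_subtype_le _
  have hAW : A ⊔ W ≤ S := sup_le hA hW
  have hmA : ∀ x : S, (x : Ω) ∈ A → ∀ n' : M, n' ∈ Subgroup.normalizer (R : Set M) →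
      ((n' : G) * ι x * (n' : G)⁻¹) ∈ R' := by
    intro x hx n' hn'
    obtain ⟨r, hr, e⟩ := (mem_pre.1 hx).2
    exact ⟨n' * r * n'⁻¹, (Subgroup.mem_normalizer_iff.1 hn' r).1 hr, by simp [← e]⟩
  have hrange : ∀ (x : Ω) (hx : x ∈ A ⊔ W),
      (n : G) * ι ⟨x, hAW hx⟩ * (n : G)⁻¹ ∈ ι.range := by
    intro x hx
    have hle : A ⊔ W ≤ (ι.range.comap ((MulAut.conj (n : G)).toMonoidHom.comp ι)).map S.subtype := by
      refine sup_le (fun y hy => ?_) fun y hy => ?_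
      · exact ⟨⟨y, hA hy⟩, hR' (hmA ⟨y, hA hy⟩ hy n hn), rfl⟩
      · exact ⟨⟨y, hW hy⟩, subgroupOf_map_le ι W (hMW _ n.2 ⟨y, hW hy⟩ hy), rfl⟩
    obtain ⟨⟨y, hyS⟩, hy, rfl⟩ := hle hx
    exact hy
  obtain ⟨g, hg, hge⟩ := conj_map hι hAW (n : G) hrange
  have hgA : ∀ x ∈ A, g x ∈ A := fun x hx => by
    obtain ⟨h, e⟩ := hge x (Subgroup.mem_sup_left hx)
    exact mem_pre.2 ⟨h, e.symm ▸ hmA ⟨x, hA hx⟩ hx n hn⟩
  have hgW : ∀ w ∈ W, g w ∈ W := fun w hw => by
    obtain ⟨h, e⟩ := hge w (Subgroup.mem_sup_right hw)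
    obtain ⟨v, hv, ev⟩ := hMW _ n.2 ⟨w, hW hw⟩ hw
    have : v = ⟨g w, h⟩ := hι.1 (ev.trans e.symm)
    rw [this] at hv
    exact hv
  obtain ⟨α, hα, hαe⟩ := exists_aut_of_isIso (F := F) (f := g) (P := A)
    ⟨hg.mono le_sup_left, eq_of_le_of_card hA ((hg.mono le_sup_left).img_le le_rfl hgA)
      ((hg.mono le_sup_left).card_img le_rfl).ge⟩
  obtain ⟨k, hk⟩ := H A hA α hα g hg (fun x hx => by rw [autFn_apply α hx, hαe ⟨x, hx⟩]) hgW
    ⟨n, n.2, fun w hw => hge w (Subgroup.mem_sup_right hw)⟩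
  have hpow : ∀ (i : ℕ) (x : A), ι ⟨((α ^ i) x : A), hA (Subtype.prop _)⟩ =
      (n : G) ^ i * ι ⟨x, hA x.2⟩ * ((n : G) ^ i)⁻¹ := by
    intro i
    induction i with
    | zero => intro x; simp
    | succ i ih =>
      intro x
      obtain ⟨h, e⟩ := hge _ (Subgroup.mem_sup_left (Subtype.prop ((α ^ i) x)))
      have e1 : ι ⟨((α ^ (i + 1)) x : A), hA (Subtype.prop _)⟩ =
          (n : G) * ι ⟨((α ^ i) x : A), hA (Subtype.prop _)⟩ * (n : G)⁻¹ := by
        refine Eq.trans (congrArg ι (Subtype.ext ?_)) e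
        show (((α ^ (i + 1)) x : A) : Ω) = g _
        rw [pow_succ', MulAut.mul_apply, hαe]
      rw [e1, ih, pow_succ']
      group
  obtain ⟨j, hj⟩ := exists_pow_eq_self_of_coprime (n := p ^ k) (x := n)
    (hco.symm.pow_left k)
  refine Subgroup.mem_centralizer_iff.2 fun r hr => Subtype.ext ?_
  have hrR : (r : G) ∈ R' := ⟨r, hr, rfl⟩
  obtain ⟨x, hx⟩ := hR' hrR
  have hxA : (x : Ω) ∈ A := mem_pre.2 ⟨x.2, hx.symm ▸ hrR⟩
  have h1 := hpow (p ^ k * j) ⟨x, hxA⟩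
  rw [pow_mul, hk, one_pow] at h1
  have h2 : (n : G) ^ (p ^ k * j) = n := by
    rw [pow_mul]
    exact congrArg Subtype.val hj
  rw [h2] at h1
  have h3 : ι x = (n : G) * ι x * (n : G)⁻¹ := h1
  rw [hx] at h3
  exact eq_mul_inv_iff_mul_eq.1 h3

theorem hnpc_normalizer_of_npaut {W : Subgroup Ω} (hW : W ≤ S)
    (hSW : S ≤ Subgroup.normalizer (W : Set Ω)) (h : NPAut p F W) :
    HasNormalPComplement p
      (Subgroup.normalizer (((W.subgroupOf S).map ι : Subgroup G) : Set G)) := by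
  refine hnpc_of_local hι hT _ ?_ hW
    (fun n hn w hw => (Subgroup.mem_normalizer_iff.1 hn _).1 ⟨w, hw, rfl⟩)
    fun A hA α hα g hg e hgW _ => h A (le_inf hA (hA.trans hSW)) α hα g hg e hgW
  rintro _ ⟨s, rfl⟩
  have : (W.subgroupOf S).Normal := ⟨fun x hx t => (Subgroup.mem_normalizer_iff.1 (hSW t.2) _).1 hx⟩
  refine Subgroup.le_normalizer_map ι ⟨s, ?_, rfl⟩
  rw [Subgroup.normalizer_eq_top_iff.2 this]
  trivial

theorem hnpc_centralizer_of_cpaut {W : Subgroup Ω} (hW : W ≤ S)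
    (hWZ : S ≤ Subgroup.centralizer (W : Set Ω)) (h : CPAut p F W) :
    HasNormalPComplement p
      (Subgroup.centralizer (((W.subgroupOf S).map ι : Subgroup G) : Set G)) := by
  have hfix : ∀ n ∈ Subgroup.centralizer (((W.subgroupOf S).map ι : Subgroup G) : Set G),
      ∀ w : S, (w : Ω) ∈ W → n * ι w * n⁻¹ = ι w := fun n hn w hw => by
    rw [← Subgroup.mem_centralizer_iff.1 hn _ ⟨w, hw, rfl⟩, mul_inv_cancel_right]
  refine hnpc_of_local hι hT _ ?_ hW
    (fun n hn w hw => (hfix n hn w hw).symm ▸ ⟨w, hw, rfl⟩)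
    fun A hA α hα g hg e _ hn => h A (le_inf hA (hA.trans hWZ)) α hα g hg e fun w hw => ?_
  · rintro _ ⟨s, rfl⟩
    refine Subgroup.mem_centralizer_iff.2 ?_
    rintro _ ⟨w, hw, rfl⟩
    rw [← map_mul, ← map_mul]
    exact congrArg ι (Subtype.ext (Subgroup.mem_centralizer_iff.1 (hWZ s.2) _ hw))
  · obtain ⟨n, hn, hne⟩ := hn
    obtain ⟨hgS, e'⟩ := hne w hw
    rw [hfix n hn ⟨w, hW hw⟩ hw] at e'
    exact congrArg Subtype.val (hι.1 e')

end Local

/-- A model with a normal `p`-complement gives `p`-group automizers. -/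
theorem pAut_of_model_hnpc [Finite S] [Fact p.Prime] (hS : IsPGroup p S) (hG : F.IsModel p G ι)
    (h : HasNormalPComplement p G) : PAut p F := by
  have := hG.1
  obtain ⟨P, K, hK, hKP⟩ := h
  set O := Cfsg.pCore p G
  have hO : O.Normal := Cores.pCore_normal p G
  have hKO : Disjoint K O := hKP.disjoint.mono_right (Cores.pCore_le_sylow P)
  have hKC : K ≤ Subgroup.centralizer (O : Set G) := fun k hk =>
    Subgroup.mem_centralizer_iff.2 fun o ho =>
      Subgroup.commute_of_normal_of_disjoint K O hK hO hKO k o hk ho |>.symm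
  have hKb : K = ⊥ := hKO.eq_bot_of_le (hKC.trans hG.2.2.2)
  have hP : (P : Subgroup G) = ⊤ := by
    rw [hKb] at hKP
    exact Subgroup.isComplement'_bot_left.1 hKP
  obtain ⟨T, hT⟩ := hG.2.2.1
  have hrange : ι.range = ⊤ := by
    rw [← hT]
    refine T.3 ?_ le_top |>.symm
    have := P.2
    rwa [hP] at this
  refine pAut_of_exists_pow fun Q hQ α hα => ?_
  have hm := (isIso_autFn hQ hα).1
  obtain ⟨g, hg⟩ := (isMap_realized_iff hG.2.1 hQ (fun x hx => hm.mem hx)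
    fun x hx y hy => hm.map_mul hx hy).1 hm
  obtain ⟨s, rfl⟩ := hrange.symm ▸ (Subgroup.mem_top g)
  refine exists_pow_of_conj hS s.2 fun x hx => ?_
  have h1 := hg x hx
  rw [← map_inv, ← map_mul, ← map_mul] at h1
  exact (congrArg Subtype.val (hG.2.1.1 h1)).symm

/-- The image of a functorial subgroup of `S` in a group containing a copy of `S`. -/
theorem subgroupOf_map_eq (W : ∀ {X : Type u} [Group X], Subgroup X → Subgroup X)
    (hW : ∀ {X Y : Type u} [Group X] [Group Y] (f : X →* Y) (K : Subgroup X), Set.InjOn f K →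
      (W K).map f = W (K.map f))
    {L : Type u} [Group L] (κ : S →* L) (hκ : Function.Injective κ) :
    ((W S).subgroupOf S).map κ = W κ.range := by
  have h1 : (W (⊤ : Subgroup S)).map S.subtype = W S := by
    rw [hW _ _ S.subtype_injective.injOn, ← MonoidHom.range_eq_map, S.range_subtype]
  rw [← h1, Subgroup.subgroupOf, Subgroup.comap_map_eq_self_of_injective S.subtype_injective,
    hW _ _ hκ.injOn, ← MonoidHom.range_eq_map]

theorem le_normalizer_of_functorial (W : ∀ {X : Type u} [Group X], Subgroup X → Subgroup X)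
    (hW : ∀ {X Y : Type u} [Group X] [Group Y] (f : X →* Y) (K : Subgroup X), Set.InjOn f K →
      (W K).map f = W (K.map f))
    (R : Subgroup Ω) : Subgroup.normalizer (R : Set Ω) ≤ Subgroup.normalizer (W R : Set Ω) := by
  intro x hx
  rw [PLocal.mem_normalizer_iff_map_eq] at hx ⊢
  rw [hW _ _ (MulEquiv.injective _).injOn, hx]

end Cfsg.Agent.Fusion
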