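import Cfsg.Agent.Lib.Fusion.PAut

/-
Induction on saturated systems: by the order of the p-group, then by the number of maps.
Main results: `graphs`, `Smaller`, `system_induction`, `smaller_normalizer`, `quotientData`.
-/

set_option autoImplicit false

open scoped Classical

namespace Cfsg.Agent.Fusion

open Cfsg Cfsg.FusionSystem

universe u

section

variable {Ω : Type u} [Group Ω] {S : Subgroup Ω}

/-- The graphs of the maps. -/
def graphs (F : FusionSystem S) : Set (Set (Ω × Ω)) :=
  {r | ∃ (P : Subgroup Ω) (φ : P →* Ω), φ ∈ F.Hom P ∧ r = Set.range fun x : P => ((x : Ω), φ x)}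

theorem graphs_finite [Finite S] (F : FusionSystem S) : (graphs F).Finite := by
  refine ((((S : Set Ω).toFinite).prod ((S : Set Ω).toFinite)).powerset).subset ?_
  rintro _ ⟨P, φ, hφ, rfl⟩ _ ⟨x, rfl⟩
  exact ⟨(F.le_of_mem hφ).1 x.2, (F.le_of_mem hφ).2 x⟩

theorem hom_of_graph {F : FusionSystem S} {P : Subgroup Ω} {φ : P →* Ω}
    (h : (Set.range fun x : P => ((x : Ω), φ x)) ∈ graphs F) : φ ∈ F.Hom P := by
  obtain ⟨P', ψ, hψ, e⟩ := h
  have hP : P = P' := by
    ext x
    constructor
    · intro hx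
      obtain ⟨y, hy⟩ := e.le ⟨⟨x, hx⟩, rfl⟩
      rw [← show (y : Ω) = x from congrArg Prod.fst hy]
      exact y.2
    · intro hx
      obtain ⟨y, hy⟩ := e.ge ⟨⟨x, hx⟩, rfl⟩
      rw [← show (y : Ω) = x from congrArg Prod.fst hy]
      exact y.2
  subst hP
  rwa [show φ = ψ from MonoidHom.ext fun x => by
    obtain ⟨y, hy⟩ := e.le ⟨x, rfl⟩
    rw [Prod.mk.injEq] at hy
    rw [← hy.2, Subtype.ext hy.1]]

theorem graphs_lt [Finite S] {E F : FusionSystem S} (h : E.IsSubsystemOf F)
    (hne : ¬ F.IsSubsystemOf E) : (graphs E).ncard < (graphs F).ncard := by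
  refine Set.ncard_lt_ncard ⟨?_, fun hle => hne fun P φ hφ => hom_of_graph (hle ⟨P, φ, hφ, rfl⟩)⟩
    (graphs_finite F)
  rintro _ ⟨P, φ, hφ, rfl⟩
  exact ⟨P, φ, h P hφ, rfl⟩

/-- `E` comes before `F`: a smaller `p`-group, or the same with fewer maps. -/
def Smaller {Ω' : Type u} [Group Ω'] {T : Subgroup Ω'} (E : FusionSystem T) (F : FusionSystem S) :
    Prop :=
  Nat.card T < Nat.card S ∨ (Nat.card T = Nat.card S ∧ (graphs E).ncard < (graphs F).ncard)

theorem smaller_of_sub [Finite S] {T : Subgroup Ω} (hT : T = S) {E : FusionSystem T}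
    {F : FusionSystem S} (h : E.IsSubsystemOf F) (hne : ¬ F.IsSubsystemOf E) : Smaller E F := by
  subst hT
  exact Or.inr ⟨rfl, graphs_lt h hne⟩

end

/-- Induction along `Smaller`. -/
theorem system_induction
    (motive : ∀ (Ω : Type u) [Group Ω] (S : Subgroup Ω), FusionSystem S → Prop)
    (step : ∀ (Ω : Type u) [Group Ω] (S : Subgroup Ω) (F : FusionSystem S),
      (∀ (Ω' : Type u) [Group Ω'] (T : Subgroup Ω') (E : FusionSystem T), Smaller E F →
        motive Ω' T E) → motive Ω S F)
    (Ω : Type u) [Group Ω] (S : Subgroup Ω) (F : FusionSystem S) : motive Ω S F := by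
  suffices h : ∀ n m, ∀ (Ω : Type u) [Group Ω] (S : Subgroup Ω) (F : FusionSystem S),
      Nat.card S = n → (graphs F).ncard = m → motive Ω S F from h _ _ Ω S F rfl rfl
  intro n
  induction n using Nat.strong_induction_on with
  | _ n ihn =>
  intro m
  induction m using Nat.strong_induction_on with
  | _ m ihm =>
  intro Ω _ S F hn hm
  refine step Ω S F fun Ω' _ T E hlt => ?_
  rcases hlt with h | ⟨h1, h2⟩
  · exact ihn _ (hn ▸ h) _ Ω' T E rfl rfl
  · exact ihm _ (hm ▸ h2) Ω' T E (h1.trans hn) rfl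

variable {Ω : Type u} [Group Ω] {S : Subgroup Ω} {F : FusionSystem S}

theorem isSubsystemOf_normalizer_iff [Finite S] {X : Subgroup Ω} (hX : X ≤ S)
    {E : FusionSystem (normalizerIn S X)} (hE : F.IsNormalizerSystem X E) :
    F.IsSubsystemOf E ↔ F.IsNormal X := by
  refine ⟨fun h => ⟨hX, fun P φ hφ => ?_⟩, fun h P φ hφ => ?_⟩
  · obtain ⟨-, -, -, h1⟩ := (hE P).le (h P hφ)
    exact h1
  · have hS : S ≤ normalizerIn S X :=
      le_inf le_rfl (normalizes_of_stronglyClosed (stronglyClosed_of_normal h))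
    exact (hE P).ge ⟨hφ, (F.le_of_mem hφ).1.trans hS, fun x => hS ((F.le_of_mem hφ).2 x),
      h.2 P φ hφ⟩

/-- The normalizer system of a subgroup that is not normal comes before the system. -/
theorem smaller_normalizer [Finite S] {X : Subgroup Ω} (hX : X ≤ S) (hn : ¬ F.IsNormal X)
    {E : FusionSystem (normalizerIn S X)} (hE : F.IsNormalizerSystem X E) : Smaller E F := by
  by_cases h : normalizerIn S X = S
  · exact smaller_of_sub h (sub_normalizer hE) fun hs =>
      hn ((isSubsystemOf_normalizer_iff hX hE).1 hs)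
  · refine Or.inl (lt_of_le_of_ne (Subgroup.card_le_of_le inf_le_left) fun e => h ?_)
    exact eq_of_le_of_card le_rfl inf_le_left e.ge

/-- The data of the quotient of `S` by a strongly closed subgroup. -/
theorem quotientData {U : Subgroup Ω} (hU : F.StronglyClosed U) [(U.subgroupOf S).Normal] :
    QData F U (QuotientGroup.mk' (U.subgroupOf S))
      (⊤ : Subgroup (S ⧸ U.subgroupOf S)) :=
  ⟨hU, fun s => QuotientGroup.eq_one_iff s,
    MonoidHom.range_eq_top.2 (QuotientGroup.mk'_surjective _)⟩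

theorem QData.card_lt [Finite S] {Ω' : Type*} [Group Ω'] {S' : Subgroup Ω'} {U : Subgroup Ω}
    {θ : S →* Ω'} (D : QData F U θ S') (hU : U ≠ ⊥) : Nat.card S' < Nat.card S := by
  have := D.finite_S'
  have := finite_of_le D.le
  have h := D.card_preimage (P' := S') le_rfl
  rw [D.preimage_S'] at h
  rw [h]
  have h1 : 1 < Nat.card U := (Subgroup.one_lt_card_iff_ne_bot U).2 hU
  exact lt_mul_of_one_lt_left Nat.card_pos h1

end Cfsg.Agent.Fusion
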