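import Cfsg.Agent.Lib.Fusion.ModelAdm

/-
The model theorem for a normal centric subgroup.
Main results: `NC.Mdl`, `NC.emb`, `NC.emb_injective`, `NC.isModel_emb`, `NC.exists_equiv`
(uniqueness among realizations in which the image of `Q` is normal and self-centralizing).
-/

set_option autoImplicit false

open scoped Classical IsMulCommutative

namespace Cfsg.Agent.Fusion

open Cfsg Cfsg.FusionSystem

universe u v

variable {Ω : Type u} [Group Ω] {S : Subgroup Ω} {F : FusionSystem S} {p : ℕ} {Q : Subgroup Ω}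

namespace NC

variable (h : NC F p Q)

instance : h.tker.Normal := h.tker_normal

/-- The model. -/
abbrev Mdl : Type u := h.mono ⧸ h.tker

/-- The admissible homomorphism used for the embedding. -/
noncomputable def lift : S →* h.mono := h.exists_adm.choose

theorem lift_adm : h.IsAdm S le_rfl h.lift := h.exists_adm.choose_spec

/-- The embedding of `S` into the model. -/
noncomputable def emb : S →* h.Mdl := (QuotientGroup.mk' h.tker).comp h.lift

/-- The projection of the model onto `Aut_F(Q)`. -/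
noncomputable def proj : h.Mdl →* F.autGroup Q :=
  QuotientGroup.lift h.tker (SemidirectProduct.rightHom.comp h.mono.subtype)
    (Subgroup.map_le_iff_le_comap.2 fun e _ => e.2)

theorem proj_mk (e : h.mono) : h.proj (QuotientGroup.mk' h.tker e) = (e : h.Wr).right := rfl

theorem proj_emb (s : S) : h.proj (h.emb s) = h.pr s := h.lift_adm.right s

theorem proj_surjective : Function.Surjective h.proj := fun a =>
  let ⟨e, he, hea⟩ := h.exists_mono_over a
  ⟨QuotientGroup.mk' h.tker ⟨e, he⟩, hea⟩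

/-- Conjugation inside the monomial group at a fixed coset. -/
theorem conj_left (e L : h.mono) (j : h.Cos)
    (hfix : (L : h.Wr).right • ((e : h.Wr).right • j) = (e : h.Wr).right • j) :
    ((e⁻¹ * L * e : h.mono) : h.Wr).left j =
      ((e : h.Wr).left ((e : h.Wr).right • j))⁻¹ * (L : h.Wr).left ((e : h.Wr).right • j) *
        (e : h.Wr).left ((e : h.Wr).right • j) := by
  simp only [Subgroup.coe_mul, Subgroup.coe_inv, SemidirectProduct.mul_left,
    SemidirectProduct.mul_right, SemidirectProduct.inv_left, SemidirectProduct.inv_right,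
    Pi.mul_apply, tupleAct_apply, Pi.inv_apply, inv_inv, mul_inv_rev, mul_smul,
    inv_smul_eq_iff.2 hfix.symm]

theorem lift_conj (e : h.mono) (q : Q) :
    e⁻¹ * h.lift ⟨((((e : h.Wr).right : MulAut Q) q : Q)), h.le (Subtype.mem _)⟩ * e =
      h.lift ⟨q, h.le q.2⟩ := by
  set a := (e : h.Wr).right
  refine Subtype.ext (SemidirectProduct.ext ?_ ?_)
  · funext j
    have hfix : (h.lift ⟨(((a : MulAut Q) q : Q)), h.le (Subtype.mem _)⟩ : h.Wr).right • (a • j) =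
        a • j := by
      rw [h.lift_adm.right]
      exact h.pr_smul_of_mem _ _
    rw [h.conj_left e _ j hfix]
    refine Subtype.ext ?_
    rw [Subgroup.coe_mul, Subgroup.coe_mul, Subgroup.coe_inv,
      h.lift_adm.onQ _ (Subtype.mem _), h.lift_adm.onQ ⟨q, h.le q.2⟩ q.2]
    have h1 := (h.pr_apply ((e : h.Wr).left (a • j))⁻¹
      (((((h.rep (a • j))⁻¹ : F.autGroup Q)) : MulAut Q) ((a : MulAut Q) q))).symm
    rw [Subgroup.coe_inv, inv_inv] at h1
    refine h1.trans ?_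
    rw [map_inv, e.2 (a • j), inv_smul_smul]
    simp [a]
  · show ((e⁻¹ * h.lift _ * e : h.mono) : h.Wr).right = _
    simp only [Subgroup.coe_mul, Subgroup.coe_inv, SemidirectProduct.mul_right,
      SemidirectProduct.inv_right, h.lift_adm.right]
    rw [← h.conj_pr a q]
    simp [a, mul_assoc]

theorem emb_conj (g : h.Mdl) (q : Q) :
    g * h.emb ⟨q, h.le q.2⟩ * g⁻¹ =
      h.emb ⟨(((h.proj g : F.autGroup Q) : MulAut Q) q : Q), h.le (Subtype.mem _)⟩ := by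
  obtain ⟨e, rfl⟩ := QuotientGroup.mk'_surjective h.tker g
  show QuotientGroup.mk' h.tker e * QuotientGroup.mk' h.tker (h.lift _) *
    (QuotientGroup.mk' h.tker e)⁻¹ = QuotientGroup.mk' h.tker (h.lift _)
  rw [← map_inv, ← map_mul, ← map_mul, h.proj_mk, ← h.lift_conj e q]
  congr 1
  group

theorem trace_diag (z : S) (hz : h.pr z = 1) :
    ∃ hb : h.lift z ∈ h.base,
      h.trace ⟨h.lift z, hb⟩ = (h.toZ z hz) ^ Fintype.card h.Cos := by
  refine ⟨(h.lift_adm.right z).trans hz, ?_⟩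
  show ∏ j, _ = _
  rw [← Finset.card_univ, ← Finset.prod_const]
  refine Finset.prod_congr rfl fun j _ => Subtype.ext ?_
  have hzQ : (z : Ω) ∈ Q := h.centralizer_le ((h.pr_eq_one_iff z).1 hz)
  have e : ((h.toZ ((h.lift z : h.Wr).left j) (h.base_pr ((h.lift_adm.right z).trans hz) j) :
      Subgroup.center Q) : Q) = (((h.rep j)⁻¹ : F.autGroup Q) : MulAut Q) ⟨z, hzQ⟩ :=
    Subtype.ext (h.lift_adm.onQ z hzQ j)
  rw [h.zAct_coe, e]
  simp
  rfl

theorem card_coprime_center : (Nat.card (Subgroup.center Q)).Coprime (Fintype.card h.Cos) := by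
  have := h.fin
  have := h.prime
  have := finite_of_le h.le
  obtain ⟨n, hn⟩ := IsPGroup.iff_card.1 ((h.pgrp.to_le h.le).to_subgroup (Subgroup.center Q))
  rw [hn, ← Nat.card_eq_fintype_card]
  exact (h.index_coprime.symm).pow_left n

theorem emb_injective : Function.Injective h.emb := by
  rw [injective_iff_map_eq_one]
  intro s hs
  have hs' : h.lift s ∈ h.tker := (QuotientGroup.eq_one_iff _).1 hs
  obtain ⟨e, he, hes⟩ := hs'
  have hz : h.pr s = 1 := by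
    rw [← h.lift_adm.right s, ← hes]
    exact e.2
  obtain ⟨hb, htr⟩ := h.trace_diag s hz
  have h1 : (⟨h.lift s, hb⟩ : h.base) = e := Subtype.ext hes.symm
  rw [h1, (show h.trace e = 1 from he)] at htr
  have h2 : h.toZ s hz = 1 := (powCoprime h.card_coprime_center).injective (by
    show h.toZ s hz ^ _ = 1 ^ _
    rw [one_pow]
    exact htr.symm)
  exact Subtype.ext (congrArg (fun z : Subgroup.center Q => ((z : Q) : Ω)) h2)

theorem ker_proj (g : h.Mdl) (hg : h.proj g = 1) : ∃ z : S, h.pr z = 1 ∧ h.emb z = g := by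
  obtain ⟨e, rfl⟩ := QuotientGroup.mk'_surjective h.tker g
  have heb : e ∈ h.base := hg
  obtain ⟨w, hw⟩ := (powCoprime h.card_coprime_center).surjective (h.trace ⟨e, heb⟩)
  have hwC : ((w : Q) : Ω) ∈ centralizerIn S Q :=
    mem_centralizerIn.2 ⟨h.le (w : Q).2, fun x hx =>
      congrArg Subtype.val (Subgroup.mem_center_iff.1 w.2 ⟨x, hx⟩).symm⟩
  set z : S := ⟨(w : Q), h.le (w : Q).2⟩
  have hz : h.pr z = 1 := (h.pr_eq_one_iff z).2 hwC
  obtain ⟨hb, htr⟩ := h.trace_diag z hz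
  refine ⟨z, hz, ?_⟩
  show (QuotientGroup.mk (h.lift z) : h.Mdl) = QuotientGroup.mk e
  rw [QuotientGroup.eq]
  have hzw : h.toZ z hz = w := Subtype.ext (Subtype.ext rfl)
  have hw' : w ^ Fintype.card h.Cos = h.trace ⟨e, heb⟩ := by
    rw [← hw, powCoprime_apply]
  have key : (⟨h.lift z, hb⟩⁻¹ * ⟨e, heb⟩ : h.base) ∈ h.trace.ker := by
    rw [MonoidHom.mem_ker, map_mul, map_inv, htr, inv_mul_eq_one, hzw]
    exact hw'
  have := Subgroup.mem_map_of_mem h.base.subtype key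
  rw [map_mul, map_inv] at this
  exact this

theorem centralizer_emb (g : h.Mdl)
    (hg : ∀ q : Q, g * h.emb ⟨q, h.le q.2⟩ * g⁻¹ = h.emb ⟨q, h.le q.2⟩) :
    ∃ z : S, h.pr z = 1 ∧ h.emb z = g := by
  refine h.ker_proj g (Subtype.ext (MulEquiv.ext fun q => Subtype.ext ?_))
  have := h.emb_injective ((h.emb_conj g q).symm.trans (hg q))
  exact congrArg (fun s : S => (s : Ω)) this

theorem pr_map {M : Subgroup Ω} (hQM : Q ≤ M) {f : Ω → Ω} (hf : IsMap F M f) {a : F.autGroup Q}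
    (ha : ∀ q : Q, (((a : MulAut Q) q : Q) : Ω) = f q) {x : Ω} (hx : x ∈ M) :
    h.pr ⟨f x, hf.mem hx⟩ = a * h.pr ⟨x, hf.le hx⟩ * a⁻¹ := by
  refine Subtype.ext (MulEquiv.ext fun y => Subtype.ext ?_)
  obtain ⟨q, rfl⟩ := (a : MulAut Q).surjective y
  simp only [Subgroup.coe_mul, Subgroup.coe_inv, MulAut.mul_apply, MulAut.inv_apply_self,
    h.pr_apply, ha]
  exact (hf.map_conj hx (hQM q.2)).symm

theorem exists_conj_of_map {M : Subgroup Ω} (hQM : Q ≤ M) {f : Ω → Ω} (hf : IsMap F M f) :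
    ∃ g : h.Mdl, ∀ (x : Ω) (hx : x ∈ M),
      g * h.emb ⟨x, hf.le hx⟩ * g⁻¹ = h.emb ⟨f x, hf.mem hx⟩ := by
  obtain ⟨α, hα, hαf⟩ := exists_aut_of_isIso (h.isIso hf hQM)
  obtain ⟨e₀, he₀, hea⟩ := h.exists_mono_over ⟨α, hα⟩
  set e : h.mono := ⟨e₀, he₀⟩
  have hea' : (e : h.Wr).right = (⟨α, hα⟩ : F.autGroup Q) := hea
  have hpm : ∀ (x : Ω) (hx : x ∈ M), h.pr ⟨f x, hf.mem hx⟩ =
      (e : h.Wr).right * h.pr ⟨x, hf.le hx⟩ * ((e : h.Wr).right)⁻¹ := by
    intro x hx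
    rw [hea']
    exact h.pr_map hQM hf hαf hx
  set fh : M →* S := MonoidHom.mk' (fun x => ⟨f x, hf.mem x.2⟩)
    fun x y => Subtype.ext (hf.map_mul x.2 y.2)
  set l₁ : M →* h.mono := h.lift.comp (Subgroup.inclusion hf.le)
  set l₂ : M →* h.mono := (MulAut.conj e⁻¹).toMonoidHom.comp (h.lift.comp fh)
  have hl₂ : ∀ x : M, l₂ x = e⁻¹ * h.lift ⟨f x, hf.mem x.2⟩ * e := fun x => by
    show e⁻¹ * _ * e⁻¹⁻¹ = _
    rw [inv_inv]
    rfl
  have hA₁ : h.IsAdm M hf.le l₁ := by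
    refine ⟨fun x => h.lift_adm.right _, fun x hx j => h.lift_adm.onQ _ hx j, fun j M' hM' => ?_⟩
    obtain ⟨g, hg, hgl⟩ := h.lift_adm.maps j M' fun x hx => by
      obtain ⟨hxM, hxS, hxj⟩ := h.mem_mstab (hM' hx)
      exact h.mstab_of ⟨x, hxS⟩ hxS hxj
    exact ⟨g, hg, fun x hx => hgl ⟨(x : Ω), hf.le x.2⟩ hx⟩
  have hA₂ : h.IsAdm M hf.le l₂ := by
    refine ⟨fun x => ?_, fun x hx j => ?_, fun j M' hM' => ?_⟩
    · rw [hl₂]
      simp only [Subgroup.coe_mul, Subgroup.coe_inv, SemidirectProduct.mul_right,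
        SemidirectProduct.inv_right, h.lift_adm.right, hpm x x.2]
      group
    · have hfx : f x = ((((e : h.Wr).right : MulAut Q) ⟨x, hx⟩ : Q) : Ω) := by
        rw [hea']
        exact (hαf ⟨x, hx⟩).symm
      have : l₂ x = h.lift ⟨x, h.le hx⟩ := by
        rw [hl₂, ← h.lift_conj e ⟨x, hx⟩]
        congr 2
        exact congrArg h.lift (Subtype.ext hfx)
      rw [this]
      exact h.lift_adm.onQ _ hx j
    · set k := (e : h.Wr).right • j
      set s := (e : h.Wr).left k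
      have hk : ∀ x ∈ M', ∃ hxM : x ∈ M, h.pr ⟨f x, hf.mem hxM⟩ • k = k := by
        intro x hx
        obtain ⟨hxM, hxS, hxj⟩ := h.mem_mstab (hM' hx)
        refine ⟨hxM, ?_⟩
        rw [hpm x hxM]
        simp [k, mul_smul, hxj]
      have hM'M : M' ≤ M := hM'.trans inf_le_left
      obtain ⟨g, hg, hgl⟩ := h.lift_adm.maps k (img f M') (hf.img_le hM'M fun x hx =>
        h.mstab_of ⟨f x, hf.mem (hM'M hx)⟩ (hf.mem (hM'M hx)) (hk x hx).2)
      have h1 := (hf.mono hM'M).comp hg fun x hx => hf.mem_img hx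
      refine ⟨_, h1.comp (IsMap.conj le_rfl (inv_mem s.2)) fun x hx => h1.mem hx, fun x hx => ?_⟩
      rw [hl₂, h.conj_left e _ j (by rw [h.lift_adm.right]; exact (hk x hx).2)]
      show (s : Ω)⁻¹ * g (f x) * (s : Ω)⁻¹⁻¹ = _
      rw [inv_inv, hgl ⟨f x, hf.mem (hM'M hx)⟩ (hf.mem_img hx)]
      rfl
  obtain ⟨b, -, hb⟩ := h.adm_conj hQM hA₁ hA₂
  refine ⟨QuotientGroup.mk' h.tker (e * b), fun x hx => ?_⟩
  have h1 := hb ⟨x, hx⟩
  rw [hl₂] at h1
  show QuotientGroup.mk' h.tker (e * b) * QuotientGroup.mk' h.tker (h.lift _) *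
    (QuotientGroup.mk' h.tker (e * b))⁻¹ = QuotientGroup.mk' h.tker (h.lift _)
  rw [← map_inv, ← map_mul, ← map_mul]
  congr 1
  calc e * b * h.lift ⟨x, hf.le hx⟩ * (e * b)⁻¹
      = e * (b * l₁ ⟨x, hx⟩ * b⁻¹) * e⁻¹ := by
        rw [show l₁ ⟨x, hx⟩ = h.lift ⟨x, hf.le hx⟩ from rfl]; group
    _ = h.lift ⟨f x, hf.mem hx⟩ := by rw [← h1]; group

theorem isRealizedBy_emb : F.IsRealizedBy h.emb := by
  have := h.fin
  refine ⟨h.emb_injective, fun P hP φ hφ => ⟨fun hmem => ?_, fun ⟨g, hg⟩ => ?_⟩⟩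
  · obtain ⟨f, hf, hfφ, -⟩ := (FusionChain.isNormal_iff.1 h.nor).2 P _ (isMap_toFn hmem)
    obtain ⟨g, hg⟩ := h.exists_conj_of_map le_sup_right hf
    refine ⟨g, fun x => ?_⟩
    rw [hg x (Subgroup.mem_sup_left x.2)]
    exact congrArg h.emb (Subtype.ext ((hfφ x x.2).trans (toFn_coe φ x)).symm)
  · set a := h.proj g
    have hext : ∀ (x : Ω) (hx : x ∈ P), (a : MulAut Q) * normConj S Q
        ⟨x, h.le_normalizerIn (hP hx)⟩ * (a : MulAut Q)⁻¹ ∈ autInducedBy S Q := by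
      intro x hx
      have h1 : h.pr ⟨φ ⟨x, hx⟩, hφ _⟩ = a * h.pr ⟨x, hP hx⟩ * a⁻¹ := by
        rw [← h.proj_emb, hg ⟨x, hx⟩, map_mul, map_mul, map_inv, h.proj_emb]
      have h2 := h.mem_range_pr.1 ⟨_, h1⟩
      show _ * (h.pr ⟨x, hP hx⟩ : MulAut Q) * _ ∈ _
      simpa using h2
    obtain ⟨f, hf, hfa⟩ := FusionChain.exists_extension h.receptive a.2
      (hP.trans h.le_normalizerIn) hext
    obtain ⟨g', hg'⟩ := h.exists_conj_of_map le_sup_left hf
    obtain ⟨z, hz, hzg⟩ := h.centralizer_emb (g'⁻¹ * g) fun q => by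
      have e1 := hg' q (Subgroup.mem_sup_left q.2)
      have e2 := h.emb_conj g q
      have e3 : f q = (((a : MulAut Q) q : Q) : Ω) := (hfa q q.2).trans (autFn_apply _ q.2)
      simp only [e3] at e1
      calc g'⁻¹ * g * h.emb ⟨q, h.le q.2⟩ * (g'⁻¹ * g)⁻¹
          = g'⁻¹ * (g * h.emb ⟨q, h.le q.2⟩ * g⁻¹) * g' := by group
        _ = g'⁻¹ * (g' * h.emb ⟨q, h.le q.2⟩ * g'⁻¹) * g' := by rw [e2, ← e1]
        _ = h.emb ⟨q, h.le q.2⟩ := by group
    have hzQ : (z : Ω) ∈ Q := h.centralizer_le ((h.pr_eq_one_iff z).1 hz)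
    have hm : ∀ x ∈ P, (z : Ω) * x * (z : Ω)⁻¹ ∈ Q ⊔ P := fun x hx =>
      mul_mem (mul_mem (Subgroup.mem_sup_left hzQ) (Subgroup.mem_sup_right hx))
        (inv_mem (Subgroup.mem_sup_left hzQ))
    refine mem_of_isMap ((IsMap.conj hP z.2).comp hf hm) fun x => ?_
    have e1 := hg' _ (hm x x.2)
    have e2 : h.emb ⟨(z : Ω) * x * (z : Ω)⁻¹, hf.le (hm x x.2)⟩ =
        h.emb z * h.emb ⟨x, hP x.2⟩ * (h.emb z)⁻¹ := by
      rw [← map_inv, ← map_mul, ← map_mul]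
      rfl
    rw [e2, hzg] at e1
    have e3 := hg x
    rw [show g * h.emb ⟨x, hP x.2⟩ * g⁻¹ = g' * (g'⁻¹ * g * h.emb ⟨x, hP x.2⟩ * (g'⁻¹ * g)⁻¹) *
      g'⁻¹ by group, e1] at e3
    exact congrArg Subtype.val (h.emb_injective e3)

theorem finite_mdl : Finite h.Mdl := by
  have := h.fin
  have := h.finite_aut
  have : Finite h.Wr := Finite.of_equiv _ SemidirectProduct.equivProd.symm
  exact Finite.of_surjective _ (QuotientGroup.mk'_surjective h.tker)

theorem emb_range : h.emb.range = h.pr.range.comap h.proj := by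
  ext g
  constructor
  · rintro ⟨s, rfl⟩
    exact ⟨s, (h.proj_emb s).symm⟩
  · rintro ⟨s, hs⟩
    obtain ⟨z, -, hzg⟩ := h.ker_proj ((h.emb s)⁻¹ * g) (by
      rw [map_mul, map_inv, h.proj_emb, hs, inv_mul_cancel])
    exact ⟨s * z, by rw [map_mul, hzg, mul_inv_cancel_left]⟩

theorem isModel_emb : F.IsModel p h.Mdl h.emb := by
  have := h.fin
  have := h.prime
  have hfin := h.finite_mdl
  have hp : IsPGroup p h.emb.range :=
    h.pgrp.of_surjective h.emb.rangeRestrict h.emb.rangeRestrict_surjective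
  refine ⟨hfin, h.isRealizedBy_emb, ⟨hp.toSylow ?_, rfl⟩, ?_⟩
  · rw [h.emb_range, Subgroup.index_comap_of_surjective _ h.proj_surjective]
    exact h.prime.out.coprime_iff_not_dvd.1 h.index_coprime.symm
  · have hn : ((Q.subgroupOf S).map h.emb).Normal := by
      constructor
      rintro _ ⟨q, hq, rfl⟩ g
      exact ⟨⟨(((h.proj g : MulAut Q) ⟨q, hq⟩ : Q) : Ω), h.le (Subtype.mem _)⟩, Subtype.mem (α := Ω) ((h.proj g : MulAut Q) ⟨q, hq⟩), (h.emb_conj g ⟨q, hq⟩).symm⟩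
    have hle : (Q.subgroupOf S).map h.emb ≤ Cfsg.pCore p h.Mdl :=
      le_sSup ⟨hn, (h.pgrp.to_subgroup _).map _⟩
    refine (Subgroup.centralizer_le (SetLike.coe_subset_coe.2 hle)).trans ?_
    intro g hg
    obtain ⟨z, hz, rfl⟩ := h.centralizer_emb g fun q => by
      rw [← Subgroup.mem_centralizer_iff.1 hg _ ⟨⟨q, h.le q.2⟩, q.2, rfl⟩]
      group
    exact hle ⟨z, h.centralizer_le ((h.pr_eq_one_iff z).1 hz), rfl⟩

/-- Uniqueness of the model. -/
theorem exists_equiv {G : Type v} [Group G] (ι : S →* G) (hι : F.IsRealizedBy ι)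
    (hn : ∀ (g : G) (x : S), (x : Ω) ∈ Q → ∃ y : S, (y : Ω) ∈ Q ∧ g * ι x * g⁻¹ = ι y)
    (hC : ∀ g : G, (∀ x : S, (x : Ω) ∈ Q → g * ι x * g⁻¹ = ι x) →
      ∃ z : S, h.pr z = 1 ∧ ι z = g) :
    ∃ ψ : G ≃* h.Mdl, ∀ s : S, ψ (ι s) = h.emb s := by
  have := h.fin
  have hinj := hι.1
  have hex : ∀ g : G, ∃ a : F.autGroup Q, ∀ q : Q,
      g * ι ⟨q, h.le q.2⟩ * g⁻¹ = ι ⟨(((a : MulAut Q) q : Q) : Ω), h.le (Subtype.mem _)⟩ := by
    intro g
    choose y hy hye using fun q : Q => hn g ⟨q, h.le q.2⟩ q.2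
    set φ : Q →* Ω := MonoidHom.mk' (fun q => (y q : Ω)) fun q q' => by
      rw [← Subgroup.coe_mul]
      refine congrArg Subtype.val (hinj ?_)
      rw [map_mul, ← hye, ← hye, ← hye]
      rw [show (⟨((q * q' : Q) : Ω), h.le (q * q').2⟩ : S) =
        ⟨(q : Ω), h.le q.2⟩ * ⟨(q' : Ω), h.le q'.2⟩ from rfl, map_mul]
      group
    have hmem : φ ∈ F.Hom Q := (hι.2 Q h.le φ fun q => (y q).2).2 ⟨g, fun q => (hye q).symm⟩
    obtain ⟨α, hα, hαe⟩ := exists_aut_of_isIso (h.isIso (isMap_toFn hmem) le_rfl)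
    refine ⟨⟨α, hα⟩, fun q => (hye q).trans (congrArg ι (Subtype.ext ?_))⟩
    exact ((hαe q).trans (toFn_coe φ q)).symm
  choose ρ hρ using hex
  have huniq : ∀ (g : G) (a : F.autGroup Q), (∀ q : Q, g * ι ⟨q, h.le q.2⟩ * g⁻¹ =
      ι ⟨(((a : MulAut Q) q : Q) : Ω), h.le (Subtype.mem _)⟩) → ρ g = a := fun g a ha =>
    Subtype.ext (MulEquiv.ext fun q => Subtype.ext
      (congrArg Subtype.val (hinj ((hρ g q).symm.trans (ha q))) :))
  set R : G →* F.autGroup Q := MonoidHom.mk' ρ fun g g' => huniq _ _ fun q => by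
    rw [show g * g' * ι ⟨q, h.le q.2⟩ * (g * g')⁻¹ = g * (g' * ι ⟨q, h.le q.2⟩ * g'⁻¹) * g⁻¹ by
      group, hρ g' q, hρ g]
    rfl
  have hRι : ∀ s : S, R (ι s) = h.pr s := fun s => huniq _ _ fun q => by
    rw [← map_inv, ← map_mul, ← map_mul]
    rfl
  have hker : ∀ g, R g = 1 → ∃ z : S, h.pr z = 1 ∧ ι z = g := fun g hg => hC g fun x hx => by
    rw [hρ g ⟨x, hx⟩, show ρ g = 1 from hg]
    rfl
  have hRsurj : ∀ a, ∃ g, R g = a := fun a => by
    have hm : IsMap F Q (autFn (a : MulAut Q)) := (isIso_autFn h.le a.2).1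
    obtain ⟨φ, hφ, e⟩ := hm
    obtain ⟨g, hg⟩ := (hι.2 Q h.le φ fun q => (F.le_of_mem hφ).2 q).1 hφ
    refine ⟨g, huniq _ _ fun q => (hg q).symm.trans (congrArg ι (Subtype.ext ?_))⟩
    exact (e q q.2).trans (autFn_apply _ q.2)
  choose γ hγ using fun j => hRsurj (h.rep j)
  have hcomp : ∀ g j, ∃ s : S, ι s = (γ j)⁻¹ * g * γ ((R g)⁻¹ • j) := by
    intro g j
    obtain ⟨t, ht⟩ := h.exists_pr_eq (R g) j
    obtain ⟨z, -, hz⟩ := hker ((ι t)⁻¹ * ((γ j)⁻¹ * g * γ ((R g)⁻¹ • j))) (by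
      rw [map_mul, map_inv, hRι, map_mul, map_mul, map_inv, hγ, hγ, ht]
      group)
    exact ⟨t * z, by rw [map_mul, hz, mul_inv_cancel_left]⟩
  choose c hc using hcomp
  have hcm : ∀ g, (⟨c g, R g⟩ : h.Wr) ∈ h.mono := fun g j => by
    show h.pr (c g j) = _
    rw [← hRι, hc, map_mul, map_mul, map_inv, hγ, hγ]
  set Φ : G →* h.mono := MonoidHom.mk' (fun g => ⟨_, hcm g⟩) fun g g' => by
    refine Subtype.ext (SemidirectProduct.ext (funext fun j => hinj ?_) (map_mul R g g'))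
    show ι (c (g * g') j) = ι (c g j * c g' ((R g)⁻¹ • j))
    rw [map_mul ι, hc, hc, hc, map_mul, mul_inv_rev, mul_smul]
    group
  have hA : h.IsAdm S le_rfl (Φ.comp ι) := by
    refine ⟨hRι, fun x hx j => ?_, fun j M hM => ?_⟩
    · show (c (ι x) j : Ω) = _
      have e := hρ ((γ j)⁻¹) ⟨x, hx⟩
      rw [inv_inv, show ρ ((γ j)⁻¹) = (h.rep j)⁻¹ from (map_inv R (γ j)).trans
        (congrArg _ (hγ j))] at e
      refine congrArg Subtype.val (hinj (?_ : ι (c (ι x) j) = ι ⟨_, h.le (Subtype.mem _)⟩))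
      rw [hc, hRι, show (h.pr x)⁻¹ • j = j from
        inv_smul_eq_iff.2 (h.pr_smul_of_mem ⟨x, hx⟩ j).symm]
      exact e
    · have hMS : M ≤ S := hM.trans inf_le_left
      have hfix : ∀ (x : S), (x : Ω) ∈ M → ι (c (ι x) j) = (γ j)⁻¹ * ι x * γ j := by
        intro x hx
        obtain ⟨-, hxS, hxj⟩ := h.mem_mstab (hM hx)
        rw [hc, hRι, show (h.pr x)⁻¹ • j = j from inv_smul_eq_iff.2 hxj.symm]
      set φ : M →* Ω := MonoidHom.mk' (fun x => (c (ι ⟨x, hMS x.2⟩) j : Ω)) fun x y => by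
        rw [← Subgroup.coe_mul]
        refine congrArg Subtype.val (hinj ?_)
        rw [map_mul, hfix _ (x * y).2, hfix _ x.2, hfix _ y.2,
          show (⟨((x * y : M) : Ω), hMS (x * y).2⟩ : S) =
            ⟨(x : Ω), hMS x.2⟩ * ⟨(y : Ω), hMS y.2⟩ from rfl, map_mul]
        group
      have hmem : φ ∈ F.Hom M := (hι.2 M hMS φ fun x => (c (ι ⟨x, hMS x.2⟩) j).2).2
        ⟨(γ j)⁻¹, fun x => by rw [inv_inv]; exact hfix ⟨x, hMS x.2⟩ x.2⟩
      exact ⟨toFn φ, isMap_toFn hmem, fun x hx => toFn_apply φ hx⟩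
  obtain ⟨b, hb, hbe⟩ := h.adm_conj h.le hA h.lift_adm
  set ψ : G →* h.Mdl :=
    (QuotientGroup.mk' h.tker).comp ((MulAut.conj b).toMonoidHom.comp Φ) with hψ
  have hψι : ∀ s, ψ (ι s) = h.emb s := fun s => congrArg (QuotientGroup.mk' h.tker) (hbe s).symm
  have hψR : ∀ g, h.proj (ψ g) = R g := fun g => by
    show ((b * Φ g * b⁻¹ : h.mono) : h.Wr).right = _
    simp only [Subgroup.coe_mul, Subgroup.coe_inv, SemidirectProduct.mul_right,
      SemidirectProduct.inv_right, show (b : h.Wr).right = 1 from hb]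
    simp [Φ]
  refine ⟨MulEquiv.ofBijective ψ ⟨(injective_iff_map_eq_one ψ).2 fun g hg => ?_, fun y => ?_⟩,
    hψι⟩
  · obtain ⟨z, -, rfl⟩ := hker g (by rw [← hψR, hg, map_one])
    rw [hψι] at hg
    rw [h.emb_injective (hg.trans (map_one h.emb).symm), map_one]
  · obtain ⟨g, hg⟩ := hRsurj (h.proj y)
    obtain ⟨z, -, hz⟩ := h.ker_proj ((ψ g)⁻¹ * y) (by
      rw [map_mul, map_inv, hψR, hg, inv_mul_cancel])
    exact ⟨g * ι z, by rw [map_mul, hψι, hz, mul_inv_cancel_left]⟩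

end NC

end Cfsg.Agent.Fusion
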