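import Cfsg.Agent.Lib.Fusion.ModelSetup

/-
Admissible homomorphisms into the monomial group of a normal centric subgroup.
Main results: `NC.IsAdm`, `NC.adm_conj` (uniqueness up to base conjugation), `NC.exists_adm`.
-/

set_option autoImplicit false

open scoped Classical IsMulCommutative

namespace Cfsg.Agent.Fusion

open Cfsg Cfsg.FusionSystem

universe u

variable {Ω : Type u} [Group Ω] {S : Subgroup Ω} {F : FusionSystem S} {p : ℕ} {Q : Subgroup Ω}

namespace NC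

variable (h : NC F p Q)
include h

/-- The elements of `P` fixing a coset. -/
noncomputable def mstab (P : Subgroup Ω) (j : h.Cos) : Subgroup Ω :=
  P ⊓ ((MulAction.stabilizer (F.autGroup Q) j).comap h.pr).map S.subtype

theorem mem_mstab {P : Subgroup Ω} {j : h.Cos} {x : Ω} (hx : x ∈ h.mstab P j) :
    x ∈ P ∧ ∃ hxS : x ∈ S, h.pr ⟨x, hxS⟩ • j = j := by
  obtain ⟨hxP, s, hs, rfl⟩ := hx
  exact ⟨hxP, s.2, hs⟩

theorem mstab_of {P : Subgroup Ω} {j : h.Cos} (s : S) (hs : (s : Ω) ∈ P) (hj : h.pr s • j = j) :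
    (s : Ω) ∈ h.mstab P j := ⟨hs, s, hj, rfl⟩

theorem conj_pr (a : F.autGroup Q) (q : Q) :
    a * h.pr ⟨q, h.le q.2⟩ * a⁻¹ =
      h.pr ⟨((a : MulAut Q) q : Q), h.le ((a : MulAut Q) q).2⟩ := by
  refine Subtype.ext (MulEquiv.ext fun y => Subtype.ext ?_)
  obtain ⟨x, rfl⟩ := (a : MulAut Q).surjective y
  simp only [Subgroup.coe_mul, Subgroup.coe_inv, MulAut.mul_apply, MulAut.inv_apply_self,
    h.pr_apply]
  have : ((h.pr ⟨q, h.le q.2⟩ : MulAut Q) x) = q * x * q⁻¹ := Subtype.ext rfl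
  rw [this, map_mul, map_mul, map_inv]
  rfl

theorem pr_smul_of_mem (q : Q) (j : h.Cos) : h.pr ⟨q, h.le q.2⟩ • j = j := by
  have h1 := h.conj_pr (h.rep j)⁻¹ q
  rw [inv_inv] at h1
  conv_lhs => rw [← h.mk_rep j]
  conv_rhs => rw [← h.mk_rep j]
  rw [MulAction.Quotient.smul_mk, smul_eq_mul, QuotientGroup.eq]
  have e : (h.pr ⟨q, h.le q.2⟩ * h.rep j)⁻¹ * h.rep j =
      ((h.rep j)⁻¹ * h.pr ⟨q, h.le q.2⟩ * h.rep j)⁻¹ := by group
  rw [e, h1]
  exact inv_mem ⟨_, rfl⟩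

theorem le_mstab {P : Subgroup Ω} (hQP : Q ≤ P) (j : h.Cos) : Q ≤ h.mstab P j :=
  fun q hq => h.mstab_of ⟨q, h.le hq⟩ (hQP hq) (h.pr_smul_of_mem ⟨q, hq⟩ j)

/-- A homomorphism into the monomial group that lifts `pr`, is the diagonal on `Q` and has
components in `F`. -/
structure IsAdm (P : Subgroup Ω) (hP : P ≤ S) (l : P →* h.mono) : Prop where
  right : ∀ x : P, (l x : h.Wr).right = h.pr ⟨x, hP x.2⟩
  onQ : ∀ (x : P) (hx : (x : Ω) ∈ Q) (j : h.Cos),
    (((l x : h.Wr).left j : S) : Ω) =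
      ((((h.rep j)⁻¹ : F.autGroup Q) : MulAut Q) ⟨x, hx⟩ : Q)
  maps : ∀ (j : h.Cos) (M : Subgroup Ω), M ≤ h.mstab P j →
    ∃ f : Ω → Ω, IsMap F M f ∧ ∀ x : P, (x : Ω) ∈ M → f x = (((l x : h.Wr).left j : S) : Ω)

theorem left_mul {P : Subgroup Ω} {hP : P ≤ S} {l : P →* h.mono} (hl : h.IsAdm P hP l)
    (x y : P) (j : h.Cos) : (l (x * y) : h.Wr).left j =
      (l x : h.Wr).left j * (l y : h.Wr).left ((h.pr ⟨x, hP x.2⟩)⁻¹ • j) := by
  rw [map_mul, Subgroup.coe_mul, SemidirectProduct.mul_left, Pi.mul_apply, h.tupleAct_apply,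
    hl.right x]

theorem adm_conj {P : Subgroup Ω} {hP : P ≤ S} (hQP : Q ≤ P) {l l' : P →* h.mono}
    (hl : h.IsAdm P hP l) (hl' : h.IsAdm P hP l') :
    ∃ b ∈ h.base, ∀ x : P, l' x = b * l x * b⁻¹ := by
  have := h.fin
  have := h.prime
  set act : P →* F.autGroup Q := h.pr.comp (Subgroup.inclusion hP) with hact
  let st : Setoid h.Cos :=
    { r := fun i j => ∃ x : P, act x • i = j
      iseqv := ⟨fun i => ⟨1, by rw [map_one, one_smul]⟩,
        fun ⟨x, e⟩ => ⟨x⁻¹, by rw [map_inv, ← e, inv_smul_smul]⟩,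
        fun ⟨x, e⟩ ⟨y, e'⟩ => ⟨y * x, by rw [map_mul, mul_smul, e, e']⟩⟩ }
  set o : h.Cos → h.Cos := fun j => Quotient.out (Quotient.mk st j)
  have ho : ∀ j, ∃ x : P, act x • o j = j := fun j => Quotient.mk_out (s := st) j
  choose σ hσ using ho
  have ho_smul : ∀ (x : P) (i : h.Cos), o (act x • i) = o i := fun x i =>
    congrArg Quotient.out (Quotient.sound (s := st) (show ∃ y : P, act y • (act x • i) = i from
      ⟨x⁻¹, by rw [map_inv, inv_smul_smul]⟩))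
  have hz : ∀ i : h.Cos, ∃ z : S, h.pr z = 1 ∧ ∀ w : P, (w : Ω) ∈ h.mstab P i →
      (l' w : h.Wr).left i = z * (l w : h.Wr).left i * z⁻¹ := by
    intro i
    have hQM := h.le_mstab hQP i
    have hMP : h.mstab P i ≤ P := inf_le_left
    obtain ⟨f, hf, hfl⟩ := hl.maps i _ le_rfl
    obtain ⟨f', hf', hfl'⟩ := hl'.maps i _ le_rfl
    obtain ⟨z, hzC, hzQ, hze⟩ := exists_center_of_eqOn h.pgrp h.sat hQM
      (hMP.trans (hP.trans h.normalizes)) h.cen hf hf' fun q hq => by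
        rw [hfl ⟨q, hQP hq⟩ (hQM hq), hfl' ⟨q, hQP hq⟩ (hQM hq), hl.onQ ⟨q, hQP hq⟩ hq,
          hl'.onQ ⟨q, hQP hq⟩ hq]
    refine ⟨(l ⟨z, hQP hzQ⟩ : h.Wr).left i, ?_, fun w hw => Subtype.ext ?_⟩
    · have hz1 : h.pr ⟨z, hP (hQP hzQ)⟩ = 1 := (h.pr_eq_one_iff _).2 hzC
      rw [(l ⟨z, hQP hzQ⟩).2 i, hl.right, hz1]
      simp
    · rw [← hfl' w hw, hze w hw, Subgroup.coe_mul, Subgroup.coe_mul, Subgroup.coe_inv,
        hf.map_conj (hQM hzQ) hw, hfl w hw, hfl ⟨z, hQP hzQ⟩ (hQM hzQ)]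
  choose z hz1 hze using hz
  set b : h.Cos → S := fun j =>
    (l' (σ j) : h.Wr).left j * z (o j) * ((l (σ j) : h.Wr).left j)⁻¹ with hb
  have hbm : (⟨b, 1⟩ : h.Wr) ∈ h.mono := by
    intro j
    show h.pr (b j) = _
    rw [hb]
    simp only [map_mul, map_inv, hz1, (l (σ j)).2 j, (l' (σ j)).2 j, hl.right, hl'.right]
    simp
  refine ⟨⟨_, hbm⟩, rfl, fun s => ?_⟩
  rw [eq_mul_inv_iff_mul_eq]
  refine Subtype.ext (SemidirectProduct.ext ?_ ?_)
  · funext j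
    show (l' s : h.Wr).left j * h.tupleAct (l' s : h.Wr).right b j =
      b j * h.tupleAct 1 (l s : h.Wr).left j
    rw [h.tupleAct_apply, h.tupleAct_apply, inv_one, one_smul, hl'.right s]
    show (l' s : h.Wr).left j * b ((act s)⁻¹ • j) = _
    set i := (act s)⁻¹ • j with hi
    have hoij : o i = o j := by rw [hi, ← map_inv, ho_smul]
    set w : P := (σ j)⁻¹ * s * σ i with hw
    have hwo : act w • o j = o j := by
      rw [hw, map_mul, map_mul, map_inv, mul_smul, mul_smul, ← hoij, hσ i, hi, smul_inv_smul,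
        inv_smul_eq_iff, ← hi, hoij, hσ j]
    have hwM : (w : Ω) ∈ h.mstab P (o j) := h.mstab_of ⟨w, hP w.2⟩ w.2 hwo
    have hσj : (h.pr ⟨(σ j : Ω), hP (σ j).2⟩)⁻¹ • j = o j := inv_smul_eq_iff.2 (hσ j).symm
    have hi' : (h.pr ⟨(s : Ω), hP s.2⟩)⁻¹ • j = i := rfl
    have e : s * σ i = σ j * w := by rw [hw]; group
    have E1 := h.left_mul hl s (σ i) j
    have E2 := h.left_mul hl' s (σ i) j
    rw [e, h.left_mul hl (σ j) w j, hσj, hi'] at E1
    rw [e, h.left_mul hl' (σ j) w j, hσj, hi', hze (o j) w hwM] at E2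
    simp only [hb, hoij]
    rw [← mul_assoc, ← mul_assoc, ← E2]
    have E1' : ((l (σ i) : h.Wr).left i)⁻¹ =
        ((l (w) : h.Wr).left (o j))⁻¹ * ((l (σ j) : h.Wr).left j)⁻¹ * (l s : h.Wr).left j := by
      rw [← mul_inv_rev, E1]
      group
    rw [E1']
    group
  · show (l' s : h.Wr).right * 1 = 1 * (l s : h.Wr).right
    rw [hl.right, hl'.right, mul_one, one_mul]

theorem exists_adm : ∃ l : S →* h.mono, h.IsAdm S le_rfl l := by
  have := h.fin
  set act : S →* F.autGroup Q := h.pr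
  let st : Setoid h.Cos :=
    { r := fun i j => ∃ x : S, act x • i = j
      iseqv := ⟨fun i => ⟨1, by rw [map_one, one_smul]⟩,
        fun ⟨x, e⟩ => ⟨x⁻¹, by rw [map_inv, ← e, inv_smul_smul]⟩,
        fun ⟨x, e⟩ ⟨y, e'⟩ => ⟨y * x, by rw [map_mul, mul_smul, e, e']⟩⟩ }
  set o : h.Cos → h.Cos := fun j => Quotient.out (Quotient.mk st j)
  have ho : ∀ j, ∃ x : S, act x • o j = j := fun j => Quotient.mk_out (s := st) j
  choose σ hσ using ho
  have ho_smul : ∀ (x : S) (i : h.Cos), o (act x • i) = o i := fun x i =>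
    congrArg Quotient.out (Quotient.sound (s := st) (show ∃ y : S, act y • (act x • i) = i from
      ⟨x⁻¹, by rw [map_inv, inv_smul_smul]⟩))
  -- lifts of the representatives to the stabilisers
  have hf : ∀ i : h.Cos, ∃ f : Ω → Ω, IsMap F (h.mstab S i) f ∧
      (∀ q : Q, f q = ((((h.rep i)⁻¹ : F.autGroup Q) : MulAut Q) q : Q)) ∧
      ∀ (w : S) (_ : (w : Ω) ∈ h.mstab S i) (hfw : f w ∈ S),
        h.pr ⟨f w, hfw⟩ = (h.rep i)⁻¹ * h.pr w * h.rep i := by
    intro i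
    have hmem : ∀ (g : Ω) (hg : g ∈ h.mstab S i),
        (((h.rep i)⁻¹ : F.autGroup Q) : MulAut Q) *
          normConj S Q ⟨g, h.le_normalizerIn hg.1⟩ *
            ((((h.rep i)⁻¹ : F.autGroup Q) : MulAut Q))⁻¹ ∈ autInducedBy S Q := by
      intro g hg
      obtain ⟨hgS, hgS', hgi⟩ := h.mem_mstab hg
      have h1 : (h.rep i)⁻¹ * h.pr ⟨g, hgS⟩ * h.rep i ∈ h.pr.range := by
        conv_lhs at hgi => rw [← h.mk_rep i]
        conv_rhs at hgi => rw [← h.mk_rep i]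
        rw [MulAction.Quotient.smul_mk, smul_eq_mul, QuotientGroup.eq] at hgi
        have := inv_mem hgi
        simpa [mul_assoc] using this
      have h2 := h.mem_range_pr.1 h1
      show _ * (h.pr ⟨g, hgS⟩ : MulAut Q) * _ ∈ _
      simpa using h2
    obtain ⟨f, hf, hfα⟩ := FusionChain.exists_extension h.receptive ((h.rep i)⁻¹).2
      (M := h.mstab S i) (inf_le_left.trans h.le_normalizerIn) hmem
    have hfq : ∀ q : Q, f q = ((((h.rep i)⁻¹ : F.autGroup Q) : MulAut Q) q : Q) := fun q =>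
      (hfα q q.2).trans (autFn_apply _ q.2)
    refine ⟨f, hf.mono le_sup_right, hfq, fun w hw hfw => ?_⟩
    refine Subtype.ext (MulEquiv.ext fun y => Subtype.ext ?_)
    obtain ⟨q, rfl⟩ := (((h.rep i)⁻¹ : F.autGroup Q) : MulAut Q).surjective y
    rw [h.pr_apply]
    show f w * (((((h.rep i)⁻¹ : F.autGroup Q) : MulAut Q) q : Q) : Ω) * (f w)⁻¹ = _
    rw [← hfq q, ← hf.map_conj (Subgroup.mem_sup_right hw) (Subgroup.mem_sup_left q.2)]
    show f ((h.pr w : MulAut Q) q : Q) = _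
    rw [hfq]
    simp
  choose f hfm hfQ hfpr using hf
  have hτ : ∀ j, ∃ t : S, h.pr t = (h.rep j)⁻¹ * act (σ j) * h.rep (o j) := fun j => by
    obtain ⟨t, ht⟩ := h.exists_pr_eq (act (σ j)) j
    exact ⟨t, by rw [ht, inv_smul_eq_iff.2 (hσ j).symm]⟩
  choose τ hτ using hτ
  have hw : ∀ (s : S) (j : h.Cos),
      (((σ j)⁻¹ * s * σ ((act s)⁻¹ • j) : S) : Ω) ∈ h.mstab S (o j) := by
    intro s j
    refine h.mstab_of _ (Subtype.mem _) ?_
    have hoij : o ((act s)⁻¹ • j) = o j := by rw [← map_inv, ho_smul]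
    rw [map_mul, map_mul, map_inv, mul_smul, mul_smul]
    rw [show h.pr (σ ((act s)⁻¹ • j)) • o j = (act s)⁻¹ • j from hoij ▸ hσ ((act s)⁻¹ • j),
      smul_inv_smul, inv_smul_eq_iff]
    exact (hσ j).symm
  set c : S → h.Cos → S := fun s j =>
    τ j * ⟨f (o j) ((σ j)⁻¹ * s * σ ((act s)⁻¹ • j) : S), (hfm _).mem (hw s j)⟩ *
      (τ ((act s)⁻¹ • j))⁻¹ with hc
  have hcm : ∀ s, (⟨c s, act s⟩ : h.Wr) ∈ h.mono := by
    intro s j
    show h.pr (c s j) = _
    rw [hc]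
    simp only [map_mul, map_inv, hτ, hfpr (o j) _ (hw s j) _]
    rw [show o ((act s)⁻¹ • j) = o j by rw [← map_inv, ho_smul]]
    simp only [act]
    group
  have hcmul : ∀ s t : S,
      (⟨_, hcm (s * t)⟩ : h.mono) = ⟨_, hcm s⟩ * ⟨_, hcm t⟩ := by
    intro s t
    refine Subtype.ext (SemidirectProduct.ext ?_ (map_mul act s t))
    funext j
    show c (s * t) j = c s j * h.tupleAct (act s) (c t) j
    rw [h.tupleAct_apply]
    set i := (act s)⁻¹ • j with hi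
    have hk : (act (s * t))⁻¹ • j = (act t)⁻¹ • i := by rw [map_mul, mul_inv_rev, mul_smul]
    have hoij : o i = o j := by rw [hi, ← map_inv, ho_smul]
    have hm1 := hw s j
    have hm2 : (((σ i)⁻¹ * t * σ ((act t)⁻¹ • i) : S) : Ω) ∈ h.mstab S (o j) := hoij ▸ hw t i
    have key : (⟨f (o j) ((σ j)⁻¹ * (s * t) * σ ((act (s * t))⁻¹ • j) : S),
          (hfm _).mem (hw (s * t) j)⟩ : S) =
        ⟨f (o j) ((σ j)⁻¹ * s * σ i : S), (hfm _).mem hm1⟩ *
          ⟨f (o i) ((σ i)⁻¹ * t * σ ((act t)⁻¹ • i) : S), (hfm _).mem (hw t i)⟩ := by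
      refine Subtype.ext ?_
      show f (o j) _ = f (o j) _ * f (o i) _
      rw [hoij, ← (hfm (o j)).map_mul hm1 hm2, ← Subgroup.coe_mul, hk]
      congr 2
      simp only [hi]
      group
    simp only [hc]
    rw [key, hk]
    simp only [hi]
    group
  refine ⟨MonoidHom.mk' (fun s => ⟨_, hcm s⟩) hcmul, fun x => rfl, fun x hx j => ?_,
    fun j M hM => ?_⟩
  · show (c x j : Ω) = _
    have hij : (act x)⁻¹ • j = j := inv_smul_eq_iff.2 (h.pr_smul_of_mem ⟨x, hx⟩ j).symm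
    rw [hc]
    simp only [hij, Subgroup.coe_mul, Subgroup.coe_inv]
    have hq : (σ j : Ω)⁻¹ * x * σ j ∈ Q := by
      have := normalizerIn_conj_inv (h.le_normalizerIn (σ j).2) hx
      exact this
    rw [hfQ (o j) ⟨_, hq⟩]
    have hq' : (⟨(σ j : Ω)⁻¹ * x * σ j, hq⟩ : Q) = (((h.pr (σ j))⁻¹ : F.autGroup Q) : MulAut Q) ⟨x, hx⟩ :=
      Subtype.ext (by
        rw [← map_inv, h.pr_apply]
        simp)
    rw [hq']
    show ((((h.pr (τ j)) : MulAut Q) _ : Q) : Ω) = _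
    rw [hτ j]
    simp only [act, Subgroup.coe_mul, Subgroup.coe_inv, MulAut.mul_apply, MulAut.apply_inv_self]
  · have hsub : ∀ x ∈ M, ∃ hxS : x ∈ S, act ⟨x, hxS⟩ • j = j := fun x hx => (h.mem_mstab (hM hx)).2
    have hMS : M ≤ S := hM.trans inf_le_left
    have hmm : ∀ x : S, (x : Ω) ∈ M → (σ j : Ω)⁻¹ * x * σ j ∈ h.mstab S (o j) := by
      intro x hx
      have := hw x j
      rw [inv_smul_eq_iff.2 (hsub x hx).2.symm] at this
      exact this
    refine ⟨fun x => (τ j : Ω) * f (o j) ((σ j : Ω)⁻¹ * x * σ j) * (τ j : Ω)⁻¹, ?_, fun x hx => ?_⟩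
    · have h1 := (IsMap.conj (F := F) hMS (inv_mem (σ j).2)).comp (hfm (o j)) fun x hx => by
        simpa using hmm ⟨x, hMS hx⟩ hx
      refine (h1.comp (IsMap.conj (F := F) le_rfl (τ j).2) fun x hx => h1.mem hx).congr
        fun x hx => ?_
      simp
    · show (τ j : Ω) * f (o j) _ * (τ j : Ω)⁻¹ = (c x j : Ω)
      rw [hc]
      simp only [inv_smul_eq_iff.2 (hsub x hx).2.symm, Subgroup.coe_mul, Subgroup.coe_inv]

end NC

end Cfsg.Agent.Fusion
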