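import Cfsg.Agent.Lib.Fusion.Centric

/-
Setup for the model theorem: the monomial group attached to a normal centric subgroup `Q`.
Main definitions: `NC` (normal centric data), `NC.pr : S →* Aut_F(Q)`, `NC.mono` (monomial extension
of `Aut_F(Q)`), `NC.trace`, `NC.tker`, `NC.mod` (the quotient, the future model), `IsAdm`.
Main results: `exists_mono_over`, `adm_conj`, `exists_adm`.
-/

set_option autoImplicit false

open scoped Classical IsMulCommutative

namespace Cfsg.Agent.Fusion

open Cfsg Cfsg.FusionSystem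

universe u

variable {Ω : Type u} [Group Ω] {S : Subgroup Ω}

/-- `Q` is a normal centric subgroup of the saturated system `F`. -/
structure NC (F : FusionSystem S) (p : ℕ) (Q : Subgroup Ω) : Prop where
  fin : Finite S
  prime : Fact p.Prime
  pgrp : IsPGroup p S
  sat : F.IsSaturated p
  nor : F.IsNormal Q
  cen : F.IsCentric Q

namespace NC

variable {F : FusionSystem S} {p : ℕ} {Q : Subgroup Ω} (h : NC F p Q)
include h

theorem le : Q ≤ S := h.nor.1

theorem normalizes : S ≤ Subgroup.normalizer (Q : Set Ω) :=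
  have := h.fin
  normalizes_of_stronglyClosed (stronglyClosed_of_normal h.nor)

theorem le_normalizerIn : S ≤ normalizerIn S Q := le_inf le_rfl h.normalizes

theorem centralizer_le : centralizerIn S Q ≤ Q := h.cen.2 Q (isConj_refl F h.le)

theorem mapsTo {P : Subgroup Ω} {f : Ω → Ω} (hf : IsMap F P f) (hQP : Q ≤ P) :
    ∀ q ∈ Q, f q ∈ Q :=
  have := h.fin
  FusionChain.mapsTo_of_normal h.nor hf hQP

theorem isIso {P : Subgroup Ω} {f : Ω → Ω} (hf : IsMap F P f) (hQP : Q ≤ P) : IsIso F Q Q f :=
  have := h.fin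
  ⟨hf.mono hQP, eq_of_le_of_card h.le (hf.img_le hQP (h.mapsTo hf hQP)) (hf.card_img hQP).ge⟩

theorem fullyNormalized : F.IsFullyNormalized Q := by
  refine ⟨h.le, fun R hR => ?_⟩
  obtain ⟨f, hf⟩ := isConj_iff.1 hR
  rw [← hf.2, (h.isIso hf.1 le_rfl).2]

theorem receptive : F.IsReceptive Q :=
  have := h.fin
  have := h.prime
  receptive_of_fullyNormalized h.pgrp h.sat h.fullyNormalized

theorem sylow : IsSylowIn p (autInducedBy S Q) (F.autGroup Q) :=
  have := h.fin
  have := h.prime
  (isFullyAutomized_iff.1 (fullyAutomized_of_fullyNormalized h.pgrp h.sat h.fullyNormalized)).2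

theorem finite_aut : Finite (F.autGroup Q) :=
  have := h.fin
  have := finite_mulAut h.le
  inferInstance

/-- The action of `S` on `Q`. -/
noncomputable def pr : S →* F.autGroup Q :=
  ((normConj S Q).comp (Subgroup.inclusion h.le_normalizerIn)).codRestrict (F.autGroup Q) fun s =>
    autInducedBy_le_autGroup F le_rfl h.le ((range_normConj S Q).le ⟨_, rfl⟩)

theorem pr_apply (s : S) (q : Q) : (((h.pr s : MulAut Q) q : Q) : Ω) = s * q * (s : Ω)⁻¹ := rfl

theorem pr_eq_one_iff (s : S) : h.pr s = 1 ↔ (s : Ω) ∈ centralizerIn S Q := by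
  rw [← Subtype.coe_inj]
  exact normConj_eq_one_iff (Subgroup.inclusion h.le_normalizerIn s)

theorem mem_range_pr {a : F.autGroup Q} :
    a ∈ h.pr.range ↔ (a : MulAut Q) ∈ autInducedBy S Q := by
  rw [mem_autInducedBy_iff]
  constructor
  · rintro ⟨s, rfl⟩
    exact ⟨s, s.2, fun q => rfl⟩
  · rintro ⟨g, hg, e⟩
    exact ⟨⟨g, hg⟩, Subtype.ext (MulEquiv.ext fun q => Subtype.ext (e q).symm)⟩

theorem index_coprime : (h.pr.range.index).Coprime p := by
  have := h.fin
  have := h.prime
  have := finite_mulAut h.le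
  obtain ⟨R, hR⟩ := (isSylowIn_iff_exists h.sylow.le).1 h.sylow
  have hRr : h.pr.range = (R : Subgroup (F.autGroup Q)) := by
    ext a
    rw [h.mem_range_pr, hR]
    rfl
  rw [hRr]
  have hnd := R.not_dvd_index
  exact (h.prime.out.coprime_iff_not_dvd.2 hnd).symm

end NC

/-- The cosets of `Aut_S(Q)` in `Aut_F(Q)`. -/
abbrev NC.Cos {F : FusionSystem S} {p : ℕ} {Q : Subgroup Ω} (h : NC F p Q) : Type u :=
  F.autGroup Q ⧸ h.pr.range

/-- The chosen representative of a coset. -/
noncomputable def NC.rep {F : FusionSystem S} {p : ℕ} {Q : Subgroup Ω} (h : NC F p Q)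
    (j : h.Cos) : F.autGroup Q := Quotient.out j

/-- The action of the automorphisms on tuples indexed by cosets. -/
noncomputable def NC.tupleAct {F : FusionSystem S} {p : ℕ} {Q : Subgroup Ω} (h : NC F p Q) :
    F.autGroup Q →* MulAut (h.Cos → S) := mulAutArrow

/-- The ambient wreath product. -/
abbrev NC.Wr {F : FusionSystem S} {p : ℕ} {Q : Subgroup Ω} (h : NC F p Q) : Type u :=
  (h.Cos → S) ⋊[h.tupleAct] F.autGroup Q

namespace NC

variable {F : FusionSystem S} {p : ℕ} {Q : Subgroup Ω} (h : NC F p Q)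

theorem rep_mk (j : h.Cos) : (h.rep j : F.autGroup Q) • (QuotientGroup.mk 1 : h.Cos) = j := by
  rw [MulAction.Quotient.smul_mk, smul_eq_mul, mul_one]
  exact Quotient.out_eq j

theorem mk_rep (j : h.Cos) : (QuotientGroup.mk (h.rep j) : h.Cos) = j := Quotient.out_eq j

theorem tupleAct_apply (a : F.autGroup Q) (f : h.Cos → S) (j : h.Cos) :
    h.tupleAct a f j = f (a⁻¹ • j) := rfl

theorem exists_pr_eq (a : F.autGroup Q) (j : h.Cos) :
    ∃ s : S, h.pr s = (h.rep j)⁻¹ * a * h.rep (a⁻¹ • j) := by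
  have h1 : (QuotientGroup.mk (h.rep j) : h.Cos) = QuotientGroup.mk (a * h.rep (a⁻¹ • j)) := by
    rw [h.mk_rep, ← smul_eq_mul, ← MulAction.Quotient.smul_mk, h.mk_rep, smul_inv_smul]
  rw [QuotientGroup.eq] at h1
  obtain ⟨s, hs⟩ := h1
  exact ⟨s, by rw [hs, mul_assoc]⟩

/-- The monomial group. -/
noncomputable def mono : Subgroup h.Wr where
  carrier := {e | ∀ j, h.pr (e.left j) = (h.rep j)⁻¹ * e.right * h.rep (e.right⁻¹ • j)}
  one_mem' := fun j => by simp
  mul_mem' := by
    intro e e' he he' j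
    simp only [SemidirectProduct.mul_left, SemidirectProduct.mul_right, Pi.mul_apply,
      tupleAct_apply, map_mul, he j, he' _, mul_inv_rev, mul_smul]
    group
  inv_mem' := by
    intro e he j
    rw [SemidirectProduct.inv_right, SemidirectProduct.inv_left, tupleAct_apply, inv_inv,
      Pi.inv_apply, map_inv, he (e.right • j), inv_smul_smul]
    group

theorem mem_mono {e : h.Wr} :
    e ∈ h.mono ↔ ∀ j, h.pr (e.left j) = (h.rep j)⁻¹ * e.right * h.rep (e.right⁻¹ • j) := Iff.rfl

theorem exists_mono_over (a : F.autGroup Q) : ∃ e ∈ h.mono, e.right = a := by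
  choose f hf using h.exists_pr_eq a
  exact ⟨⟨f, a⟩, hf, rfl⟩

/-- The base of the monomial group. -/
noncomputable def base : Subgroup h.mono := (SemidirectProduct.rightHom.comp h.mono.subtype).ker

theorem mem_base {e : h.mono} : e ∈ h.base ↔ (e : h.Wr).right = 1 := Iff.rfl

theorem base_pr {e : h.mono} (he : e ∈ h.base) (j : h.Cos) : h.pr ((e : h.Wr).left j) = 1 := by
  rw [e.2 j, (show (e : h.Wr).right = 1 from he)]
  simp

/-- An element of `C_S(Q)` as an element of `Z(Q)`. -/
noncomputable def toZ (s : S) (hs : h.pr s = 1) : Subgroup.center Q :=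
  ⟨⟨s, h.centralizer_le ((h.pr_eq_one_iff s).1 hs)⟩, Subgroup.mem_center_iff.2 fun q =>
    Subtype.ext ((mem_centralizerIn.1 ((h.pr_eq_one_iff s).1 hs)).2 q q.2).symm⟩

@[simp] theorem toZ_coe (s : S) (hs : h.pr s = 1) : ((h.toZ s hs : Q) : Ω) = s := rfl

/-- The action of the automorphisms on `Z(Q)`. -/
noncomputable def zAct (_h : NC F p Q) (a : F.autGroup Q) :
    Subgroup.center Q →* Subgroup.center Q :=
  (((a : MulAut Q).toMonoidHom).comp (Subgroup.center Q).subtype).codRestrict _ fun z =>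
    Subgroup.mem_center_iff.2 fun q => by
      obtain ⟨q, rfl⟩ := (a : MulAut Q).surjective q
      show (a : MulAut Q) q * (a : MulAut Q) z = (a : MulAut Q) z * (a : MulAut Q) q
      rw [← map_mul, ← map_mul, Subgroup.mem_center_iff.1 z.2 q]

theorem zAct_coe (a : F.autGroup Q) (z : Subgroup.center Q) :
    ((h.zAct a z : Subgroup.center Q) : Q) = (a : MulAut Q) (z : Q) := rfl

theorem zAct_mul (a b : F.autGroup Q) (z : Subgroup.center Q) :
    h.zAct (a * b) z = h.zAct a (h.zAct b z) := rfl

noncomputable instance cosFintype : Fintype h.Cos :=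
  have := h.finite_aut
  Fintype.ofFinite _

/-- The trace of a base element. -/
noncomputable def trace : h.base →* Subgroup.center Q where
  toFun e := ∏ j, h.zAct (h.rep j) (h.toZ ((e.1 : h.Wr).left j) (h.base_pr e.2 j))
  map_one' := Finset.prod_eq_one fun j _ => by
    convert map_one (h.zAct (h.rep j)) using 2
    exact Subtype.ext (Subtype.ext rfl)
  map_mul' e e' := by
    rw [← Finset.prod_mul_distrib]
    refine Finset.prod_congr rfl fun j _ => ?_
    rw [← map_mul]
    congr 1
    refine Subtype.ext (Subtype.ext ?_)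
    show (((e.1 : h.Wr).left j * h.tupleAct (e.1 : h.Wr).right (e'.1 : h.Wr).left j : S) : Ω) =
      ((e.1 : h.Wr).left j : Ω) * ((e'.1 : h.Wr).left j : Ω)
    rw [(show (e.1 : h.Wr).right = 1 from e.2)]
    simp

/-- The kernel of the trace, as a subgroup of the monomial group. -/
noncomputable def tker : Subgroup h.mono := h.trace.ker.map h.base.subtype

theorem base_normal : h.base.Normal := MonoidHom.normal_ker _

theorem trace_conj (g : h.mono) (e : h.base) :
    h.trace ⟨g * e * g⁻¹, h.base_normal.conj_mem _ e.2 g⟩ =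
      h.zAct (g : h.Wr).right (h.trace e) := by
  show _ = h.zAct (g : h.Wr).right (∏ j, _)
  rw [map_prod]
  refine Fintype.prod_equiv (MulAction.toPerm (g : h.Wr).right⁻¹) _ _ fun j => ?_
  refine Subtype.ext ?_
  simp only [MulAction.toPerm_apply, zAct_coe]
  set a := (g : h.Wr).right
  set i := a⁻¹ • j
  have hg := g.2 j
  have hz : ((g * e.1 * g⁻¹ : h.mono) : h.Wr).left j =
      (g : h.Wr).left j * (e.1 : h.Wr).left i * ((g : h.Wr).left j)⁻¹ := by
    have he : (e.1 : h.Wr).right = 1 := e.2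
    simp only [Subgroup.coe_mul, Subgroup.coe_inv, SemidirectProduct.mul_left,
      SemidirectProduct.mul_right, SemidirectProduct.inv_left, Pi.mul_apply, tupleAct_apply,
      Pi.inv_apply, he, mul_one, inv_inv, mul_smul, smul_inv_smul, a, i]
  have key : (h.toZ _ (h.base_pr (h.base_normal.conj_mem _ e.2 g) j) : Q) =
      (h.pr ((g : h.Wr).left j) : MulAut Q) (h.toZ _ (h.base_pr e.2 i) : Q) :=
    Subtype.ext (congrArg (fun s : S => (s : Ω)) hz)
  rw [key, hg, ← MulAut.mul_apply, ← Subgroup.coe_mul, ← mul_assoc, ← mul_assoc, mul_inv_cancel,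
    one_mul, Subgroup.coe_mul, MulAut.mul_apply]

theorem tker_normal : h.tker.Normal := by
  constructor
  rintro _ ⟨e, he, rfl⟩ g
  refine ⟨⟨g * e * g⁻¹, h.base_normal.conj_mem _ e.2 g⟩, ?_, rfl⟩
  show h.trace _ = 1
  rw [h.trace_conj, (show h.trace e = 1 from he), map_one]

end NC

end Cfsg.Agent.Fusion
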