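import Cfsg.Agent.Lib.Fusion.AbelianOver
import Cfsg.Agent.Lib.Fusion.LocalModel

/-
Systems all of whose automizers are p-groups, and local versions of this property.
Main results: `PAut`, `NPAut`, `CPAut`, `inner_of_pAut`, `pAut_of_inner`, `npaut_of_normalizer_inner`,
`cpaut_of_centralizer_inner`, `normalizer_inner_of_pAut`, `npaut_transfer`, `npaut_factor`,
`pAut_of_central`, `pAut_of_normal_selfCentralizing`.
-/

set_option autoImplicit false

open scoped Classical

namespace Cfsg.Agent.Fusion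

open Cfsg Cfsg.FusionSystem

universe u

variable {Ω : Type*} [Group Ω] {S : Subgroup Ω} {F : FusionSystem S}

/-- All automizers are `p`-groups. -/
def PAut (p : ℕ) (F : FusionSystem S) : Prop :=
  ∀ Q : Subgroup Ω, Q ≤ S → IsPGroup p (F.autGroup Q)

/-- The automizers in the normalizer system of `W` are `p`-groups. -/
def NPAut (p : ℕ) (F : FusionSystem S) (W : Subgroup Ω) : Prop :=
  ∀ A : Subgroup Ω, A ≤ normalizerIn S W → ∀ α ∈ F.autGroup A, ∀ g : Ω → Ω, IsMap F (A ⊔ W) g →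
    (∀ x ∈ A, g x = autFn α x) → (∀ w ∈ W, g w ∈ W) → ∃ n, α ^ p ^ n = 1

/-- The automizers in the centralizer system of `W` are `p`-groups. -/
def CPAut (p : ℕ) (F : FusionSystem S) (W : Subgroup Ω) : Prop :=
  ∀ A : Subgroup Ω, A ≤ centralizerIn S W → ∀ α ∈ F.autGroup A, ∀ g : Ω → Ω, IsMap F (A ⊔ W) g →
    (∀ x ∈ A, g x = autFn α x) → (∀ w ∈ W, g w = w) → ∃ n, α ^ p ^ n = 1

variable {p : ℕ} {W : Subgroup Ω}

theorem PAut.exists_pow (h : PAut p F) {Q : Subgroup Ω} (hQ : Q ≤ S) {α : MulAut Q}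
    (hα : α ∈ F.autGroup Q) : ∃ n, α ^ p ^ n = 1 := by
  obtain ⟨n, hn⟩ := h Q hQ ⟨α, hα⟩
  exact ⟨n, congrArg Subtype.val hn⟩

theorem pAut_of_exists_pow (h : ∀ Q : Subgroup Ω, Q ≤ S → ∀ α ∈ F.autGroup Q, ∃ n, α ^ p ^ n = 1) :
    PAut p F := fun Q hQ α => by
  obtain ⟨n, hn⟩ := h Q hQ α α.2
  exact ⟨n, Subtype.ext hn⟩

theorem PAut.npaut (h : PAut p F) (W : Subgroup Ω) : NPAut p F W :=
  fun _ hA _ hα _ _ _ _ => h.exists_pow (hA.trans inf_le_left) hα

theorem NPAut.cpaut (h : NPAut p F W) : CPAut p F W := fun A hA α hα g hg e hW =>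
  h A (hA.trans (centralizerIn_le_normalizerIn S W)) α hα g hg e fun w hw => (hW w hw).symm ▸ hw

theorem isMap_sub {T : Subgroup Ω} {E : FusionSystem T} (h : E.IsSubsystemOf F) {P : Subgroup Ω}
    {f : Ω → Ω} (hf : IsMap E P f) : IsMap F P f :=
  let ⟨φ, hφ, e⟩ := hf
  ⟨φ, h P hφ, e⟩

theorem le_of_sub {T : Subgroup Ω} {E : FusionSystem T} (h : E.IsSubsystemOf F) : T ≤ S :=
  (isMap_sub h (IsMap.id (F := E) le_rfl)).le

theorem autGroup_sub {T : Subgroup Ω} {E : FusionSystem T} (h : E.IsSubsystemOf F)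
    {Q : Subgroup Ω} (hQ : Q ≤ T) {α : MulAut Q} (hα : α ∈ E.autGroup Q) : α ∈ F.autGroup Q :=
  (mem_autGroup_iff (hQ.trans (le_of_sub h))).2 (isMap_sub h ((mem_autGroup_iff hQ).1 hα))

theorem normalizerIn_mono {T : Subgroup Ω} (h : T ≤ S) (W : Subgroup Ω) :
    normalizerIn T W ≤ normalizerIn S W := inf_le_inf_right _ h

theorem PAut.sub (h : PAut p F) {T : Subgroup Ω} {E : FusionSystem T} (hE : E.IsSubsystemOf F) :
    PAut p E :=
  pAut_of_exists_pow fun _ hQ _ hα => h.exists_pow (hQ.trans (le_of_sub hE)) (autGroup_sub hE hQ hα)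

theorem NPAut.sub (h : NPAut p F W) {T : Subgroup Ω} {E : FusionSystem T}
    (hE : E.IsSubsystemOf F) : NPAut p E W := fun A hA α hα g hg e hW =>
  h A (hA.trans (normalizerIn_mono (le_of_sub hE) W)) α (autGroup_sub hE (hA.trans inf_le_left) hα)
    g (isMap_sub hE hg) e hW

theorem CPAut.sub (h : CPAut p F W) {T : Subgroup Ω} {E : FusionSystem T}
    (hE : E.IsSubsystemOf F) : CPAut p E W := fun A hA α hα g hg e hW =>
  h A (hA.trans (inf_le_inf_right _ (le_of_sub hE))) α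
    (autGroup_sub hE (hA.trans inf_le_left) hα) g (isMap_sub hE hg) e hW

/-! ### Inner systems -/

theorem exists_pow_of_conj (hS : IsPGroup p S) {A : Subgroup Ω} {α : MulAut A} {s : Ω} (hs : s ∈ S)
    (e : ∀ x ∈ A, autFn α x = s * x * s⁻¹) : ∃ n, α ^ p ^ n = 1 := by
  have hmem : α ∈ autInducedBy S A :=
    mem_autInducedBy_iff.2 ⟨s, hs, fun x => (autFn_apply α x.2).symm.trans (e x x.2)⟩
  obtain ⟨n, hn⟩ := isPGroup_autInducedBy hS ⟨α, hmem⟩
  exact ⟨n, congrArg Subtype.val hn⟩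

theorem pAut_of_inner (hS : IsPGroup p S)
    (h : ∀ P : Subgroup Ω, F.Hom P = (innerFusionSystem S).Hom P) : PAut p F :=
  pAut_of_exists_pow fun Q hQ α hα => by
    obtain ⟨-, s, hs, e⟩ := isMap_inner_iff.1
      ((isMap_congr_hom h).1 ((mem_autGroup_iff hQ).1 hα))
    exact exists_pow_of_conj hS hs e

theorem inner_of_pAut [Finite S] [Fact p.Prime] (hS : IsPGroup p S) (hF : F.IsSaturated p)
    (h : PAut p F) : ∀ P : Subgroup Ω, F.Hom P = (innerFusionSystem S).Hom P :=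
  fun P => by rw [eq_inner_of_isPGroup_aut hS hF h]

theorem npaut_of_normalizer_inner [Finite S] (hS : IsPGroup p S) (hW : W ≤ S)
    (h : ∀ E : FusionSystem (normalizerIn S W), F.IsNormalizerSystem W E →
      ∀ P : Subgroup Ω, E.Hom P = (innerFusionSystem (normalizerIn S W)).Hom P) : NPAut p F W := by
  intro A hA α hα g hg e hgW
  obtain ⟨E, hE⟩ := exists_normalizerSystem (F := F) hW
  have hm : IsMap E A (autFn α) := (isMap_normalizer_iff hW hE).2
    ⟨hA, fun x hx => hA (autFn_mem α hx), g, hg, e, hgW⟩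
  obtain ⟨-, s, hs, e'⟩ := isMap_inner_iff.1 ((isMap_congr_hom (h E hE)).1 hm)
  exact exists_pow_of_conj hS hs.1 e'

theorem isMap_centralizer_iff [Finite S] (hW : W ≤ S) {E : FusionSystem (centralizerIn S W)}
    (hE : F.IsCentralizerSystem W E) {P : Subgroup Ω} {f : Ω → Ω} :
    IsMap E P f ↔ P ≤ centralizerIn S W ∧ (∀ x ∈ P, f x ∈ centralizerIn S W) ∧
      ∃ f', IsMap F (P ⊔ W) f' ∧ (∀ x ∈ P, f' x = f x) ∧ ∀ x ∈ W, f' x = x := by
  rw [isMap_congr_hom (E' := kSys F W ⊥ hW) (fun P => (hE P).trans (kSys_bot_hom hW P).symm),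
    isMap_kSys, KRel, NK_bot]
  refine and_congr_right fun _ => and_congr_right fun _ => exists_congr fun f' =>
    and_congr_right fun _ => and_congr_right fun _ => ⟨?_, fun h => ?_⟩
  · rintro ⟨α, hα, e⟩ x hx
    obtain rfl := Subgroup.mem_bot.1 hα
    exact (e ⟨x, hx⟩).symm
  · exact ⟨1, one_mem _, fun x => (h x x.2).symm⟩

theorem exists_centralizerSystem (hW : W ≤ S) :
    ∃ E : FusionSystem (centralizerIn S W), F.IsCentralizerSystem W E :=
  exists_system_congr (NK_bot S W) (kSys F W ⊥ hW) (kSys_bot_hom hW)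

theorem cpaut_of_centralizer_inner [Finite S] (hS : IsPGroup p S) (hW : W ≤ S)
    (h : ∀ E : FusionSystem (centralizerIn S W), F.IsCentralizerSystem W E →
      ∀ P : Subgroup Ω, E.Hom P = (innerFusionSystem (centralizerIn S W)).Hom P) : CPAut p F W := by
  intro A hA α hα g hg e hgW
  obtain ⟨E, hE⟩ := exists_centralizerSystem (F := F) hW
  have hm : IsMap E A (autFn α) := (isMap_centralizer_iff hW hE).2
    ⟨hA, fun x hx => hA (autFn_mem α hx), g, hg, e, hgW⟩
  obtain ⟨-, s, hs, e'⟩ := isMap_inner_iff.1 ((isMap_congr_hom (h E hE)).1 hm)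
  exact exists_pow_of_conj hS hs.1 e'

theorem normalizer_inner_of_inner [Finite S] (hW : W ≤ S)
    (h : ∀ P : Subgroup Ω, F.Hom P = (innerFusionSystem S).Hom P)
    {E : FusionSystem (normalizerIn S W)} (hE : F.IsNormalizerSystem W E) :
    ∀ P : Subgroup Ω, E.Hom P = (innerFusionSystem (normalizerIn S W)).Hom P := by
  suffices h' : E = innerFusionSystem (normalizerIn S W) from fun P => by rw [h']
  refine ext_of_le (le_of_isMap fun P f hf => ?_) (innerFusionSystem_le E)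
  obtain ⟨hP, -, f', hf', e, hfW⟩ := (isMap_normalizer_iff hW hE).1 hf
  obtain ⟨-, s, hs, e'⟩ := isMap_inner_iff.1 ((isMap_congr_hom h).1 hf')
  have := finite_of_le hW
  have hsN : s ∈ normalizerIn S W := mem_normalizerIn_of_conj hs fun x hx =>
    e' x (Subgroup.mem_sup_right hx) ▸ hfW x hx
  exact isMap_inner_iff.2 ⟨hP, s, hsN, fun x hx =>
    (e x hx).symm.trans (e' x (Subgroup.mem_sup_left hx))⟩

theorem pAut_normalizer [Finite S] (hW : W ≤ S) (h : NPAut p F W)
    {E : FusionSystem (normalizerIn S W)} (hE : F.IsNormalizerSystem W E) : PAut p E :=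
  pAut_of_exists_pow fun Q hQ α hα => by
    obtain ⟨-, -, g, hg, e, hgW⟩ := (isMap_normalizer_iff hW hE).1 ((mem_autGroup_iff hQ).1 hα)
    exact h Q hQ α ((mem_autGroup_iff (hQ.trans inf_le_left)).2 ((hg.mono le_sup_left).congr e))
      g hg e hgW

theorem npaut_of_pAut_normalizer [Finite S] (hW : W ≤ S) {E : FusionSystem (normalizerIn S W)}
    (hE : F.IsNormalizerSystem W E) (h : PAut p E) : NPAut p F W := fun A hA α _ g hg e hgW =>
  h.exists_pow hA ((mem_autGroup_iff hA).2 ((isMap_normalizer_iff hW hE).2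
    ⟨hA, fun _ hx => hA (autFn_mem α hx), g, hg, e, hgW⟩))

theorem sub_normalizer {E : FusionSystem (normalizerIn S W)} (hE : F.IsNormalizerSystem W E) :
    E.IsSubsystemOf F := fun P φ hφ => ((hE P).le hφ).1

/-! ### Transport and factor systems -/

/-- Transport along a map defined on the normalizer. -/
theorem npaut_transfer [Finite S] (hW : W ≤ S) {f : Ω → Ω} (hf : IsMap F (normalizerIn S W) f)
    (h : NPAut p F (img f W)) : NPAut p F W := by
  intro A hA α hα g hg e hgW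
  have hWN : W ≤ normalizerIn S W := le_normalizerIn hW
  have hAW : A ⊔ W ≤ normalizerIn S W := sup_le hA hWN
  set A' := img f A
  have hfA : IsIso F A A' f := hf.isIso_of_mono hA
  set M := img f (A ⊔ W)
  have hfM : IsIso F (A ⊔ W) M f := hf.isIso_of_mono hAW
  obtain ⟨finv, hfinv, hfinvf, -⟩ := hfM.symm
  have hgM : ∀ x ∈ A ⊔ W, g x ∈ A ⊔ W := fun x hx => hg.forall_mem_sup le_sup_left le_sup_right
    (fun a ha => Subgroup.mem_sup_left (e a ha ▸ autFn_mem α ha))
    (fun w hw => Subgroup.mem_sup_right (hgW w hw)) hx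
  have hg' : IsMap F M (fun y => f (g (finv y))) :=
    (hfinv.1.comp hg fun y hy => hfinv.mem hy).comp hfM.1 fun y hy => hgM _ (hfinv.mem hy)
  have hle : A' ⊔ img f W ≤ M := sup_le (Subgroup.closure_mono (Set.image_mono
    (le_sup_left : A ≤ A ⊔ W))) (Subgroup.closure_mono (Set.image_mono
    (le_sup_right : W ≤ A ⊔ W)))
  have hA'N : A' ≤ normalizerIn S (img f W) := hf.img_le hA fun a ha =>
    map_normalizerIn hf hWN rfl (hA ha) (hA ha)
  suffices hh : (∀ y ∈ A', f (g (finv y)) = autFn (MulAut.congr hfA.equiv α) y) ∧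
      ∀ y ∈ img f W, f (g (finv y)) ∈ img f W by
    obtain ⟨n, hn⟩ := h A' hA'N (MulAut.congr hfA.equiv α) (congr_mem_autGroup hfA hα)
      (fun y => f (g (finv y))) (hg'.mono hle) hh.1 hh.2
    refine ⟨n, (MulAut.congr hfA.equiv).injective ?_⟩
    rw [map_pow, map_one, hn]
  refine ⟨fun y hy => ?_, fun y hy => ?_⟩
  · obtain ⟨x, hx, rfl⟩ := hfA.exists_eq hy
    rw [autFn_apply _ hy, hfinvf x (Subgroup.mem_sup_left hx), e x hx, autFn_apply α hx]
    exact (congr_apply_coe hfA α ⟨x, hx⟩).symm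
  · obtain ⟨w, hw, rfl⟩ := (hf.mem_img_iff hWN).1 hy
    rw [hfinvf w (Subgroup.mem_sup_right hw)]
    exact hf.mem_img (hgW w hw)

variable {Ω' : Type*} [Group Ω'] {S' : Subgroup Ω'} {S₀ : Subgroup Ω} {θ : S →* Ω'}
  {E : FusionSystem S'}

theorem QData.pow_compat (D : QData F S₀ θ S') {Q : Subgroup Ω} {A : Subgroup Ω'}
    (hmem : ∀ x ∈ Q, thF θ x ∈ A) {a : MulAut Q} {α : MulAut A}
    (h : ∀ (x : Ω) (hx : x ∈ Q),
      ((α ⟨thF θ x, hmem x hx⟩ : A) : Ω') = thF θ ((a ⟨x, hx⟩ : Q) : Ω))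
    (n : ℕ) (x : Ω) (hx : x ∈ Q) :
    (((α ^ n) ⟨thF θ x, hmem x hx⟩ : A) : Ω') = thF θ (((a ^ n) ⟨x, hx⟩ : Q) : Ω) := by
  have _ := D
  induction n generalizing x with
  | zero => simp
  | succ n ih =>
    rw [pow_succ', pow_succ', MulAut.mul_apply, MulAut.mul_apply, ← h _ (Subtype.prop _)]
    exact congrArg (fun y : A => ((α y : A) : Ω')) (Subtype.ext (ih x hx))

/-- Automorphisms of the factor system lift. -/
theorem QData.exists_lift_aut [Finite S] (D : QData F S₀ θ S') (hE : F.IsFactorSystem S₀ θ E)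
    {A : Subgroup Ω'} (hA : A ≤ S') {α : MulAut A} (hα : α ∈ E.autGroup A) :
    ∃ a ∈ F.autGroup (preimageAlong θ A), ∀ (x : Ω) (hx : x ∈ preimageAlong θ A),
      ((α ⟨thF θ x, (mem_preimageAlong.1 hx).2⟩ : A) : Ω') =
        thF θ ((a ⟨x, hx⟩ : preimageAlong θ A) : Ω) := by
  obtain ⟨f, hf, e⟩ := D.exists_lift_iso hE (isIso_autFn hA hα)
  obtain ⟨a, ha, hae⟩ := exists_aut_of_isIso hf
  exact ⟨a, ha, fun x hx => by rw [hae ⟨x, hx⟩, ← autFn_apply α (mem_preimageAlong.1 hx).2, e x hx]⟩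

theorem npaut_factor [Finite S] (D : QData F S₀ θ S') (hE : F.IsFactorSystem S₀ θ E)
    {W' : Subgroup Ω'} (hW' : W' ≤ S') (h : NPAut p F (preimageAlong θ W')) : NPAut p E W' := by
  intro A hA α hα g' hg' e hgW
  have hAS : A ≤ S' := hA.trans inf_le_left
  obtain ⟨-, g, hg, hgg'⟩ := (QData.isMap_factor_iff hE).1 hg'
  set B := preimageAlong θ A
  have hBM : B ⊔ preimageAlong θ W' ≤ preimageAlong θ (A ⊔ W') := sup_le
    (fun x hx => mem_preimageAlong.2 ⟨(mem_preimageAlong.1 hx).1,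
      Subgroup.mem_sup_left (mem_preimageAlong.1 hx).2⟩)
    (fun x hx => mem_preimageAlong.2 ⟨(mem_preimageAlong.1 hx).1,
      Subgroup.mem_sup_right (mem_preimageAlong.1 hx).2⟩)
  have hB : B ≤ preimageAlong θ (A ⊔ W') := le_sup_left.trans hBM
  have hgB : ∀ x ∈ B, g x ∈ B := fun x hx => mem_preimageAlong.2 ⟨hg.mem (hB hx), by
    rw [← hgg' x (hB hx), e _ (mem_preimageAlong.1 hx).2]
    exact autFn_mem α (mem_preimageAlong.1 hx).2⟩
  have hBS : B ≤ S := preimageAlong_le θ A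
  obtain ⟨a, ha, hae⟩ := exists_aut_of_isIso (F := F) (f := g) (P := B)
    ⟨hg.mono hB, eq_of_le_of_card hBS ((hg.mono hB).img_le le_rfl hgB)
      ((hg.mono hB).card_img le_rfl).ge⟩
  have hBN : B ≤ normalizerIn S (preimageAlong θ W') := by
    rw [← D.preimage_normalizer hW']
    exact fun x hx => mem_preimageAlong.2
      ⟨(mem_preimageAlong.1 hx).1, hA (mem_preimageAlong.1 hx).2⟩
  obtain ⟨n, hn⟩ := h B hBN a ha g (hg.mono hBM)
    (fun x hx => by rw [autFn_apply a hx, hae ⟨x, hx⟩]) fun w hw => by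
      have hwM := hBM (Subgroup.mem_sup_right hw)
      exact mem_preimageAlong.2 ⟨hg.mem hwM, by
        rw [← hgg' w hwM]; exact hgW _ (mem_preimageAlong.1 hw).2⟩
  refine ⟨n, MulEquiv.ext fun y => Subtype.ext ?_⟩
  obtain ⟨x, hx, ex⟩ := D.exists_eq (hAS y.2)
  have hxB : x ∈ B := mem_preimageAlong.2 ⟨hx, ex.symm ▸ y.2⟩
  rw [show y = ⟨thF θ x, (mem_preimageAlong.1 hxB).2⟩ from Subtype.ext ex.symm,
    D.pow_compat (fun z hz => (mem_preimageAlong.1 hz).2)
      (fun z hz => by rw [← autFn_apply α (mem_preimageAlong.1 hz).2,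
        ← e _ (mem_preimageAlong.1 hz).2, hgg' z (hB hz), hae ⟨z, hz⟩]) (p ^ n) x hxB, hn]
  rfl

/-- A central subgroup with `p`-group automizers in the factor system. -/
theorem pAut_of_central [Finite S] [Fact p.Prime] (hS : IsPGroup p S) (D : QData F S₀ θ S')
    (hE : F.IsFactorSystem S₀ θ E) (hn : F.IsNormal S₀)
    (hfix : ∀ P f, IsMap F P f → ∀ x ∈ P, x ∈ S₀ → f x = x) (h : PAut p E) : PAut p F := by
  refine pAut_of_exists_pow fun Q hQ α hα => ?_
  have := finite_mulAut hQ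
  obtain ⟨k, hk⟩ := FusionChain.exists_pow_coprime p α
  refine ⟨k, ?_⟩
  set b := α ^ p ^ k
  have hbF : b ∈ F.autGroup Q := pow_mem hα _
  obtain ⟨g, hg, hgb, hgS₀⟩ := (FusionChain.isNormal_iff.1 hn).2 Q _ (isIso_autFn hQ hbF).1
  obtain ⟨g', hg', hgg'⟩ := D.isMap_image hE hg le_sup_right
  set A := imageAlong θ Q
  have hmem : ∀ x ∈ Q, thF θ x ∈ A := fun x hx => mem_imageAlong.2 ⟨x, hx, hQ hx, rfl⟩
  have hAle : A ≤ imageAlong θ (Q ⊔ S₀) := fun y hy => by
    obtain ⟨x, hx, hxS, rfl⟩ := mem_imageAlong.1 hy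
    exact mem_imageAlong.2 ⟨x, Subgroup.mem_sup_left hx, hxS, rfl⟩
  have := D.finite_S'
  have hAS : A ≤ S' := fun y hy => by
    obtain ⟨x, -, hxS, rfl⟩ := mem_imageAlong.1 hy
    exact D.thF_mem hxS
  have hgA : ∀ y ∈ A, g' y ∈ A := fun y hy => by
    obtain ⟨x, hx, hxS, rfl⟩ := mem_imageAlong.1 hy
    rw [hgg' x (Subgroup.mem_sup_left hx), hgb x hx]
    exact hmem _ (autFn_mem b hx)
  obtain ⟨β, hβ, hβe⟩ := exists_aut_of_isIso (F := E) (f := g') (P := A)
    ⟨hg'.mono hAle, eq_of_le_of_card hAS ((hg'.mono hAle).img_le le_rfl hgA)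
      ((hg'.mono hAle).card_img le_rfl).ge⟩
  obtain ⟨n, hn'⟩ := h.exists_pow hAS hβ
  have hcop : (orderOf (b ^ p ^ n)).Coprime p := hk.coprime_dvd_left (orderOf_pow_dvd _)
  have h1 : b ^ p ^ n = 1 := MulEquiv.ext fun x => by
    refine FusionChain.eq_self_of_stab (hS.to_le hQ) _ hcop (S₀.subgroupOf Q) (fun u hu => ?_) x ?_
    · have hm := (isIso_autFn hQ (pow_mem hbF (p ^ n))).1
      have := hfix Q _ hm u u.2 hu
      rw [autFn_apply _ u.2] at this
      exact Subtype.ext this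
    · have e1 := D.pow_compat hmem (fun z hz => by
        rw [hβe, hgg' z (Subgroup.mem_sup_left hz), hgb z hz, autFn_apply b hz]) (p ^ n) x x.2
      rw [hn'] at e1
      exact (D.thF_eq_iff (hQ x.2) (hQ (Subtype.prop _))).1 e1
  exact orderOf_eq_one_iff.1 (Nat.eq_one_of_dvd_coprimes (hk.pow_right n) dvd_rfl
    (orderOf_dvd_of_pow_eq_one h1))

/-- A normal self-centralizing subgroup with `p`-group automizer forces all automizers to be
`p`-groups. -/
theorem pAut_of_normal_selfCentralizing [Finite S] [Fact p.Prime] (hS : IsPGroup p S)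
    (hF : F.IsSaturated p) {J : Subgroup Ω} (hJ : F.IsNormal J)
    (hC : centralizerIn S J ≤ J) (hA : IsPGroup p (F.autGroup J)) : PAut p F := by
  refine pAut_of_exists_pow fun Q hQ α hα => ?_
  set R := Q ⊔ J
  have hRS : R ≤ S := sup_le hQ hJ.1
  have := finite_mulAut hRS
  have hRn : R ≤ Subgroup.normalizer (J : Set Ω) :=
    hRS.trans (normalizes_of_stronglyClosed (stronglyClosed_of_normal hJ))
  have key : ∀ c ∈ F.autGroup R, ∃ n, c ^ p ^ n = 1 := by
    intro c hc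
    obtain ⟨k, hk⟩ := FusionChain.exists_pow_coprime p c
    refine ⟨k, ?_⟩
    set d := c ^ p ^ k
    have hd : d ∈ F.autGroup R := pow_mem hc _
    have hm := (isIso_autFn hRS hd).1
    obtain ⟨s, hs, hse⟩ := conj_of_normal_pAut hS hF hJ hA hm
    have hfixJ : ∀ x : R, (x : Ω) ∈ J → d x = x := by
      obtain ⟨m, hm'⟩ := IsPGroup.iff_orderOf.1 hS ⟨s, hs⟩
      have hsm : s ^ p ^ m = 1 := by
        have := pow_orderOf_eq_one (⟨s, hs⟩ : S)
        rw [hm'] at this
        exact congrArg Subtype.val this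
      intro x hx
      obtain ⟨j, hj⟩ := exists_pow_eq_self_of_coprime (n := p ^ m) (x := d)
        (hk.pow_right m).symm
      have hpow : ∀ (i : ℕ) (y : R), (y : Ω) ∈ J →
          (((d ^ i) y : R) : Ω) = s ^ i * y * (s ^ i)⁻¹ ∧ (((d ^ i) y : R) : Ω) ∈ J := by
        intro i
        induction i with
        | zero => intro y hy; simp [hy]
        | succ i ih =>
          intro y hy
          obtain ⟨h1, h2⟩ := ih y hy
          have h3 := hse _ (Subtype.prop _) h2
          rw [autFn_apply d (Subtype.prop _)] at h3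
          rw [pow_succ', MulAut.mul_apply, h3]
          refine ⟨by rw [h1, pow_succ']; group, ?_⟩
          exact (Subgroup.mem_normalizer_iff.1
            (normalizes_of_stronglyClosed (stronglyClosed_of_normal hJ) hs) _).1 h2
      have h4 := (hpow (p ^ m * j) x hx).1
      rw [pow_mul, pow_mul, hsm, hj, one_pow] at h4
      exact Subtype.ext (by simpa using h4)
    refine MulEquiv.ext fun x => ?_
    refine FusionChain.eq_self_of_stab (hS.to_le hRS) d hk (J.subgroupOf R) hfixJ x ?_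
    have h5 := inv_mul_mem_of_fix hC hRS hRn le_sup_right hm
      (fun q hq => by
        rw [autFn_apply d (Subgroup.mem_sup_right hq)]
        exact congrArg Subtype.val (hfixJ ⟨q, Subgroup.mem_sup_right hq⟩ hq)) x.2
    rw [autFn_apply d x.2] at h5
    exact h5
  obtain ⟨g, hg, hgα, hgJ⟩ := (FusionChain.isNormal_iff.1 hJ).2 Q _ (isIso_autFn hQ hα).1
  have hgR : ∀ x ∈ R, g x ∈ R := fun x hx => hg.forall_mem_sup le_sup_left le_sup_right
    (fun a ha => Subgroup.mem_sup_left (hgα a ha ▸ autFn_mem α ha))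
    (fun a ha => Subgroup.mem_sup_right (hgJ a ha)) hx
  obtain ⟨c, hc, hce⟩ := exists_aut_of_isIso (F := F) (f := g) (P := R)
    ⟨hg, eq_of_le_of_card hRS (hg.img_le le_rfl hgR) (hg.card_img le_rfl).ge⟩
  obtain ⟨n, hn⟩ := key c hc
  refine ⟨n, MulEquiv.ext fun x => Subtype.ext ?_⟩
  have hcomp : ∀ (i : ℕ) (y : Q), (((α ^ i) y : Q) : Ω) =
      ((c ^ i) ⟨y, Subgroup.mem_sup_left y.2⟩ : R) := by
    intro i
    induction i with
    | zero => intro y; simp
    | succ i ih =>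
      intro y
      rw [pow_succ', pow_succ', MulAut.mul_apply, MulAut.mul_apply]
      have h1 : (c ^ i) ⟨y, Subgroup.mem_sup_left y.2⟩ =
          ⟨((α ^ i) y : Q), Subgroup.mem_sup_left (Subtype.prop _)⟩ := Subtype.ext (ih y).symm
      rw [h1, hce, hgα _ (Subtype.prop _), autFn_apply α (Subtype.prop _)]
  rw [hcomp, hn]
  rfl

end Cfsg.Agent.Fusion
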