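import Cfsg.Agent.Lib.Fusion.SectionFree
import Cfsg.Agent.Lib.Fusion.Group
import Cfsg.Agent.Lib.QdCrit.Basic
import Cfsg.Agent.Lib.Qd.Basic
import Cfsg.Agent.Lib.WCCenter.Core

/-
`Qd(p)`-sections of a finite group are seen in the models of its fusion system.
Main results: `group_normalizer_realized`, `group_model_map`, `QdData`, `isSectionFree_group_iff`.
-/

set_option autoImplicit false

open scoped Classical commutatorElement

namespace Cfsg.Agent.Fusion

open Cfsg Cfsg.FusionSystem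

universe u v w

variable {G : Type u} [Group G] [Finite G] {p : ℕ} [Fact p.Prime]

/-- The inclusion of `N_S(Q)` in `N_G(Q)`. -/
def normIncl (S Q : Subgroup G) : ↥(normalizerIn S Q) →* ↥(Subgroup.normalizer (Q : Set G)) :=
  Subgroup.inclusion inf_le_right

theorem group_normalizer_realized {S Q : Subgroup G} (hQ : Q ≤ S)
    {E : FusionSystem (normalizerIn S Q)} (hE : (groupFusionSystem S).IsNormalizerSystem Q E) :
    E.IsRealizedBy (normIncl S Q) := by
  refine ⟨Subgroup.inclusion_injective _, fun A hA φ hφ => ⟨fun h => ?_, ?_⟩⟩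
  · obtain ⟨-, -, f', hf', e, hfQ⟩ := (isMap_normalizer_iff hQ hE).1 (isMap_toFn h)
    obtain ⟨-, g, hg⟩ := isMap_group_iff.1 hf'
    have hgQ : g ∈ Subgroup.normalizer (Q : Set G) := by
      rw [PLocal.mem_normalizer_iff_map_eq]
      refine Subgroup.eq_of_le_of_card_ge ?_ (WCCenter.card_map_conj g _).ge
      rintro _ ⟨x, hx, rfl⟩
      have := hfQ x hx
      rwa [(hg x (Subgroup.mem_sup_right hx)).2] at this
    refine ⟨⟨g, hgQ⟩, fun x => Subtype.ext ?_⟩
    show φ x = g * (x : G) * g⁻¹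
    rw [← toFn_coe φ x, ← e x x.2, (hg x (Subgroup.mem_sup_left x.2)).2]
  · rintro ⟨g, hg⟩
    have hg' : ∀ x : A, φ x = (g : G) * (x : G) * (g : G)⁻¹ := fun x => congrArg Subtype.val (hg x)
    refine mem_of_isMap (f := toFn φ) ((isMap_normalizer_iff hQ hE).2 ⟨hA,
      fun x hx => by rw [toFn_apply φ hx]; exact hφ _, fun x => (g : G) * x * (g : G)⁻¹,
      isMap_group_iff.2 ⟨sup_le (hA.trans inf_le_left) hQ, g, fun x hx => ⟨?_, rfl⟩⟩,
      fun x hx => by rw [toFn_apply φ hx, hg'],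
      fun x hx => (Subgroup.mem_normalizer_iff.1 g.2 x).1 hx⟩) fun x => (toFn_coe φ x).symm
    have hle : A ⊔ Q ≤ S.comap (MulAut.conj (g : G)).toMonoidHom := by
      refine sup_le (fun y hy => ?_) fun y hy => hQ ((Subgroup.mem_normalizer_iff.1 g.2 y).1 hy)
      show (g : G) * y * (g : G)⁻¹ ∈ S
      rw [← hg' ⟨y, hy⟩]
      exact (hφ _).1
    exact hle hx

/-- `N_G(Q)` maps onto every model of a fully normalized centric subgroup. -/
theorem group_model_map (T : Sylow p G) {Q : Subgroup G}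
    (hn : (groupFusionSystem (T : Subgroup G)).IsFullyNormalized Q)
    (hc : (groupFusionSystem (T : Subgroup G)).IsCentric Q)
    {E : FusionSystem (normalizerIn (T : Subgroup G) Q)}
    (hE : (groupFusionSystem (T : Subgroup G)).IsNormalizerSystem Q E)
    {L : Type w} [Group L] {κ : ↥(normalizerIn (T : Subgroup G) Q) →* L} (hL : E.IsModel p L κ) :
    ∃ π : ↥(Subgroup.normalizer (Q : Set G)) →* L, Function.Surjective π ∧
      ∀ t, π (normIncl (T : Subgroup G) Q t) = κ t := by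
  have hsat := isSaturated_group T
  refine exists_onto_model (nc_normalizer T.isPGroup' hsat hn hc hE)
    (group_normalizer_realized hn.1 hE) (fun g x hx => ?_) (fun g hg hk => ?_) hL
  · have := (Subgroup.mem_normalizer_iff.1 g.2 (x : G)).1 hx
    exact ⟨⟨_, le_normalizerIn hn.1 this⟩, this, rfl⟩
  · have hC := (fullyCentralized_group_iff T hn.1).1
      (fullyCentralized_of_fullyNormalized T.isPGroup' hsat hn)
    have hCQ := hc.2 Q (isConj_refl _ hn.1)
    have hgC : (g : G) ∈ Subgroup.centralizer (Q : Set G) :=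
      Subgroup.mem_centralizer_iff.2 fun y hy =>
        (mul_inv_eq_iff_eq_mul.1 (congrArg Subtype.val (hg ⟨y, le_normalizerIn hn.1 hy⟩ hy))).symm
    obtain ⟨k, hk⟩ := hk
    have hp : IsPGroup p (Subgroup.zpowers (g : G)) :=
      IsPGroup.of_card (n := k) (by rw [Nat.card_zpowers, orderOf_submonoid, hk])
    obtain ⟨a, ha, hconj⟩ := hC.exists_conj_le hp (Subgroup.zpowers_le.2 hgC)
    have h1 := hconj _ (Subgroup.mem_zpowers (g : G))
    have h2 : (g : G) = a * g * a⁻¹ := by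
      have e := Subgroup.mem_centralizer_iff.1 ha _ (hCQ h1)
      calc (g : G) = a⁻¹ * (a * g * a⁻¹ * a) := by group
        _ = a⁻¹ * (a * (a * g * a⁻¹)) := by rw [e]
        _ = a * g * a⁻¹ := by group
    rw [← h2] at h1
    exact ⟨⟨g, le_normalizerIn hn.1 (hCQ h1)⟩, hCQ h1, Subtype.ext rfl⟩

/-- Generators of a section `Qd(p)` normalising `Q`. -/
structure QdData (p : ℕ) (Q : Subgroup G) (W₀ : Subgroup G) (w v a b : G) : Prop where
  le : W₀ ≤ Q
  hw : w ∈ Q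
  hv : v ∈ Q
  hwn : w ∈ Subgroup.normalizer (W₀ : Set G)
  hvn : v ∈ Subgroup.normalizer (W₀ : Set G)
  ha : a ∈ Subgroup.normalizer (Q : Set G) ⊓ Subgroup.normalizer (W₀ : Set G)
  hb : b ∈ Subgroup.normalizer (Q : Set G) ⊓ Subgroup.normalizer (W₀ : Set G)
  w1 : w ∉ W₀
  wp : w ^ p ∈ W₀
  vp : v ^ p ∈ W₀
  wv : ⁅w, v⁆ ∈ W₀
  aw : a * w * a⁻¹ * w⁻¹ ∈ W₀
  av : a * v * a⁻¹ * (w * v)⁻¹ ∈ W₀
  bw : b * w * b⁻¹ * (w * v)⁻¹ ∈ W₀
  bv : b * v * b⁻¹ * v⁻¹ ∈ W₀

theorem QdData.map {Q W₀ : Subgroup G} {w v a b : G} (d : QdData p Q W₀ w v a b) (f : G ≃* G) :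
    QdData p (Q.map f.toMonoidHom) (W₀.map f.toMonoidHom) (f w) (f v) (f a) (f b) := by
  have hmem : ∀ {K : Subgroup G} {x : G}, x ∈ K → f x ∈ K.map f.toMonoidHom :=
    fun hx => ⟨_, hx, rfl⟩
  have hN : ∀ {K : Subgroup G} {x : G}, x ∈ Subgroup.normalizer (K : Set G) →
      f x ∈ Subgroup.normalizer ((K.map f.toMonoidHom : Subgroup G) : Set G) :=
    fun hx => Subgroup.le_normalizer_map f.toMonoidHom ⟨_, hx, rfl⟩
  refine ⟨Subgroup.map_mono d.le, hmem d.hw, hmem d.hv, hN d.hwn, hN d.hvn, ⟨hN d.ha.1, hN d.ha.2⟩,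
    ⟨hN d.hb.1, hN d.hb.2⟩, fun h => d.w1 ?_, ?_, ?_, ?_, ?_, ?_, ?_, ?_⟩
  · obtain ⟨x, hx, e⟩ := h
    rwa [← f.injective e]
  · rw [← map_pow]; exact hmem d.wp
  · rw [← map_pow]; exact hmem d.vp
  · rw [← map_commutatorElement]; exact hmem d.wv
  · simpa using hmem d.aw
  · simpa using hmem d.av
  · simpa using hmem d.bw
  · simpa using hmem d.bv

/-- Such data in a local subgroup give `Qd(p)` in the model. -/
theorem QdData.involves (hp : p ≠ 2) {T : Subgroup G} {Q W₀ : Subgroup G} {w v a b : G}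
    (d : QdData p Q W₀ w v a b) (hQT : Q ≤ T) {L : Type w} [Group L] [Finite L]
    (π : ↥(Subgroup.normalizer (Q : Set G)) →* L) {κ : ↥(normalizerIn T Q) →* L}
    (hκ : Function.Injective κ) (hπ : ∀ t, π (normIncl T Q t) = κ t) :
    Cfsg.Involves ↥(Cfsg.qd p) L := by
  set X : Subgroup L := (W₀.subgroupOf (Subgroup.normalizer (Q : Set G))).map π
  have hQN : Q ≤ (Subgroup.normalizer (Q : Set G)) := Subgroup.le_normalizer
  set M := Subgroup.normalizer (X : Set L)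
  have hM : ∀ (x : G) (hx : x ∈ (Subgroup.normalizer (Q : Set G))), x ∈ Subgroup.normalizer (W₀ : Set G) → π ⟨x, hx⟩ ∈ M :=
    fun x hx hxW => Subgroup.le_normalizer_map π
      ⟨⟨x, hx⟩, Subgroup.mem_normalizer_iff.2 fun y => Subgroup.mem_normalizer_iff.1 hxW y, rfl⟩
  let w' : M := ⟨π ⟨w, hQN d.hw⟩, hM _ _ d.hwn⟩
  let v' : M := ⟨π ⟨v, hQN d.hv⟩, hM _ _ d.hvn⟩
  let a' : M := ⟨π ⟨a, d.ha.1⟩, hM _ _ d.ha.2⟩
  let b' : M := ⟨π ⟨b, d.hb.1⟩, hM _ _ d.hb.2⟩
  haveI hn : (X.subgroupOf M).Normal := Subgroup.normal_in_normalizer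
  have hX : ∀ (z : (Subgroup.normalizer (Q : Set G))), (z : G) ∈ W₀ → π z ∈ X := fun z hz => ⟨z, hz, rfl⟩
  set q := QuotientGroup.mk' (X.subgroupOf M)
  have h1 : ∀ z : M, (z : L) ∈ X → q z = 1 := fun z hz => (QuotientGroup.eq_one_iff z).2 hz
  have heq : ∀ y z : M, ((y * z⁻¹ : M) : L) ∈ X → q y = q z := fun y z h => by
    rw [← mul_inv_eq_one, ← map_inv, ← map_mul]
    exact h1 _ h
  have e1 : q (a' * w' * a'⁻¹) = q w' :=
    heq _ _ (by have h := hX (⟨a, d.ha.1⟩ * ⟨w, hQN d.hw⟩ * (⟨a, d.ha.1⟩ : (Subgroup.normalizer (Q : Set G)))⁻¹ * (⟨w, hQN d.hw⟩ : (Subgroup.normalizer (Q : Set G)))⁻¹) d.aw; simp only [map_mul, map_inv] at h; exact h)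
  have e2 : q (a' * v' * a'⁻¹) = q (w' * v') :=
    heq _ _ (by have h := hX (⟨a, d.ha.1⟩ * ⟨v, hQN d.hv⟩ * (⟨a, d.ha.1⟩ : (Subgroup.normalizer (Q : Set G)))⁻¹ *
      ((⟨w, hQN d.hw⟩ : (Subgroup.normalizer (Q : Set G))) * ⟨v, hQN d.hv⟩)⁻¹) d.av; simp only [map_mul, map_inv] at h; exact h)
  have e3 : q (b' * w' * b'⁻¹) = q (w' * v') :=
    heq _ _ (by have h := hX (⟨b, d.hb.1⟩ * ⟨w, hQN d.hw⟩ * (⟨b, d.hb.1⟩ : (Subgroup.normalizer (Q : Set G)))⁻¹ *
      ((⟨w, hQN d.hw⟩ : (Subgroup.normalizer (Q : Set G))) * ⟨v, hQN d.hv⟩)⁻¹) d.bw; simp only [map_mul, map_inv] at h; exact h)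
  have e4 : q (b' * v' * b'⁻¹) = q v' :=
    heq _ _ (by have h := hX (⟨b, d.hb.1⟩ * ⟨v, hQN d.hv⟩ * (⟨b, d.hb.1⟩ : (Subgroup.normalizer (Q : Set G)))⁻¹ * (⟨v, hQN d.hv⟩ : (Subgroup.normalizer (Q : Set G)))⁻¹) d.bv; simp only [map_mul, map_inv] at h; exact h)
  have hw1 : q w' ≠ 1 := fun h => by
    obtain ⟨z, hz, e⟩ := (QuotientGroup.eq_one_iff w').1 h
    have hzT : (z : G) ∈ normalizerIn T Q := ⟨hQT (d.le hz), z.2⟩
    have hwT : w ∈ normalizerIn T Q := le_normalizerIn hQT d.hw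
    have e' : κ ⟨z, hzT⟩ = κ ⟨w, hwT⟩ := by rw [← hπ, ← hπ]; exact e
    have h2 : (z : G) = w := congrArg Subtype.val (hκ e')
    exact d.w1 (h2 ▸ hz)
  have hwp : q w' ^ p = 1 := by
    rw [← map_pow]
    exact h1 _ (by have h := hX ((⟨w, hQN d.hw⟩ : (Subgroup.normalizer (Q : Set G))) ^ p) d.wp; rw [map_pow] at h; exact h)
  have hvp : q v' ^ p = 1 := by
    rw [← map_pow]
    exact h1 _ (by have h := hX ((⟨v, hQN d.hv⟩ : (Subgroup.normalizer (Q : Set G))) ^ p) d.vp; rw [map_pow] at h; exact h)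
  have hwv : Commute (q w') (q v') := by
    rw [Commute, SemiconjBy, ← commutatorElement_eq_one_iff_mul_comm, ← map_commutatorElement]
    exact h1 _ (by
      have h := hX ⁅(⟨w, hQN d.hw⟩ : (Subgroup.normalizer (Q : Set G))), ⟨v, hQN d.hv⟩⁆ d.wv
      simp only [commutatorElement_def, map_mul, map_inv] at h
      exact h)
  refine Agent.Involves.involves_of_subgroup (N := M) (Agent.Involves.involves_of_surjective q
    (QuotientGroup.mk'_surjective _) (QdCrit.involves_qd_of_pair hp hw1 hwp hvp hwv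
      (a := q a') (b := q b') ?_ ?_ ?_ ?_))
  · simpa [map_mul, map_inv] using e1
  · simpa [map_mul, map_inv] using e2
  · simpa [map_mul, map_inv] using e3
  · simpa [map_mul, map_inv] using e4

/-- `F_T(G)` is `Qd(p)`-free exactly when `G` is. -/
theorem isSectionFree_group_iff (hp : p ≠ 2) (T : Sylow p G) :
    (groupFusionSystem (T : Subgroup G)).IsSectionFree p ↥(Cfsg.qd p) ↔
      ¬ Cfsg.Involves ↥(Cfsg.qd p) G := by
  constructor
  swap
  · intro hno Q hn hc E hE L _ κ hκ hinv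
    obtain ⟨π, hπ, -⟩ := group_model_map T hn hc hE hκ
    exact hno (Agent.Involves.involves_of_subgroup (Agent.Involves.involves_of_surjective π hπ hinv))
  intro hfree hinv
  obtain ⟨K, f, hf⟩ := Agent.Involves.exists_hom_of_involves hinv
  -- a p-subgroup covering the translations
  set D := (Qd.transE p).comap f
  haveI : D.Normal := (Qd.transE_normal p).comap f
  obtain ⟨P₀, hP₀⟩ := exists_isSylowIn p D
  have himg : ∀ q ∈ Qd.transE p, ∃ x ∈ P₀, f x = q := by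
    intro q hq
    have h := hP₀.image f
    have hle : D.map f ≤ P₀.map f :=
      (h.2.2 (D.map f) h.1 le_rfl ((Qd.isPGroup_transE p).to_le (Subgroup.map_comap_le _ _))).le
    obtain ⟨k, rfl⟩ := hf q
    obtain ⟨x, hx, e⟩ := hle ⟨k, hq, rfl⟩
    exact ⟨x, hx, e⟩
  have hlift : ∀ q : ↥(Cfsg.qd p), ∃ n ∈ Subgroup.normalizer (P₀ : Set K), f n = q := by
    intro q
    obtain ⟨k, rfl⟩ := hf q
    obtain ⟨t, ht, hconj⟩ := hP₀.exists_conj_le (H := P₀.map (MulAut.conj k).toMonoidHom)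
      (hP₀.isPGroup.map _) (by
        rintro _ ⟨x, hx, rfl⟩
        exact (inferInstance : D.Normal).conj_mem x (hP₀.le hx) k)
    have hn : t * k ∈ Subgroup.normalizer (P₀ : Set K) := by
      rw [PLocal.mem_normalizer_iff_map_eq]
      refine Subgroup.eq_of_le_of_card_ge ?_ (WCCenter.card_map_conj _ _).ge
      rintro _ ⟨x, hx, rfl⟩
      have := hconj _ ⟨x, hx, rfl⟩
      show t * k * x * (t * k)⁻¹ ∈ P₀
      rw [show t * k * x * (t * k)⁻¹ = t * (k * x * k⁻¹) * t⁻¹ by group]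
      exact this
    obtain ⟨y, hy, e⟩ := himg (f t) ht
    refine ⟨y⁻¹ * (t * k), mul_mem (inv_mem (Subgroup.le_normalizer hy)) hn, ?_⟩
    rw [map_mul, map_inv, e, map_mul, inv_mul_cancel_left]
  obtain ⟨w, hw, hfw⟩ := himg _ (Qd.tr_mem p 1 0)
  obtain ⟨v, hv, hfv⟩ := himg _ (Qd.tr_mem p 0 1)
  obtain ⟨a, ha, hfa⟩ := hlift (Qd.up p 1)
  obtain ⟨b, hb, hfb⟩ := hlift (Qd.low p 1)
  set W₁ := P₀ ⊓ f.ker
  have hker : Subgroup.normalizer (P₀ : Set K) ≤ Subgroup.normalizer (W₁ : Set K) :=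
    fun n hn => by
      rw [PLocal.mem_normalizer_iff_map_eq] at hn ⊢
      rw [Subgroup.map_inf _ _ _ (MulAut.conj n).injective, hn]
      exact congrArg (P₀ ⊓ ·) (Subgroup.Normal.map_conj_eq f.ker n)
  -- conjugate into the Sylow subgroup
  obtain ⟨g₁, -, hg₁⟩ := (isSylowIn_top T).exists_conj_le (hP₀.isPGroup.map K.subtype) le_top
  obtain ⟨g₂, hg₂T, hg₂⟩ := exists_conj_sylow_normalizer T
    (P := (P₀.map K.subtype).map (MulAut.conj g₁).toMonoidHom) (by
      rintro _ ⟨x, hx, rfl⟩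
      exact hg₁ x hx)
  set j : K →* G := ((MulAut.conj g₂).toMonoidHom.comp (MulAut.conj g₁).toMonoidHom).comp K.subtype
  have hjinj : Function.Injective j :=
    ((MulAut.conj g₂).injective.comp (MulAut.conj g₁).injective).comp K.subtype_injective
  set W := P₀.map j with hWdef
  have hWeq : ((P₀.map K.subtype).map (MulAut.conj g₁).toMonoidHom).map (MulAut.conj g₂).toMonoidHom = W := by
    rw [hWdef, Subgroup.map_map, Subgroup.map_map]
  rw [hWeq] at hg₂T hg₂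
  have hCW := sylow_centralizer T hg₂
  set C := centralizerIn (T : Subgroup G) W
  set Q := W ⊔ C
  have hQT : Q ≤ (T : Subgroup G) := sup_le hg₂T inf_le_left
  set W₀ := W₁.map j
  have hW₀W : W₀ ≤ W := Subgroup.map_mono inf_le_left
  -- correct the normalizing elements
  have hfix : ∀ n ∈ Subgroup.normalizer (W : Set G), ∃ c ∈ Subgroup.centralizer (W : Set G),
      c * n ∈ Subgroup.normalizer (Q : Set G) := by
    intro n hn
    obtain ⟨c, hc, hconj⟩ := hCW.exists_conj_le (H := C.map (MulAut.conj n).toMonoidHom)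
      (hCW.isPGroup.map _) (by
        rintro _ ⟨x, hx, rfl⟩
        refine Subgroup.mem_centralizer_iff.2 fun y hy => ?_
        have hy' := (Subgroup.mem_normalizer_iff.1 (inv_mem hn) y).1 hy
        have e := Subgroup.mem_centralizer_iff.1 hx.2 _ hy'
        show y * (n * x * n⁻¹) = n * x * n⁻¹ * y
        calc y * (n * x * n⁻¹) = n * (n⁻¹ * y * n⁻¹⁻¹ * x) * n⁻¹ := by group
          _ = n * (x * (n⁻¹ * y * n⁻¹⁻¹)) * n⁻¹ := by rw [e]
          _ = n * x * n⁻¹ * y := by group)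
    refine ⟨c, hc, ?_⟩
    rw [PLocal.mem_normalizer_iff_map_eq]
    refine Subgroup.eq_of_le_of_card_ge ?_ (WCCenter.card_map_conj _ _).ge
    rw [Subgroup.map_sup]
    refine sup_le_sup ?_ ?_
    · rintro _ ⟨x, hx, rfl⟩
      have h1 := (Subgroup.mem_normalizer_iff.1 hn x).1 hx
      show c * n * x * (c * n)⁻¹ ∈ W
      rw [show c * n * x * (c * n)⁻¹ = c * (n * x * n⁻¹) * c⁻¹ by group,
        ← Subgroup.mem_centralizer_iff.1 hc _ h1, mul_inv_cancel_right]
      exact h1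
    · rintro _ ⟨x, hx, rfl⟩
      have := hconj _ ⟨x, hx, rfl⟩
      show c * n * x * (c * n)⁻¹ ∈ C
      rw [show c * n * x * (c * n)⁻¹ = c * (n * x * n⁻¹) * c⁻¹ by group]
      exact this
  have hjN : ∀ {X : Subgroup K} {n : K}, n ∈ Subgroup.normalizer (X : Set K) →
      j n ∈ Subgroup.normalizer ((X.map j : Subgroup G) : Set G) :=
    fun hn => Subgroup.le_normalizer_map j ⟨_, hn, rfl⟩
  obtain ⟨c, hc, hca⟩ := hfix (j a) (hjN ha)
  obtain ⟨c', hc', hcb⟩ := hfix (j b) (hjN hb)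
  have hcW₀ : ∀ {c : G}, c ∈ Subgroup.centralizer (W : Set G) →
      c ∈ Subgroup.normalizer (W₀ : Set G) := fun hc =>
    Subgroup.centralizer_le_normalizer _ (Subgroup.centralizer_le (SetLike.coe_subset_coe.2 hW₀W) hc)
  have hcfix : ∀ {c : G} (n x : K), c ∈ Subgroup.centralizer (W : Set G) →
      n ∈ Subgroup.normalizer (P₀ : Set K) → x ∈ P₀ →
      c * j n * j x * (c * j n)⁻¹ = j (n * x * n⁻¹) := by
    intro c n x hc hn hx
    have h1 : j (n * x * n⁻¹) ∈ W := ⟨_, (Subgroup.mem_normalizer_iff.1 hn x).1 hx, rfl⟩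
    calc c * j n * j x * (c * j n)⁻¹ = c * j (n * x * n⁻¹) * c⁻¹ := by
          simp only [map_mul, map_inv]; group
      _ = j (n * x * n⁻¹) := by
          rw [← Subgroup.mem_centralizer_iff.1 hc _ h1, mul_inv_cancel_right]
  have hrel : ∀ (n x y : K), n ∈ Subgroup.normalizer (P₀ : Set K) → x ∈ P₀ → y ∈ P₀ →
      f n * f x * (f n)⁻¹ = f y → n * x * n⁻¹ * y⁻¹ ∈ W₁ := fun n x y hn hx hy e =>
    ⟨Subgroup.mul_mem _ ((Subgroup.mem_normalizer_iff.1 hn x).1 hx) (Subgroup.inv_mem _ hy), MonoidHom.mem_ker.2 <| by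
      rw [ map_mul, map_mul, map_mul, map_inv, map_inv, e,
        mul_inv_cancel]⟩
  have ew : ∀ {n : K}, n ∈ P₀ → j n ∈ Q := fun hn => Subgroup.mem_sup_left ⟨_, hn, rfl⟩
  have d : QdData p Q W₀ (j w) (j v) (c * j a) (c' * j b) := by
    refine ⟨hW₀W.trans le_sup_left, ew hw, ew hv, hjN (hker (Subgroup.le_normalizer hw)),
      hjN (hker (Subgroup.le_normalizer hv)), ⟨hca, mul_mem (hcW₀ hc) (hjN (hker ha))⟩,
      ⟨hcb, mul_mem (hcW₀ hc') (hjN (hker hb))⟩, fun h => ?_, ?_, ?_, ?_, ?_, ?_, ?_, ?_⟩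
    · obtain ⟨x, hx, e⟩ := h
      have h1 : f w = 1 := by rw [← hjinj e]; exact hx.2
      rw [hfw, Qd.tr, ← Qd.el_one p, Qd.el_eq_iff] at h1
      exact one_ne_zero h1.2.2.2.2.1
    · rw [← map_pow]
      exact ⟨_, ⟨Subgroup.pow_mem _ hw p, MonoidHom.mem_ker.2 <| by
        rw [ map_pow, hfw, Qd.transE_pow p (Qd.tr_mem p 1 0)]⟩, rfl⟩
    · rw [← map_pow]
      exact ⟨_, ⟨Subgroup.pow_mem _ hv p, MonoidHom.mem_ker.2 <| by
        rw [ map_pow, hfv, Qd.transE_pow p (Qd.tr_mem p 0 1)]⟩, rfl⟩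
    · rw [← map_commutatorElement]
      refine ⟨_, ⟨?_, ?_⟩, rfl⟩
      · exact Subgroup.mul_mem _ (Subgroup.mul_mem _ (Subgroup.mul_mem _ hw hv) (Subgroup.inv_mem _ hw)) (Subgroup.inv_mem _ hv)
      · refine MonoidHom.mem_ker.2 ?_
        rw [map_commutatorElement, hfw, hfv,
          commutatorElement_eq_one_iff_mul_comm, Qd.tr_mul, Qd.tr_mul, add_comm (1 : ZMod p) 0,
          add_comm (0 : ZMod p) 1]
    · rw [hcfix a w hc ha hw, ← map_inv, ← map_mul]
      exact ⟨_, hrel a w w ha hw hw (by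
        rw [hfa, hfw, Qd.up, Qd.conj_tr]; congr 1 <;> ring), rfl⟩
    · rw [hcfix a v hc ha hv, ← map_mul, ← map_inv, ← map_mul]
      exact ⟨_, hrel a v (w * v) ha hv (mul_mem hw hv) (by
        rw [map_mul, hfa, hfw, hfv, Qd.up, Qd.conj_tr, Qd.tr_mul]; congr 1 <;> ring), rfl⟩
    · rw [hcfix b w hc' hb hw, ← map_mul, ← map_inv, ← map_mul]
      exact ⟨_, hrel b w (w * v) hb hw (mul_mem hw hv) (by
        rw [map_mul, hfb, hfw, hfv, Qd.low, Qd.conj_tr, Qd.tr_mul]; congr 1 <;> ring), rfl⟩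
    · rw [hcfix b v hc' hb hv, ← map_inv, ← map_mul]
      exact ⟨_, hrel b v v hb hv hv (by
        rw [hfb, hfv, Qd.low, Qd.conj_tr]; congr 1 <;> ring), rfl⟩
  -- `Q` is centric
  have hcen : (groupFusionSystem (T : Subgroup G)).IsCentric Q := by
    refine ⟨hQT, fun R hR => ?_⟩
    obtain ⟨-, hRT, h, rfl⟩ := exists_conj_of_isConj hR
    set e := (MulAut.conj h).toMonoidHom
    intro x hx
    have hCh := hCW.map (MulAut.conj h)
    have hxC : x ∈ (Subgroup.centralizer (W : Set G)).map e := by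
      refine ⟨h⁻¹ * x * h, Subgroup.mem_centralizer_iff.2 fun y hy => ?_, by
        show h * (h⁻¹ * x * h) * h⁻¹ = x; group⟩
      have := (mem_centralizerIn.1 hx).2 (h * y * h⁻¹) ⟨y, Subgroup.mem_sup_left hy, rfl⟩
      calc y * (h⁻¹ * x * h) = h⁻¹ * (h * y * h⁻¹ * x) * h := by group
        _ = h⁻¹ * (x * (h * y * h⁻¹)) * h := by rw [this]
        _ = h⁻¹ * x * h * y := by group
    have hxcomm : Subgroup.zpowers x ≤ Subgroup.normalizer ((C.map e : Subgroup G) : Set G) := by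
      refine Subgroup.zpowers_le.2 (Subgroup.centralizer_le_normalizer _ (Subgroup.mem_centralizer_iff.2 ?_))
      rintro _ ⟨y, hy, rfl⟩
      exact ((mem_centralizerIn.1 hx).2 _ ⟨y, Subgroup.mem_sup_right hy, rfl⟩).symm
    have hpz : IsPGroup p (Subgroup.zpowers x) :=
      T.isPGroup'.to_le (Subgroup.zpowers_le.2 hx.1)
    have hsup := hCh.2.2 (Subgroup.zpowers x ⊔ C.map e) le_sup_right
      (sup_le (Subgroup.zpowers_le.2 hxC) hCh.le)
      (IsPGroup.to_sup_of_normal_right' hpz hCh.isPGroup hxcomm)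
    have hxmem : x ∈ C.map e := hsup.le (Subgroup.mem_sup_left (Subgroup.mem_zpowers x))
    exact Subgroup.map_mono le_sup_right hxmem
  -- move to a fully normalized conjugate
  obtain ⟨h, hhT, hh⟩ := exists_conj_sylow_normalizer T hQT
  have d' := d.map (MulAut.conj h)
  set Q' := Q.map (MulAut.conj h).toMonoidHom
  have hn' : (groupFusionSystem (T : Subgroup G)).IsFullyNormalized Q' :=
    (fullyNormalized_group_iff T hhT).2 hh
  have hc' : (groupFusionSystem (T : Subgroup G)).IsCentric Q' :=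
    ⟨hhT, fun R hR => hcen.2 R (isConj_trans (isConj_iff.2 ⟨_, isIso_conj hQT hhT⟩) hR)⟩
  obtain ⟨E, hE⟩ := exists_normalizerSystem (F := groupFusionSystem (T : Subgroup G)) hhT
  have hM := (nc_normalizer T.isPGroup' (isSaturated_group T) hn' hc' hE).isModel_emb
  haveI := hM.1
  obtain ⟨π, -, hπ⟩ := group_model_map T hn' hc' hE hM
  exact hfree Q' hn' hc' E hE _ _ hM (d'.involves hp hhT π hM.2.1.1 hπ)

end Cfsg.Agent.Fusion
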