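import Cfsg.Agent.Lib.Fusion.CenterFunctor
import Cfsg.Agent.Lib.FusionTate.Control
import Cfsg.Agent.Lib.WCCenter.Core

/-
Quadratic elements and p-th powers of central elements of a Sylow subgroup.
Main result: `quad_central`.
-/

set_option autoImplicit false

namespace Cfsg.Agent.Fusion

open Cfsg Cfsg.FusionSystem
open scoped commutatorElement

universe u

variable {p : ℕ} [Fact p.Prime] {G : Type u} [Group G] [Finite G]

/-- All conjugates of a quadratic element of the Sylow subgroup fix the `p`-th power. -/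
theorem fix_pow_of_quadratic (P : Sylow p G) {z : G} (hzQ : z ∈ Cfsg.pCore p G)
    (hzc : ∀ s ∈ (P : Subgroup G), s * z = z * s) {g : G}
    (hq : ⁅⁅Subgroup.center ↥(Cfsg.pCore p G) |>.map (Cfsg.pCore p G).subtype,
      Subgroup.zpowers g⁆, Subgroup.zpowers g⁆ = ⊥) (a : G) :
    (a * g * a⁻¹) * z ^ p * (a * g * a⁻¹)⁻¹ = z ^ p := by
  set Q := Cfsg.pCore p G with hQdef
  haveI : Q.Normal := Cores.pCore_normal p G
  set c : G →* MulAut Q := MulAut.conjNormal with hc
  have hcQ : ∀ (k : G) (v : Q), ((c k v : Q) : G) = k * v * k⁻¹ := fun k v =>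
    MulAut.conjNormal_apply k v
  set T : Subgroup (MulAut Q) := (P : Subgroup G).map c
  set A : Subgroup (MulAut Q) := (⊤ : Subgroup G).map c
  have hT : IsSylowIn p T A :=
    (show IsSylowIn p (P : Subgroup G) ⊤ from
      ⟨le_top, P.isPGroup', fun C h1 _ h3 => P.3 h3 h1⟩).image c
  have hQP : Q ≤ (P : Subgroup G) := Cores.pCore_le_sylow P
  have hzC : (⟨z, hzQ⟩ : Q) ∈ Subgroup.center Q :=
    Subgroup.mem_center_iff.2 fun v => Subtype.ext (hzc v (hQP v.2))
  have hTz : ∀ t ∈ T, t (⟨z, hzQ⟩ : Q) = ⟨z, hzQ⟩ := by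
    rintro _ ⟨s, hs, rfl⟩
    refine Subtype.ext ?_
    rw [hcQ]
    show s * z * s⁻¹ = z
    rw [hzc s hs, mul_inv_cancel_right]
  -- the conjugate acts quadratically on the centre
  set t := c (a * g * a⁻¹) with ht
  have hD : ∀ v ∈ Subgroup.center Q, t (t v * v⁻¹) = t v * v⁻¹ := by
    intro v hv
    set w := c a⁻¹ v with hwdef
    have hw : w ∈ Subgroup.center Q := FusionTate.mulAut_center _ hv
    have h1 : ⁅(w : G), g⁆ ∈ ⁅Subgroup.center ↥Q |>.map Q.subtype, Subgroup.zpowers g⁆ :=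
      Subgroup.commutator_mem_commutator ⟨w, hw, rfl⟩ (Subgroup.mem_zpowers g)
    have h2 := Subgroup.mem_centralizer_iff.1 (Subgroup.commutator_eq_bot_iff_le_centralizer.1 hq h1)
      g (Subgroup.mem_zpowers g)
    have h3 : c g (c g w * w⁻¹) = c g w * w⁻¹ := by
      refine Subtype.ext ?_
      rw [hcQ, Subgroup.coe_mul, InvMemClass.coe_inv, hcQ]
      have h4 : g * (⁅(w : G), g⁆)⁻¹ = (⁅(w : G), g⁆)⁻¹ * g := (Commute.inv_right h2).eq
      rw [commutatorElement_inv, commutatorElement_def] at h4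
      rw [h4, mul_inv_cancel_right]
    have h5 : ∀ u : Q, t (c a u) = c a (c g u) := fun u => by
      rw [ht, ← MulAut.mul_apply, ← map_mul, inv_mul_cancel_right, map_mul, MulAut.mul_apply]
    have hva : v = c a w := by
      rw [hwdef, ← MulAut.mul_apply, ← map_mul, mul_inv_cancel, map_one]
      rfl
    rw [hva, h5, ← map_inv (c a), ← map_mul, h5, h3]
  have hpow : ∀ m : ℕ, ∀ y ∈ Subgroup.center Q, (t ^ m) y = (t y * y⁻¹) ^ m * y := by
    intro m
    induction m with
    | zero => intro y _; simp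
    | succ m ih =>
      intro y hy
      rw [pow_succ', MulAut.mul_apply, ih y hy, map_mul, map_pow, hD y hy, pow_succ, mul_assoc]
      rw [inv_mul_cancel_right]
  have hfix : (t ^ p) (⟨z, hzQ⟩ : Q) = ⟨z, hzQ⟩ := by
    refine FusionTate.fix_of_trivial_mod (S := (P : Subgroup G)) P.isPGroup' hQP hT hzC hTz
      (pow_mem (Subgroup.mem_map_of_mem c (Subgroup.mem_top _)) p) fun y hy =>
      ⟨t y * y⁻¹, mul_mem (FusionTate.mulAut_center t hy) (inv_mem hy), ?_⟩
    rw [hpow p y hy, Subgroup.mem_center_iff.1 hy]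
  have h5 := hpow p _ hzC
  rw [hfix, right_eq_mul, FusionTate.center_pow_mul (inv_mem hzC), inv_pow, mul_inv_eq_one,
    ← map_pow] at h5
  have := congrArg Subtype.val h5
  rw [hcQ] at this
  exact this

/-- Glauberman: `p`-th powers of central elements fixed by `N(W(P))` are central in a group with
`C(O_p) ≤ O_p`, if the functor is controlled by quadratic elements. -/
theorem quad_central (W : ∀ (Q : Type u) [Group Q], Subgroup Q)
    (hW2 : ∀ (Q R : Type u) [Group Q] [Group R] [Finite Q], IsPGroup p Q → ∀ φ : Q ≃* R,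
      (W Q).map φ.toMonoidHom = W R)
    (hq : ∀ (G : Type u) [Group G] [Finite G] (P : Sylow p G),
      ¬ (((W ↥(P : Subgroup G)).map (P : Subgroup G).subtype : Subgroup G)).Normal →
      ∃ g : G, g ∈ (P : Subgroup G) ∧ g ∉ Cfsg.pCore p G ∧
        ⁅⁅Subgroup.center ↥(Cfsg.pCore p G) |>.map (Cfsg.pCore p G).subtype, Subgroup.zpowers g⁆,
          Subgroup.zpowers g⁆ = ⊥) :
    ∀ (n : ℕ) (G : Type u) [Group G] [Finite G], Nat.card G = n →
      Subgroup.centralizer ((Cfsg.pCore p G : Subgroup G) : Set G) ≤ Cfsg.pCore p G →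
      ∀ (P : Sylow p G) (z : G), z ∈ (P : Subgroup G) → (∀ s ∈ (P : Subgroup G), s * z = z * s) →
      (∀ k ∈ Subgroup.normalizer ((wsub W (P : Subgroup G) : Subgroup G) : Set G),
        k * z ^ p * k⁻¹ = z ^ p) →
      ∀ k : G, k * z ^ p * k⁻¹ = z ^ p := by
  intro n
  induction n using Nat.strong_induction_on with
  | _ n IH =>
  intro G _ _ hn hC P z hzP hzc hN k
  by_cases hnorm : (wsub W (P : Subgroup G)).Normal
  · exact hN k ((Subgroup.normalizer_eq_top_iff.2 hnorm).ge trivial)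
  obtain ⟨g, hgP, hgQ, hgq⟩ := hq G P hnorm
  haveI : (Cfsg.pCore p G).Normal := Cores.pCore_normal p G
  have hQP := Cores.pCore_le_sylow (G := G) P
  have hzQ : z ∈ Cfsg.pCore p G :=
    hC (Subgroup.mem_centralizer_iff.2 fun v hv => hzc v (hQP hv))
  set x := z ^ p
  have hCx : ∀ m : G, m * x * m⁻¹ = x ↔ m ∈ Subgroup.centralizer ({x} : Set G) := fun m => by
    rw [Subgroup.mem_centralizer_singleton_iff]
    exact ⟨fun h => (mul_inv_eq_iff_eq_mul.1 h), fun h => mul_inv_eq_iff_eq_mul.2 h⟩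
  set K := Subgroup.normalCore (Subgroup.centralizer ({x} : Set G))
  haveI : K.Normal := Subgroup.normalCore_normal _
  have hgK : g ∈ K := fun a => (hCx _).1 (fix_pow_of_quadratic P hzQ hzc hgq a)
  have hQK : Cfsg.pCore p G ≤ K := Subgroup.normal_le_normalCore.2 fun v hv => by
    refine (hCx v).1 ?_
    rw [(Commute.pow_right (hzc v (hQP hv)) p).eq, mul_inv_cancel_right]
  set R := (P : Subgroup G) ⊓ K with hR
  have hPR : (P : Subgroup G) ≤ Subgroup.normalizer (R : Set G) := WCCenter.le_normalizer_inf _ K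
  set H := Subgroup.normalizer (R : Set G) with hH
  have hHtop : H ≠ ⊤ := fun h => hgQ <| by
    have hRn : R.Normal := Subgroup.normalizer_eq_top_iff.1 h
    exact Cores.le_pCore hRn (P.isPGroup'.to_le inf_le_left) ⟨hgP, hgK⟩
  have hsup : K ⊔ H = ⊤ := by
    rw [eq_top_iff]
    intro m _
    have hRsyl : IsSylowIn p R K :=
      (show IsSylowIn p (P : Subgroup G) ⊤ from
        ⟨le_top, P.isPGroup', fun C h1 _ h3 => P.3 h3 h1⟩).inf_normal le_top
        fun a _ v hv => (inferInstance : K.Normal).conj_mem v hv a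
    obtain ⟨a, ha, hconj⟩ := hRsyl.exists_conj_le (H := R.map (MulAut.conj m).toMonoidHom)
      (hRsyl.isPGroup.map _) (by
        rintro _ ⟨v, hv, rfl⟩
        exact (inferInstance : K.Normal).conj_mem v hv.2 m)
    have : a * m ∈ H := by
      rw [hH, PLocal.mem_normalizer_iff_map_eq]
      refine Subgroup.eq_of_le_of_card_ge ?_ (WCCenter.card_map_conj _ _).ge
      rintro _ ⟨v, hv, rfl⟩
      have := hconj _ ⟨v, hv, rfl⟩
      show a * m * v * (a * m)⁻¹ ∈ R
      rw [show a * m * v * (a * m)⁻¹ = a * (m * v * m⁻¹) * a⁻¹ by group]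
      exact this
    have := mul_mem (Subgroup.mem_sup_left (T := H) (inv_mem ha)) (Subgroup.mem_sup_right this)
    simpa using this
  have hlt : Nat.card H < n := by
    rw [← hn]
    exact lt_of_le_of_ne (Subgroup.card_le_card_group H) fun h => hHtop (Subgroup.eq_top_of_card_eq H h)
  set PH : Sylow p H := P.subtype hPR
  have hmap : ((PH : Subgroup H)).map H.subtype = (P : Subgroup G) := by
    rw [show (PH : Subgroup H) = (P : Subgroup G).subgroupOf H from rfl,
      Subgroup.map_subgroupOf_eq_of_le hPR]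
  have hQH : (Cfsg.pCore p G).subgroupOf H ≤ Cfsg.pCore p H :=
    Cores.le_pCore inferInstance ((Cores.isPGroup_pCore p G).comap_of_injective _ H.subtype_injective)
  have hCH : Subgroup.centralizer ((Cfsg.pCore p H : Subgroup H) : Set H) ≤ Cfsg.pCore p H := by
    intro m hm
    refine hQH ?_
    refine Subgroup.mem_subgroupOf.2 (hC (Subgroup.mem_centralizer_iff.2 fun v hv => ?_))
    have hvH : v ∈ H := hPR (hQP hv)
    exact congrArg Subtype.val (Subgroup.mem_centralizer_iff.1 hm ⟨v, hvH⟩ (hQH hv))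
  have hHfix : ∀ m ∈ H, m * x * m⁻¹ = x := by
    intro m hm
    refine congrArg Subtype.val (IH _ hlt ↥H rfl hCH PH ⟨z, hPR hzP⟩ hzP
      (fun s hs => Subtype.ext (hzc s hs)) (fun l hl => Subtype.ext (hN l ?_)) ⟨m, hm⟩)
    rw [← hmap, ← wsub_map W hW2 PH.isPGroup' H.subtype H.subtype_injective.injOn,
      PLocal.mem_normalizer_iff_map_eq]
    rw [PLocal.mem_normalizer_iff_map_eq] at hl
    conv_rhs => rw [← hl]
    rw [Subgroup.map_map, Subgroup.map_map]
    rfl
  refine (hCx k).2 ?_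
  have : K ⊔ H ≤ Subgroup.centralizer ({x} : Set G) :=
    sup_le (Subgroup.normalCore_le _) fun m hm => (hCx m).1 (hHfix m hm)
  exact this (hsup ▸ trivial)

end Cfsg.Agent.Fusion
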