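import Cfsg.Agent.Lib.Fusion.Induction

/-
Reduction of normal p-complement criteria for fusion systems to constrained systems.
Main results: `Crit`, `isConstrained_of_htop`, `Crit.pAut`.
-/

set_option autoImplicit false

open scoped Classical

namespace Cfsg.Agent.Fusion

open Cfsg Cfsg.FusionSystem

universe u

/-- The data of a criterion: a class `Ok` of systems closed under local and factor systems, a
hypothesis `H` inherited by subsystems on the same `p`-group, and implied by the `p`-group property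
of the normalizer systems of the subgroups in `W`. -/
structure Crit (p : ℕ) : Type (u + 1) where
  H : ∀ (Ω : Type u) [Group Ω] (S : Subgroup Ω), FusionSystem S → Prop
  Ok : ∀ (Ω : Type u) [Group Ω] (S : Subgroup Ω), FusionSystem S → Prop
  W : ∀ (Ω : Type u) [Group Ω], Subgroup Ω → Set (Subgroup Ω)
  W_spec : ∀ (Ω : Type u) [Group Ω] (R : Subgroup Ω) [Finite R], IsPGroup p R → R ≠ ⊥ →
    ∀ X ∈ W Ω R, X ≤ R ∧ X ≠ ⊥ ∧
      Subgroup.normalizer (R : Set Ω) ≤ Subgroup.normalizer (X : Set Ω)
  mono : ∀ (Ω : Type u) [Group Ω] (S T : Subgroup Ω) (F : FusionSystem S) (E : FusionSystem T),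
    T = S → E.IsSubsystemOf F → H Ω S F → H Ω T E
  of_npaut : ∀ (Ω : Type u) [Group Ω] (S : Subgroup Ω) [Finite S] (F : FusionSystem S),
    IsPGroup p S → F.IsSaturated p → (∀ X ∈ W Ω S, NPAut p F X) → H Ω S F
  ok_normalizer : ∀ (Ω : Type u) [Group Ω] (S : Subgroup Ω) [Finite S] (F : FusionSystem S)
    (X : Subgroup Ω) (E : FusionSystem (normalizerIn S X)), IsPGroup p S → F.IsSaturated p →
    F.IsFullyNormalized X → F.IsNormalizerSystem X E → Ok Ω S F → Ok Ω (normalizerIn S X) E
  ok_factor : ∀ (Ω : Type u) [Group Ω] (S : Subgroup Ω) [Finite S] (F : FusionSystem S)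
    (Ω' : Type u) [Group Ω'] (S' : Subgroup Ω') (U : Subgroup Ω) (θ : S →* Ω')
    (E : FusionSystem S'), IsPGroup p S → F.IsSaturated p → F.IsNormal U →
    F.IsFactorSystem U θ E → Ok Ω S F → Ok Ω' S' E

/-- The criterion holds for the systems coming before `F`. -/
def Crit.Before {p : ℕ} (c : Crit.{u} p) {Ω : Type u} [Group Ω] {S : Subgroup Ω}
    (F : FusionSystem S) : Prop :=
  ∀ (Ω' : Type u) [Group Ω'] (T : Subgroup Ω') [Finite T] (E : FusionSystem T), Smaller E F →
    IsPGroup p T → E.IsSaturated p → c.Ok Ω' T E → c.H Ω' T E → PAut p E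

/-- If the normalizer systems of the non-normal subgroups normal in `S` have `p`-group automizers and
the factor systems satisfy a criterion of this kind, a system with a nontrivial normal subgroup is
constrained. -/
theorem isConstrained_of_htop {p : ℕ} [Fact p.Prime] {Ω : Type u} [Group Ω] {S : Subgroup Ω}
    [Finite S] {F : FusionSystem S} (hS : IsPGroup p S) (hF : F.IsSaturated p)
    (htop : ∀ X : Subgroup Ω, F.IsFullyNormalized X → ¬ F.IsNormal X → normalizerIn S X = S →
      NPAut p F X)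
    (hfac : ∀ U : Subgroup Ω, F.IsNormal U → U ≠ ⊥ → ∀ (Ω' : Type u) [Group Ω'] (θ : S →* Ω')
      (S' : Subgroup Ω'), QData F U θ S' → ∀ E : FusionSystem S', F.IsFactorSystem U θ E →
      ∃ W : Set (Subgroup Ω'), (S' ≠ ⊥ → ∀ X ∈ W, X ≠ ⊥ ∧
          Subgroup.normalizer (S' : Set Ω') ≤ Subgroup.normalizer (X : Set Ω')) ∧
        (S' ≠ ⊥ → (∀ X ∈ W, NPAut p E X) → PAut p E))
    {U₀ : Subgroup Ω} (hU₀ : F.IsNormal U₀) (hU₀ne : U₀ ≠ ⊥) : F.IsConstrained p := by
  -- a maximal normal subgroup
  obtain ⟨U, ⟨hU, hUne⟩, hmax⟩ : ∃ U, (F.IsNormal U ∧ U ≠ ⊥) ∧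
      ∀ V, F.IsNormal V → U ≤ V → V = U := by
    suffices h : ∀ n, ∀ U, F.IsNormal U → U ≠ ⊥ → Nat.card S - Nat.card U = n →
        ∃ V, (F.IsNormal V ∧ V ≠ ⊥) ∧ ∀ V', F.IsNormal V' → V ≤ V' → V' = V from
      h _ U₀ hU₀ hU₀ne rfl
    intro n
    induction n using Nat.strong_induction_on with
    | _ n ihn =>
    intro U hU hUne hn
    by_cases h : ∀ V', F.IsNormal V' → U ≤ V' → V' = U
    · exact ⟨U, ⟨hU, hUne⟩, h⟩
    push Not at h
    obtain ⟨V, hV, hUV, hne⟩ := h
    have := finite_of_le hV.1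
    have h1 := Subgroup.card_le_of_le hV.1
    have h2 : Nat.card U < Nat.card V := lt_of_le_of_ne (Subgroup.card_le_of_le hUV) fun e =>
      hne (Subgroup.eq_of_le_of_card_ge hUV e.ge).symm
    exact ihn _ (by omega) V hV (fun h => hUne (le_bot_iff.1 (h ▸ hUV))) rfl
  have hUn := normalizes_of_stronglyClosed (stronglyClosed_of_normal hU)
  have hUfn : F.IsFullyNormalized U := ⟨hU.1, fun R _ =>
    (Subgroup.card_le_of_le inf_le_left).trans_eq
      (congrArg (fun X : Subgroup Ω => Nat.card X) (inf_eq_left.2 hUn).symm)⟩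
  by_cases hc : centralizerIn S U ≤ U
  · exact ⟨hF, U, hU, hU.1,
      fun R hR => by
        obtain ⟨g, hg⟩ := isConj_iff.1 hR
        rwa [show R = U from eq_of_le_of_card hU.1 (fun y hy => by
          obtain ⟨x, hx, rfl⟩ := hg.exists_eq hy
          exact FusionChain.mapsTo_of_normal hU hg.1 le_rfl x hx) hg.card_eq.ge]⟩
  exfalso
  set T := U ⊔ centralizerIn S U
  have hTS : T ≤ S := sup_le hU.1 inf_le_left
  have hTn : S ≤ Subgroup.normalizer (T : Set Ω) := by
    intro s hs
    have := finite_of_le hTS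
    refine (mem_normalizerIn_of_conj hs fun x hx => ?_).2
    refine (IsMap.conj (F := F) hTS hs).forall_mem_sup le_sup_left le_sup_right
      (fun y hy => Subgroup.mem_sup_left ((Subgroup.mem_normalizer_iff.1 (hUn hs) y).1 hy))
      (fun y hy => Subgroup.mem_sup_right ?_) hx
    refine mem_centralizerIn_of_conj (S.mul_mem (S.mul_mem hs hy.1) (S.inv_mem hs)) fun z hz => ?_
    have h1 : s⁻¹ * z * s ∈ U := by
      have := (Subgroup.mem_normalizer_iff.1 (hUn (S.inv_mem hs)) z).1 hz
      simpa using this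
    have h2 := centralizerIn_conj hy h1
    calc s * y * s⁻¹ * z * (s * y * s⁻¹)⁻¹ = s * (y * (s⁻¹ * z * s) * y⁻¹) * s⁻¹ := by group
      _ = z := by rw [h2]; group
  have hTN : normalizerIn S T = S := inf_eq_left.2 hTn
  have hTfn : F.IsFullyNormalized T := ⟨hTS, fun R _ => hTN.symm ▸ Subgroup.card_le_of_le inf_le_left⟩
  have hTnn : ¬ F.IsNormal T := fun h => hc fun x hx =>
    (hmax T h le_sup_left).le (Subgroup.mem_sup_right hx)
  have hUA : IsPGroup p (F.autGroup U) := by
    intro a
    obtain ⟨α, hα⟩ := a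
    obtain ⟨g, hg, hgα⟩ := FusionChain.exists_extension
      (receptive_of_fullyNormalized hS hF hUfn) hα (centralizerIn_le_normalizerIn S U) fun c hc' => by
        rw [(normConj_eq_one_iff _).2 hc', mul_one, mul_inv_cancel]
        exact Subgroup.one_mem _
    have hgT : ∀ x ∈ T, g x ∈ T := fun x hx => hg.forall_mem_sup le_sup_left le_sup_right
      (fun u hu => Subgroup.mem_sup_left (hgα u hu ▸ autFn_mem α hu))
      (fun c hc' => Subgroup.mem_sup_right (mem_centralizerIn_of_conj (hg.mem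
        (Subgroup.mem_sup_right hc')) fun z hz => by
          obtain ⟨u, hu, rfl⟩ : ∃ u ∈ U, g u = z :=
            ⟨(α⁻¹ ⟨z, hz⟩ : U), Subtype.prop _, by
              rw [hgα _ (Subtype.prop _), autFn_apply α (Subtype.prop _)]; simp⟩
          rw [← hg.map_conj (Subgroup.mem_sup_right hc') (Subgroup.mem_sup_left hu),
            centralizerIn_conj hc' hu])) hx
    obtain ⟨b, hb, hbe⟩ := exists_aut_of_isIso (F := F) (f := g) (P := T)
      ⟨hg, eq_of_le_of_card hTS (hg.img_le le_rfl hgT) (hg.card_img le_rfl).ge⟩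
    obtain ⟨n, hn⟩ := htop T hTfn hTnn hTN T (le_normalizerIn hTS) b hb (autFn b)
      (by rw [sup_idem]; exact (isIso_autFn hTS hb).1) (fun _ _ => rfl) fun x hx => autFn_mem b hx
    refine ⟨n, Subtype.ext (MulEquiv.ext fun x => Subtype.ext ?_)⟩
    have hcomp : ∀ (i : ℕ) (y : U), (((α ^ i) y : U) : Ω) =
        ((b ^ i) ⟨y, Subgroup.mem_sup_left y.2⟩ : T) := by
      intro i
      induction i with
      | zero => intro y; simp
      | succ i ih =>
        intro y
        rw [pow_succ', pow_succ', MulAut.mul_apply, MulAut.mul_apply]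
        have h1 : (b ^ i) ⟨y, Subgroup.mem_sup_left y.2⟩ =
            ⟨((α ^ i) y : U), Subgroup.mem_sup_left (Subtype.prop _)⟩ := Subtype.ext (ih y).symm
        rw [h1, hbe, hgα _ (Subtype.prop _), autFn_apply α (Subtype.prop _)]
    show (((α ^ p ^ n) x : U) : Ω) = _
    rw [hcomp, hn]
    rfl
  -- the factor system by `U`
  have hNn : (U.subgroupOf S).Normal := ⟨fun x hx g =>
    (Subgroup.mem_normalizer_iff.1 (hUn g.2) _).1 hx⟩
  have D := quotientData (stronglyClosed_of_normal hU) (F := F)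
  set S' : Subgroup (S ⧸ U.subgroupOf S) := ⊤
  obtain ⟨E, hE⟩ := D.exists_factorSystem
  have := D.finite_S'
  have hS' := D.isPGroup_S' hS
  have hsat := D.isSaturated_factor hS hF hE
  have hS'ne : S' ≠ ⊥ := by
    intro h
    apply hc
    intro x hx
    have h1 : thF (QuotientGroup.mk' (U.subgroupOf S)) x = 1 :=
      Subgroup.mem_bot.1 (h ▸ D.thF_mem hx.1)
    rw [thF_apply _ hx.1] at h1
    exact (D.ker_iff _).1 h1
  have hbig : ∀ X' : Subgroup (S ⧸ U.subgroupOf S), X' ≠ ⊥ →
      F.IsNormal (preimageAlong (QuotientGroup.mk' (U.subgroupOf S)) X') → False := by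
    intro X' hne hn
    refine hne (le_bot_iff.1 fun y hy => ?_)
    obtain ⟨x, hx, rfl⟩ := D.exists_eq (Subgroup.mem_top y : y ∈ S')
    have h1 := (hmax _ hn (D.le_preimage X')).le (mem_preimageAlong.2 ⟨hx, hy⟩)
    rw [Subgroup.mem_bot, thF_apply _ hx]
    exact (D.ker_iff _).2 h1
  obtain ⟨W', hWspec, hPE'⟩ := hfac U hU hUne _ (QuotientGroup.mk' (U.subgroupOf S)) S' D E hE
  have hPE : PAut p E := hPE' hS'ne fun X' hX' => by
    obtain ⟨hne, hN⟩ := hWspec hS'ne X' hX'
    set V := preimageAlong (QuotientGroup.mk' (U.subgroupOf S)) X'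
    have hVN : normalizerIn S V = S := by
      rw [← D.preimage_normalizer le_top]
      rw [show normalizerIn S' X' = S' from inf_eq_left.2 (Subgroup.le_normalizer.trans hN)]
      exact D.preimage_S'
    have hVfn : F.IsFullyNormalized V := ⟨preimageAlong_le _ _, fun R _ =>
      hVN.symm ▸ Subgroup.card_le_of_le inf_le_left⟩
    exact npaut_factor D hE le_top (htop V hVfn (hbig X' hne) hVN)
  -- the centre of the factor gives a larger normal subgroup
  set Z := S' ⊓ Subgroup.centralizer (S' : Set (S ⧸ U.subgroupOf S))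
  have hZc : E.StronglyClosed Z := by
    refine stronglyClosed_iff.2 ⟨inf_le_left, fun P f hf x hxP hx => ?_⟩
    obtain ⟨-, s, hs, e⟩ := isMap_inner_iff.1
      ((isMap_congr_hom (inner_of_pAut hS' hsat hPE)).1 hf)
    rw [e x hxP, show s * x * s⁻¹ = x by
      rw [Subgroup.mem_centralizer_iff.1 hx.2 s hs, mul_inv_cancel_right]]
    exact hx
  have hZne : Z ≠ ⊥ := by
    have : Nontrivial S' := (Subgroup.nontrivial_iff_ne_bot S').2 hS'ne
    have := hS'.center_nontrivial
    obtain ⟨z, hz, hz1⟩ := (Subgroup.center S').nontrivial_iff_exists_ne_one.1 this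
    intro h
    apply hz1
    have h2 : (z : S ⧸ U.subgroupOf S) ∈ Z := ⟨z.2, Subgroup.mem_centralizer_iff.2 fun y hy =>
      congrArg Subtype.val (Subgroup.mem_center_iff.1 hz ⟨y, hy⟩)⟩
    rw [h, Subgroup.mem_bot] at h2
    exact Subtype.ext h2
  refine hbig Z hZne (D.isNormal_preimage_of_abelian hS hF hE hU hUA hZc ⟨⟨fun a b => ?_⟩⟩)
  exact Subtype.ext (Subgroup.mem_centralizer_iff.1 b.2.2 a a.2.1)


/-- The conclusion of a criterion follows from its case of constrained systems. -/
theorem Crit.pAut {p : ℕ} [Fact p.Prime] (c : Crit.{u} p)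
    (hbase : ∀ (Ω : Type u) [Group Ω] (S : Subgroup Ω) [Finite S] (F : FusionSystem S),
      IsPGroup p S → F.IsConstrained p → c.Ok Ω S F → c.H Ω S F → c.Before F → PAut p F)
    {Ω : Type u} [Group Ω] {S : Subgroup Ω} [Finite S] {F : FusionSystem S} (hS : IsPGroup p S)
    (hF : F.IsSaturated p) (hOk : c.Ok Ω S F) (hH : c.H Ω S F) : PAut p F := by
  refine system_induction
    (fun Ω _ S F => Finite S → IsPGroup p S → F.IsSaturated p → c.Ok Ω S F → c.H Ω S F → PAut p F)
    (fun Ω _ S F ih hfin hS hF hOk hH => ?_) Ω S F inferInstance hS hF hOk hH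
  have hbef : c.Before F := fun Ω' _ T hT E hE => ih Ω' T E hE hT
  -- normalizer systems of subgroups that are not normal
  have hloc : ∀ X : Subgroup Ω, F.IsFullyNormalized X → ¬ F.IsNormal X →
      ∀ E : FusionSystem (normalizerIn S X), F.IsNormalizerSystem X E →
        c.H Ω (normalizerIn S X) E → PAut p E := fun X hX hn E hE hHE =>
    have : Finite (normalizerIn S X) := finite_of_le inf_le_left
    hbef Ω _ E (smaller_normalizer hX.1 hn hE) (hS.to_le inf_le_left)
      (isSaturated_normalizer hS hF hX hE) (c.ok_normalizer Ω S F X E hS hF hX hE hOk) hHE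
  have htop : ∀ X : Subgroup Ω, F.IsFullyNormalized X → ¬ F.IsNormal X → normalizerIn S X = S →
      NPAut p F X := fun X hX hn hXS => by
    obtain ⟨E, hE⟩ := exists_normalizerSystem (F := F) hX.1
    exact npaut_of_pAut_normalizer hX.1 hE
      (hloc X hX hn E hE (c.mono Ω S _ F E hXS (sub_normalizer hE) hH))
  by_cases hcore : ∃ U, F.IsNormal U ∧ U ≠ ⊥
  swap
  · push Not at hcore
    have key : ∀ n, ∀ X : Subgroup Ω, Nat.card S - Nat.card (normalizerIn S X) = n →
        F.IsFullyNormalized X → X ≠ ⊥ → NPAut p F X := by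
      intro n
      induction n using Nat.strong_induction_on with
      | _ n ihn =>
      intro X hn hX hne
      have hnn : ¬ F.IsNormal X := fun h => hne (hcore X h)
      by_cases hXS : normalizerIn S X = S
      · exact htop X hX hnn hXS
      set R := normalizerIn S X with hR
      obtain ⟨E₀, hE₀⟩ := exists_normalizerSystem (F := F) hX.1
      have hRS : R ≤ S := inf_le_left
      have : Finite R := finite_of_le hRS
      have hRne : R ≠ ⊥ := fun h => hne (le_bot_iff.1 (h ▸ le_normalizerIn hX.1))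
      refine npaut_of_pAut_normalizer hX.1 hE₀ (hloc X hX hnn E₀ hE₀
        (c.of_npaut Ω R E₀ (hS.to_le hRS) (isSaturated_normalizer hS hF hX hE₀) fun Z hZ => ?_))
      obtain ⟨hZR, hZne, hZN⟩ := c.W_spec Ω R (hS.to_le hRS) hRne Z hZ
      have hZS := hZR.trans hRS
      obtain ⟨Y, f, hYn, hf, hfY, hfN⟩ := exists_fullyNormalized_map hS hF hZS
      have hYne : Y ≠ ⊥ := fun h => hZne (le_bot_iff.1 fun z hz => by
        have h1 : f z ∈ img f Z := hf.mem_img hz
        rw [hfY, h, Subgroup.mem_bot, ← hf.map_one] at h1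
        exact Subgroup.mem_bot.2 (hf.inj (le_normalizerIn hZS hz) (one_mem _) h1))
      have hlt : R < normalizerIn S R :=
        lt_normalizerIn hS le_rfl (lt_of_le_of_ne hRS hXS)
      have hcard : Nat.card R < Nat.card (normalizerIn S Y) := by
        have := finite_of_le (S := S) (P := normalizerIn S R) inf_le_left
        have := finite_of_le (S := S) (P := normalizerIn S Z) inf_le_left
        have := finite_of_le (S := S) (P := normalizerIn S Y) inf_le_left
        refine lt_of_lt_of_le (lt_of_le_of_ne (Subgroup.card_le_of_le hlt.le) fun e =>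
          hlt.ne (Subgroup.eq_of_le_of_card_ge hlt.le e.ge)) ?_
        refine (Subgroup.card_le_of_le
          (show normalizerIn S R ≤ normalizerIn S Z from inf_le_inf_left S hZN)).trans ?_
        rw [← hf.card_img le_rfl]
        exact Subgroup.card_le_of_le (hf.img_le le_rfl hfN)
      have := Subgroup.card_le_of_le hRS
      have h := ihn (Nat.card S - Nat.card (normalizerIn S Y)) (by
        have hY : Nat.card (normalizerIn S Y) ≤ Nat.card S := Subgroup.card_le_of_le inf_le_left
        omega) Y rfl hYn hYne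
      exact (npaut_transfer hZS hf (hfY.symm ▸ h)).sub (sub_normalizer hE₀)
    refine pAut_of_exists_pow fun Q hQ α hα => ?_
    by_cases hQb : Q = ⊥
    · subst hQb
      exact ⟨0, MulEquiv.ext fun x => Subsingleton.elim _ _⟩
    obtain ⟨X, hconj, hX⟩ := exists_fullyNormalized F hQ
    obtain ⟨f, hf⟩ := isConj_iff.1 hconj
    have hXne : X ≠ ⊥ := fun h => hQb (by
      have := hf.card_eq
      rw [h, Subgroup.card_bot] at this
      exact Subgroup.card_eq_one.1 this.symm)
    have hα' := congr_mem_autGroup hf hα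
    obtain ⟨n, hn⟩ := key _ X rfl hX hXne X (le_normalizerIn hX.1) _ hα' _
      (by rw [sup_idem]; exact (isIso_autFn hX.1 hα').1) (fun _ _ => rfl) fun x hx => autFn_mem _ hx
    exact ⟨n, (MulAut.congr hf.equiv).injective (by rw [map_pow, map_one, hn])⟩
  obtain ⟨U₀, hU₀, hU₀ne⟩ := hcore
  refine hbase Ω S F hS (isConstrained_of_htop hS hF htop ?_ hU₀ hU₀ne) hOk hH hbef
  intro U hU hUne Ω' _ θ S' D E hE
  have := D.finite_S'
  refine ⟨c.W Ω' S', fun hne X hX => ⟨(c.W_spec Ω' S' (D.isPGroup_S' hS) hne X hX).2.1,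
    (c.W_spec Ω' S' (D.isPGroup_S' hS) hne X hX).2.2⟩, fun _ h => ?_⟩
  have hsat := D.isSaturated_factor hS hF hE
  exact hbef _ S' E (Or.inl (D.card_lt hUne)) (D.isPGroup_S' hS) hsat
    (c.ok_factor Ω S F _ S' U _ E hS hF hU hE hOk)
    (c.of_npaut _ S' E (D.isPGroup_S' hS) hsat h)

/-- A system whose proper saturated subsystems on `S` have `p`-group automizers, but which itself has
not, is constrained, given a criterion. -/
theorem Crit.isConstrained_of_minimal {p : ℕ} [Fact p.Prime] (c : Crit.{u} p)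
    (hc : ∀ (Ω : Type u) [Group Ω] (S : Subgroup Ω) [Finite S] (F : FusionSystem S),
      IsPGroup p S → F.IsSaturated p → c.Ok Ω S F → c.H Ω S F → PAut p F)
    {Ω : Type u} [Group Ω] {S : Subgroup Ω} [Finite S] {F : FusionSystem S} (hS : IsPGroup p S)
    (hF : F.IsSaturated p) (hOk : c.Ok Ω S F) (hne : ¬ PAut p F)
    (hmin : ∀ E : FusionSystem S, E.IsSaturated p → E.IsSubsystemOf F → ¬ F.IsSubsystemOf E →
      PAut p E) : F.IsConstrained p := by
  have hSne : S ≠ ⊥ := fun h => hne (pAut_of_exists_pow fun Q hQ α _ => by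
    subst h
    obtain rfl := le_bot_iff.1 hQ
    exact ⟨0, MulEquiv.ext fun x => Subsingleton.elim _ _⟩)
  have htop : ∀ X : Subgroup Ω, F.IsFullyNormalized X → ¬ F.IsNormal X → normalizerIn S X = S →
      NPAut p F X := by
    intro X hX hn hXS
    obtain ⟨E, hE⟩ := exists_normalizerSystem (F := F) hX.1
    obtain ⟨E', hE'⟩ := exists_system_congr hXS E hE
    refine npaut_of_pAut_normalizer hX.1 hE (PAut.sub (F := E') ?_ fun P φ hφ =>
      (hE' P).ge ((hE P).le hφ))
    refine hmin E' (isSaturated_congr hXS (fun P => (hE P).trans (hE' P).symm)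
      (isSaturated_normalizer hS hF hX hE))
      (fun P φ hφ => sub_normalizer hE P ((hE P).ge ((hE' P).le hφ))) fun h => hn ?_
    exact (isSubsystemOf_normalizer_iff hX.1 hE).1 fun P φ hφ => (hE P).ge ((hE' P).le (h P hφ))
  obtain ⟨U₀, hU₀, hU₀ne⟩ : ∃ U, F.IsNormal U ∧ U ≠ ⊥ := by
    by_contra hno
    push Not at hno
    refine hne (hc Ω S F hS hF hOk (c.of_npaut Ω S F hS hF fun X hX => ?_))
    obtain ⟨hXS, hX1, hXN⟩ := c.W_spec Ω S hS hSne X hX
    have hN : normalizerIn S X = S := inf_eq_left.2 (Subgroup.le_normalizer.trans hXN)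
    exact htop X ⟨hXS, fun R _ => hN.symm ▸ Subgroup.card_le_of_le inf_le_left⟩
      (fun h => hX1 (hno X h)) hN
  refine isConstrained_of_htop hS hF htop ?_ hU₀ hU₀ne
  intro U hU hUne Ω' _ θ S' D E hE
  have := D.finite_S'
  refine ⟨c.W Ω' S', fun hne X hX => ⟨(c.W_spec Ω' S' (D.isPGroup_S' hS) hne X hX).2.1,
    (c.W_spec Ω' S' (D.isPGroup_S' hS) hne X hX).2.2⟩, fun _ h => ?_⟩
  have hsat := D.isSaturated_factor hS hF hE
  exact hc _ S' E (D.isPGroup_S' hS) hsat
    (c.ok_factor Ω S F _ S' U _ E hS hF hU hE hOk)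
    (c.of_npaut _ S' E (D.isPGroup_S' hS) hsat h)

end Cfsg.Agent.Fusion
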