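import Cfsg.Agent.Lib.Fusion.LocalModel

/-
Sections of local models: `H`-freeness passes to `K`-normalizer systems, and radical centric
subgroups suffice.
Main results: `centralizer_image_le`, `centric_sup`, `exists_ambient_model`,
`isSectionFree_kSys`, `isSectionFree_normalizer`, `isSectionFree_of_radical`.
-/

set_option autoImplicit false

open scoped Classical

namespace Cfsg.Agent.Fusion

open Cfsg Cfsg.FusionSystem

universe u v w

variable {Ω : Type u} [Group Ω] {S : Subgroup Ω} {F : FusionSystem S} {p : ℕ}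

theorem sectionFree_congr {T T' : Subgroup Ω} (h : T = T') {E : FusionSystem T}
    {E' : FusionSystem T'} (hH : ∀ P, E.Hom P = E'.Hom P) {H : Type v} [Group H]
    (hE : E.IsSectionFree p H) : E'.IsSectionFree p H := by
  subst h
  rwa [← ext_of_hom hH]

theorem isModel_congr {T T' : Subgroup Ω} (h : T = T') {E : FusionSystem T}
    {E' : FusionSystem T'} (hH : ∀ P, E.Hom P = E'.Hom P) {L : Type w} [Group L] {κ : T →* L}
    (hL : E.IsModel p L κ) : ∃ κ' : T' →* L, E'.IsModel p L κ' := by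
  subst h
  exact ⟨κ, by rwa [← ext_of_hom hH]⟩

variable [Finite S] [Fact p.Prime] {Q : Subgroup Ω} {K : Subgroup (MulAut Q)}

/-- The image of a centric subgroup of `N_F^K(Q)` contains its centralizer inside the
transported normalizer. -/
theorem centralizer_image_le (hS : IsPGroup p S) (hF : F.IsSaturated p) (hQK : IsFullyK F Q K)
    {P : Subgroup Ω} (hP : (kSys F Q K hQK.1).IsCentric P) {f : Ω → Ω}
    (hf : IsMap F (P ⊔ Q) f) {y : Ω}
    (hyK : y ∈ NK S (img f Q) (transK (hf.isIso_of_mono (le_sup_right : Q ≤ P ⊔ Q)) K))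
    (hyP : ∀ x ∈ P, y * f x = f x * y) : y ∈ img f P := by
  set N := NK S Q K
  set P'' := img f P
  set Q'' := img f Q
  set K'' := transK (hf.isIso_of_mono (le_sup_right : Q ≤ P ⊔ Q)) K with hK''
  have hfP : IsIso F P P'' f := hf.isIso_of_mono le_sup_left
  have hfQ : IsIso F Q Q'' f := hf.isIso_of_mono le_sup_right
  obtain ⟨h₀, hh₀, hh₀f, -⟩ := hfQ.symm
  obtain ⟨hrec, hsyl⟩ := fullyK_spec hS hF hQK
  have hcomp : ∀ α ∈ K'', MulAut.congr hh₀.equiv α ∈ K := by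
    rintro _ ⟨α, hα, rfl⟩
    suffices h : MulAut.congr hh₀.equiv (MulAut.congr hfQ.equiv α) = α from h.symm ▸ hα
    refine MulEquiv.ext fun x => Subtype.ext ?_
    have hx : hh₀.equiv (hfQ.equiv x) = x := Subtype.ext (hh₀f x x.2)
    conv_lhs => rw [← hx]
    rw [congr_apply_coe]
    exact (congrArg h₀ (congr_apply_coe hfQ α x)).trans (hh₀f _ (α x).2)
  obtain ⟨χ, hχ, h, hh, heq⟩ := exists_KExtension hS hrec hsyl hh₀ K'' hcomp
  have hQim : img h Q'' = Q := by
    rw [img_congr heq]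
    exact (hh₀.trans (isIso_autFn hQK.1 hχ.1)).2
  have hfx : ∀ x ∈ Q, h (f x) = autFn χ x := fun x hx => by
    rw [heq _ (hfQ.mem hx), hh₀f x hx]
  have hhN : ∀ g ∈ NK S Q'' K'', h g ∈ N := by
    intro g hg
    refine map_NK hh le_sup_left hQim (fun α hα => ?_) (Subgroup.mem_sup_right hg) hg
    obtain ⟨β, hβ, e⟩ := mem_transK.1 hα
    refine ⟨χ * β * χ⁻¹, mul_mem (mul_mem hχ.2 hβ) (inv_mem hχ.2), fun z hz => ?_⟩
    obtain ⟨x, rfl⟩ := hfQ.equiv.surjective z
    have h1 : (⟨h (hfQ.equiv x : Q''), hz⟩ : Q) = χ x :=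
      Subtype.ext ((hfx x x.2).trans (autFn_apply χ x.2))
    rw [h1, MulAut.mul_apply, MulAut.mul_apply, MulAut.inv_apply_self]
    rw [e x, hfx _ (β x).2, autFn_apply χ (β x).2]
  have hPN'' : P'' ≤ NK S Q'' K'' := by
    refine hf.img_le le_sup_left fun x hx => ?_
    refine map_NK hf le_sup_right rfl (fun α hα => ?_) (Subgroup.mem_sup_left hx) (hP.1 hx)
    exact ⟨MulAut.congr hfQ.equiv α, ⟨α, hα, rfl⟩, fun z _ => congr_apply_coe hfQ α z⟩
  have hP''M : P'' ≤ Q'' ⊔ NK S Q'' K'' := hPN''.trans le_sup_right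
  set P₃ := img h P''
  have hconj : (kSys F Q K hQK.1).IsConj P P₃ := by
    refine isConj_iff.2 ⟨fun x => h (f x), isMap_kSys.2 ⟨hP.1, fun x hx => hhN _ (hPN''
      (hfP.mem hx)), fun x => h (f x), hf.comp hh fun x hx => ?_, fun _ _ => rfl, χ, hχ.2,
      fun x => ?_⟩, ?_⟩
    · exact hf.forall_mem_sup le_sup_left le_sup_right (fun y hy => hP''M (hfP.mem hy))
        (fun y hy => Subgroup.mem_sup_left (hfQ.mem hy)) hx
    · exact (autFn_apply χ x.2).symm.trans (hfx x x.2).symm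
    · exact (img_img hf le_sup_left hh hP''M).symm
  have hyM : y ∈ Q'' ⊔ NK S Q'' K'' := Subgroup.mem_sup_right hyK
  have h1 : h y ∈ centralizerIn N P₃ := by
    refine mem_centralizerIn.2 ⟨hhN y hyK, fun z hz => ?_⟩
    obtain ⟨w, hw, rfl⟩ := (hh.mem_img_iff hP''M).1 hz
    obtain ⟨x, hx, rfl⟩ := hfP.exists_eq hw
    rw [← hh.map_mul hyM (hP''M hw), ← hh.map_mul (hP''M hw) hyM, hyP x hx]
  obtain ⟨w, hw, e⟩ := (hh.mem_img_iff hP''M).1 (hP.2 _ hconj h1)
  rwa [← hh.inj (hP''M hw) hyM e]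

theorem centric_sup (hS : IsPGroup p S) (hF : F.IsSaturated p) (hQK : IsFullyK F Q K)
    {P : Subgroup Ω} (hP : (kSys F Q K hQK.1).IsCentric P) : F.IsCentric (P ⊔ Q) := by
  refine ⟨sup_le (hP.1.trans (NK_le S Q K)) hQK.1, fun R hR => ?_⟩
  obtain ⟨f, hf⟩ := isConj_iff.1 hR
  intro y hy
  have hyQ : y ∈ NK S (img f Q) (transK (hf.1.isIso_of_mono (le_sup_right : Q ≤ P ⊔ Q)) K) := by
    refine mem_NK.2 ⟨hy.1, 1, one_mem _, fun z => ?_⟩
    rw [MulAut.one_apply, centralizerIn_conj hy]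
    rw [← hf.2]
    exact Subgroup.closure_mono (Set.image_mono (le_sup_right : Q ≤ P ⊔ Q)) z.2
  have h := centralizer_image_le hS hF hQK hP hf.1 hyQ fun x hx =>
    (mem_centralizerIn.1 hy).2 _ (hf.mem (Subgroup.mem_sup_left hx))
  rw [← hf.2]
  exact Subgroup.closure_mono (Set.image_mono (le_sup_left : P ≤ P ⊔ Q)) h

theorem mem_normalizer_of_finite {G : Type*} [Group G] {H : Subgroup G} [Finite H] {g : G} :
    g ∈ Subgroup.normalizer (H : Set G) ↔ ∀ x ∈ H, g * x * g⁻¹ ∈ H := by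
  refine ⟨fun h x hx => (Subgroup.mem_normalizer_iff.1 h x).1 hx,
    fun h => Subgroup.mem_normalizer_iff.2 fun x => ⟨h x, fun hx => ?_⟩⟩
  have hs : Function.Surjective (fun y : H => (⟨g * y * g⁻¹, h y y.2⟩ : H)) :=
    Finite.surjective_of_injective fun a b e => by simpa using congrArg Subtype.val e
  obtain ⟨⟨y, hy⟩, e⟩ := hs ⟨_, hx⟩
  have e' : g * y * g⁻¹ = g * x * g⁻¹ := congrArg Subtype.val e
  rwa [← mul_left_cancel (mul_right_cancel e')]

/-- The models of the normalizer systems inside `N_F^K(Q)` are sections of local models of `F`. -/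
theorem exists_ambient_model (hS : IsPGroup p S) (hF : F.IsSaturated p) (hQK : IsFullyK F Q K)
    {P : Subgroup Ω} (hP : (kSys F Q K hQK.1).IsFullyNormalized P)
    (hPc : (kSys F Q K hQK.1).IsCentric P)
    {E' : FusionSystem (normalizerIn (NK S Q K) P)}
    (hE' : (kSys F Q K hQK.1).IsNormalizerSystem P E') :
    ∃ (X : Subgroup Ω) (E : FusionSystem (normalizerIn S X)), F.IsFullyNormalized X ∧
      F.IsCentric X ∧ Nat.card X = Nat.card (P ⊔ Q : Subgroup Ω) ∧
      F.IsNormalizerSystem X E ∧ ∃ (M : Type u) (_ : Group M) (κ : normalizerIn S X →* M),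
        E.IsModel p M κ ∧ ∀ (L : Type u) [Group L] (κ' : normalizerIn (NK S Q K) P →* L),
          E'.IsModel p L κ' → ∀ (H : Type v) [Group H], Cfsg.Involves H L → Cfsg.Involves H M := by
  have hNS : (NK S Q K) ≤ S := NK_le S Q K
  have : Finite (NK S Q K) := finite_of_le hNS
  have : Finite (normalizerIn (NK S Q K) P) := finite_of_le (inf_le_left.trans hNS)
  have hSN : IsPGroup p (NK S Q K) := hS.to_le hNS
  have hsatN := isSaturated_kSys hS hF hQK
  have hncP : NC E' p P := nc_normalizer hSN hsatN hP hPc hE'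
  have hX := centric_sup hS hF hQK hPc
  have hXS := hX.1
  set X := P ⊔ Q with hXdef
  have := finite_of_le hXS
  obtain ⟨X', f, hX'n, hf, hfX, hfN⟩ := exists_fullyNormalized_map hS hF hXS
  have hXN : X ≤ normalizerIn S X := le_normalizerIn hXS
  have hfXiso : IsIso F X X' f := ⟨hf.mono hXN, hfX⟩
  have hX'c : F.IsCentric X' :=
    ⟨hX'n.1, fun R hR => hX.2 R (isConj_trans (isConj_iff.2 ⟨f, hfXiso⟩) hR)⟩
  obtain ⟨E, hE⟩ := exists_normalizerSystem (F := F) hX'n.1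
  have hM := nc_normalizer hS hF hX'n hX'c hE
  have : Finite hM.Mdl := hM.finite_mdl
  refine ⟨X', E, hX'n, hX'c, hfXiso.card_eq, hE, hM.Mdl, inferInstance, hM.emb, hM.isModel_emb,
    fun L _ κ' hκ' H _ hH => ?_⟩
  set W₀ := normalizerIn S X
  let jf : W₀ →* normalizerIn S X' :=
    MonoidHom.mk' (fun y => ⟨f y, hfN y y.2⟩) fun a b => Subtype.ext (hf.map_mul a.2 b.2)
  set j : W₀ →* hM.Mdl := hM.emb.comp jf with hj
  have hjinj : Function.Injective j := fun a b e => Subtype.ext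
    (hf.inj a.2 b.2 (congrArg Subtype.val (hM.emb_injective e)))
  have hjF : ∀ (x : Ω) (hx : x ∈ W₀), j ⟨x, hx⟩ = hM.emb ⟨f x, hfN x hx⟩ := fun _ _ => rfl
  obtain ⟨finv, hfinv, hfinvf, hffinv⟩ := hf.isIso.symm
  -- maps of `F` near `X` are conjugations in the model
  have corr₁ : ∀ (W : Subgroup Ω) (g : Ω → Ω) (hW : W ≤ W₀), X ≤ W → IsMap F W g →
      ∀ hg : ∀ w ∈ W, g w ∈ W₀, (∀ x ∈ X, g x ∈ X) →
      ∃ m : hM.Mdl, ∀ (w : Ω) (hw : w ∈ W),
        m * j ⟨w, hW hw⟩ * m⁻¹ = j ⟨g w, hg w hw⟩ := by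
    intro W g hW hXW hgm hg hgX
    set W' := img f W
    have hW'N : W' ≤ normalizerIn S X' := hf.img_le hW fun w hw => hfN w (hW hw)
    have hW'img : W' ≤ img f W₀ := hf.img_le hW fun w hw => hf.mem_img (hW hw)
    have hfi : ∀ y ∈ W', finv y ∈ W := fun y hy => by
      obtain ⟨w, hw, rfl⟩ := (hf.mem_img_iff hW).1 hy
      rw [hfinvf w (hW hw)]
      exact hw
    have he : IsMap F W' (fun y => f (g (finv y))) :=
      ((hfinv.1.mono hW'img).comp hgm hfi).comp hf fun y hy => hg _ (hfi y hy)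
    have hX'W : X' ≤ W' := hfX ▸ Subgroup.closure_mono (Set.image_mono hXW)
    have heE : IsMap E W' (fun y => f (g (finv y))) := by
      refine (isMap_normalizer_iff hX'n.1 hE).2
        ⟨hW'N, fun y hy => hfN _ (hg _ (hfi y hy)), _, he.mono (sup_le le_rfl hX'W),
          fun _ _ => rfl, fun y hy => ?_⟩
      obtain ⟨x, hx, rfl⟩ := hfXiso.exists_eq hy
      rw [hfinvf x (hXN hx)]
      exact hfXiso.mem (hgX x hx)
    obtain ⟨m, hm⟩ := (isMap_realized_iff hM.isRealizedBy_emb hW'N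
      (fun y hy => hfN _ (hg _ (hfi y hy))) fun a ha b hb => he.map_mul ha hb).1 heE
    refine ⟨m, fun w hw => ?_⟩
    rw [hjF, hjF, hm (f w) (hf.mem_img hw)]
    exact congrArg hM.emb (Subtype.ext (congrArg (fun t => f (g t)) (hfinvf w (hW hw))))
  -- conjugations in the model are maps of `F`
  have corr₂ : ∀ (W : Subgroup Ω) (hW : W ≤ W₀), X ≤ W → ∀ m : hM.Mdl,
      (∀ (w : Ω) (hw : w ∈ W), ∃ s : W₀, m * j ⟨w, hW hw⟩ * m⁻¹ = j s) →
      ∃ g, IsMap F W g ∧ ∀ (w : Ω) (hw : w ∈ W), ∃ hg : g w ∈ W₀,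
        m * j ⟨w, hW hw⟩ * m⁻¹ = j ⟨g w, hg⟩ := by
    intro W hW hXW m hm
    choose s hs using hm
    set W' := img f W
    have hW'N : W' ≤ normalizerIn S X' := hf.img_le hW fun w hw => hfN w (hW hw)
    have hfi : ∀ y ∈ W', finv y ∈ W := fun y hy => by
      obtain ⟨w, hw, rfl⟩ := (hf.mem_img_iff hW).1 hy
      rw [hfinvf w (hW hw)]
      exact hw
    let e : Ω → Ω := fun y => if hy : y ∈ W' then f (s _ (hfi y hy) : Ω) else 1
    have hev : ∀ (w : Ω) (hw : w ∈ W), e (f w) = f (s w hw : Ω) := fun w hw => by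
      show (if hy : f w ∈ W' then f (s _ (hfi (f w) hy) : Ω) else 1) = _
      rw [dif_pos (hf.mem_img (Q := W) hw)]
      congr 2
      congr 1
      exact hfinvf w (hW hw)
    have heN : ∀ y ∈ W', e y ∈ normalizerIn S X' := fun y hy => by
      obtain ⟨w, hw, rfl⟩ := (hf.mem_img_iff hW).1 hy
      rw [hev w hw]
      exact hfN _ (s w hw).2
    have hconj : ∀ (y : Ω) (hy : y ∈ W'),
        m * hM.emb ⟨y, hW'N hy⟩ * m⁻¹ = hM.emb ⟨e y, heN y hy⟩ := fun y hy => by
      obtain ⟨w, hw, rfl⟩ := (hf.mem_img_iff hW).1 hy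
      refine (hs w hw).trans ?_
      exact congrArg hM.emb (Subtype.ext (hev w hw).symm)
    have hmul : ∀ a ∈ W', ∀ b ∈ W', e (a * b) = e a * e b := fun a ha b hb => by
      refine congrArg Subtype.val (hM.emb_injective (a₁ := ⟨e (a * b), heN _ (mul_mem ha hb)⟩)
        (a₂ := ⟨e a, heN a ha⟩ * ⟨e b, heN b hb⟩) ?_)
      rw [map_mul, ← hconj a ha, ← hconj b hb, ← hconj _ (mul_mem ha hb),
        show (⟨a * b, hW'N (mul_mem ha hb)⟩ : normalizerIn S X') =
          ⟨a, hW'N ha⟩ * ⟨b, hW'N hb⟩ from rfl, map_mul]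
      group
    have heE : IsMap E W' e :=
      (isMap_realized_iff hM.isRealizedBy_emb hW'N heN hmul).2 ⟨m, hconj⟩
    obtain ⟨-, -, e', he', hee', -⟩ := (isMap_normalizer_iff hX'n.1 hE).1 heE
    have heF : IsMap F W' e := (he'.mono le_sup_left).congr hee'
    refine ⟨fun w => finv (e (f w)),
      (((hf.mono hW).comp heF fun w hw => hf.mem_img hw).comp hfinv.1 fun w hw => ?_),
      fun w hw => ?_⟩
    · rw [hev w hw]
      exact hf.mem_img (s w hw).2
    · have h1 : finv (e (f w)) = s w hw := by rw [hev w hw, hfinvf _ (s w hw).2]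
      simp only [h1]
      exact ⟨(s w hw).2, hs w hw⟩
  have hPT : P ≤ (normalizerIn (NK S Q K) P) := le_normalizerIn hPc.1
  have hTW : (normalizerIn (NK S Q K) P) ≤ W₀ := fun g hg => by
    refine mem_normalizerIn_of_conj (hNS hg.1) fun x hx => ?_
    exact (IsMap.conj (F := F) hXS (hNS hg.1)).forall_mem_sup le_sup_left le_sup_right
      (fun y hy => Subgroup.mem_sup_left (normalizerIn_conj hg hy))
      (fun y hy => Subgroup.mem_sup_right ((onK_conj hg.1).mem hy)) hx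
  have hPW : P ≤ W₀ := le_sup_left.trans hXN
  have hQW : Q ≤ W₀ := le_sup_right.trans hXN
  set PI : Subgroup hM.Mdl := (P.subgroupOf W₀).map j with hPI
  let G₀ : Subgroup hM.Mdl :=
    { carrier := {m | ∃ k ∈ K, ∀ x : Q,
        m * j ⟨x, hQW x.2⟩ * m⁻¹ = j ⟨(k x : Q), hQW (k x).2⟩}
      one_mem' := ⟨1, one_mem _, fun x => by simp⟩
      mul_mem' := by
        rintro a b ⟨k, hk, h1⟩ ⟨l, hl, h2⟩
        refine ⟨k * l, mul_mem hk hl, fun x => ?_⟩
        rw [MulAut.mul_apply, ← h1, ← h2]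
        group
      inv_mem' := by
        rintro a ⟨k, hk, h1⟩
        refine ⟨k⁻¹, inv_mem hk, fun x => ?_⟩
        have h2 := h1 (k⁻¹ x)
        simp only [MulAut.apply_inv_self] at h2
        rw [inv_inv, ← h2]
        group }
  set G : Subgroup hM.Mdl := G₀ ⊓ Subgroup.normalizer (PI : Set hM.Mdl)
  have hTG : ∀ t : (normalizerIn (NK S Q K) P), j ⟨t, hTW t.2⟩ ∈ G := fun t => by
    refine ⟨?_, mem_normalizer_of_finite.2 ?_⟩
    · obtain ⟨k, hk, e⟩ := onK_conj t.2.1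
      refine ⟨k, hk, fun x => ?_⟩
      rw [← map_inv, ← map_mul, ← map_mul]
      exact congrArg j (Subtype.ext (e x).symm)
    · rintro _ ⟨x, hx, rfl⟩
      exact ⟨⟨t, hTW t.2⟩ * x * ⟨t, hTW t.2⟩⁻¹, normalizerIn_conj t.2 hx, by
        rw [map_mul, map_mul, map_inv]⟩
  set ι : (normalizerIn (NK S Q K) P) →* G := (j.comp (Subgroup.inclusion hTW)).codRestrict G hTG with hι
  have hιv : ∀ t : (normalizerIn (NK S Q K) P), (ι t : hM.Mdl) = j ⟨t, hTW t.2⟩ := fun _ => rfl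
  have hreal : E'.IsRealizedBy ι := by
    refine ⟨fun a b e => Subtype.ext (congrArg Subtype.val
      (hjinj (congrArg Subtype.val e)) :), fun A hA φ hφ => ?_⟩
    have hAW : A ⊔ X ≤ W₀ := sup_le (hA.trans hTW) hXN
    constructor
    · intro hmem
      obtain ⟨-, -, f', hf', e, hfP⟩ := (isMap_normalizer_iff hPc.1 hE').1 (isMap_toFn hmem)
      obtain ⟨-, -, g, hg, e', hK⟩ := isMap_kSys.1 hf'
      rw [show (A ⊔ P) ⊔ Q = A ⊔ X from sup_assoc A P Q] at hg
      have hgA : ∀ (a : Ω) (ha : a ∈ A), g a = φ ⟨a, ha⟩ := fun a ha => by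
        rw [e' a (Subgroup.mem_sup_left ha), e a ha, toFn_apply]
      have hgP : ∀ x ∈ P, g x ∈ P := fun x hx => by
        rw [e' x (Subgroup.mem_sup_right hx)]
        exact hfP x hx
      have hgX : ∀ x ∈ X, g x ∈ X := fun x hx =>
        hg.forall_mem_sup (R := X) (le_sup_left.trans le_sup_right : P ≤ A ⊔ X)
          (le_sup_right.trans le_sup_right : Q ≤ A ⊔ X)
          (fun y hy => Subgroup.mem_sup_left (hgP y hy))
          (fun y hy => Subgroup.mem_sup_right (hK.mem hy)) hx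
      have hgW : ∀ w ∈ A ⊔ X, g w ∈ W₀ := fun w hw => hg.forall_mem_sup le_sup_left le_sup_right
        (fun a ha => hgA a ha ▸ hTW (hφ ⟨a, ha⟩)) (fun x hx => hXN (hgX x hx)) hw
      obtain ⟨m, hm⟩ := corr₁ _ g hAW le_sup_right hg hgW hgX
      obtain ⟨k, hk, hkg⟩ := hK
      have hmG : m ∈ G := by
        refine ⟨⟨k, hk, fun x => ?_⟩, mem_normalizer_of_finite.2 ?_⟩
        · rw [hm x (Subgroup.mem_sup_right (Subgroup.mem_sup_right x.2))]
          exact congrArg j (Subtype.ext (hkg x).symm)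
        · rintro _ ⟨x, hx, rfl⟩
          rw [hm x (Subgroup.mem_sup_right (Subgroup.mem_sup_left hx))]
          exact ⟨_, hgP x hx, rfl⟩
      refine ⟨⟨m, hmG⟩, fun a => Subtype.ext ?_⟩
      rw [Subgroup.coe_mul, Subgroup.coe_mul, Subgroup.coe_inv, hιv, hιv,
        hm a (Subgroup.mem_sup_left a.2)]
      exact congrArg j (Subtype.ext (hgA a a.2).symm)
    · rintro ⟨⟨m, ⟨k, hk, hmQ⟩, hmP⟩, hm⟩
      have hma : ∀ a : A, m * j ⟨a, hTW (hA a.2)⟩ * m⁻¹ = j ⟨φ a, hTW (hφ a)⟩ := fun a =>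
        (congrArg Subtype.val (hm a)).symm
      have hmW : ∀ (w : Ω) (hw : w ∈ A ⊔ X),
          ∃ s : W₀, m * j ⟨w, hAW hw⟩ * m⁻¹ = j s := by
        intro w hw
        have hle : A ⊔ X ≤ (j.range.comap ((MulAut.conj m).toMonoidHom.comp j)).map W₀.subtype := by
          refine sup_le (fun a ha => ?_) (sup_le (fun x hx => ?_) fun x hx => ?_)
          · exact ⟨⟨a, hTW (hA ha)⟩, ⟨_, (hma ⟨a, ha⟩).symm⟩, rfl⟩
          · obtain ⟨y, -, e⟩ := (mem_normalizer_of_finite.1 hmP)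
              (j ⟨x, hPW hx⟩) ⟨_, hx, rfl⟩
            exact ⟨⟨x, hPW hx⟩, ⟨y, e⟩, rfl⟩
          · exact ⟨⟨x, hQW hx⟩, ⟨_, (hmQ ⟨x, hx⟩).symm⟩, rfl⟩
        obtain ⟨⟨w, hwW⟩, ⟨s, hs⟩, rfl⟩ := hle hw
        exact ⟨s, hs.symm⟩
      obtain ⟨g, hg, hgm⟩ := corr₂ _ hAW le_sup_right m hmW
      have hgA : ∀ a : A, g a = φ a := fun a => by
        obtain ⟨_, e⟩ := hgm a (Subgroup.mem_sup_left a.2)
        exact congrArg Subtype.val (hjinj (e.symm.trans (hma a)))
      have hgP : ∀ x ∈ P, g x ∈ P := fun x hx => by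
        obtain ⟨_, e⟩ := hgm x (Subgroup.mem_sup_right (Subgroup.mem_sup_left hx))
        obtain ⟨y, hy, e'⟩ := (mem_normalizer_of_finite.1 hmP)
          (j ⟨x, hPW hx⟩) ⟨_, hx, rfl⟩
        have h0 : (y : Ω) = g x := congrArg Subtype.val (hjinj (e'.trans e))
        rw [← h0]
        exact hy
      have hgK : OnK K g := ⟨k, hk, fun x => by
        obtain ⟨_, e⟩ := hgm x (Subgroup.mem_sup_right (Subgroup.mem_sup_right x.2))
        exact congrArg Subtype.val (hjinj ((hmQ x).symm.trans e))⟩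
      have hAN : A ⊔ P ≤ (NK S Q K) := sup_le (hA.trans inf_le_left) hPc.1
      refine mem_of_isMap ((isMap_normalizer_iff hPc.1 hE').2 ⟨hA, fun a ha => ?_, g,
        isMap_kSys.2 ⟨hAN, fun w hw => ?_, g, ?_, fun _ _ => rfl, hgK⟩, fun _ _ => rfl, hgP⟩)
        fun a => (hgA a).symm
      · rw [show g a = φ ⟨a, ha⟩ from hgA ⟨a, ha⟩]
        exact hφ _
      · exact hg.forall_mem_sup le_sup_left ((le_sup_left.trans le_sup_right : P ≤ A ⊔ X))
          (fun a ha => (hgA ⟨a, ha⟩).symm ▸ (hφ ⟨a, ha⟩).1) (fun x hx => hPc.1 (hgP x hx)) hw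
      · rw [show (A ⊔ P) ⊔ Q = A ⊔ X from sup_assoc A P Q]
        exact hg
  have hn : ∀ (g : G) (x : (normalizerIn (NK S Q K) P)), (x : Ω) ∈ P → ∃ y : (normalizerIn (NK S Q K) P), (y : Ω) ∈ P ∧ g * ι x * g⁻¹ = ι y := by
    rintro ⟨m, -, hmP⟩ x hx
    obtain ⟨y, hy, e⟩ := (mem_normalizer_of_finite.1 hmP)
      (j ⟨x, hTW x.2⟩) ⟨_, hx, rfl⟩
    exact ⟨⟨y, hPT hy⟩, hy, Subtype.ext e.symm⟩
  have hC : ∀ g : G, (∀ x : (normalizerIn (NK S Q K) P), (x : Ω) ∈ P → g * ι x * g⁻¹ = ι x) →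
      (∃ k : ℕ, orderOf g = p ^ k) → ∃ z : (normalizerIn (NK S Q K) P), (z : Ω) ∈ P ∧ ι z = g := by
    rintro ⟨c, ⟨k, hk, hcQ⟩, hcP⟩ hcent ⟨n, hn⟩
    rw [← Subgroup.orderOf_coe] at hn
    replace hn : orderOf c = p ^ n := hn
    obtain ⟨T₀, hT₀⟩ := hM.isModel_emb.2.2.1
    obtain ⟨R, hR⟩ := (IsPGroup.of_card (n := n)
      ((Nat.card_zpowers c).trans hn)).exists_le_sylow
    obtain ⟨m₀, hm₀⟩ := MulAction.exists_smul_eq hM.Mdl R T₀
    have hy : m₀ * c * m₀⁻¹ ∈ hM.emb.range := by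
      rw [← hT₀, ← hm₀]
      exact Subgroup.smul_mem_pointwise_smul _ (MulAut.conj m₀) (R : Subgroup hM.Mdl)
        (hR (Subgroup.mem_zpowers c))
    obtain ⟨y, hy⟩ := hy
    set a := hM.proj m₀
    have haF : (a : MulAut X') ∈ F.autGroup X' := by
      refine (mem_autGroup_iff hX'n.1).2 ?_
      obtain ⟨-, -, e', he', hee', -⟩ := (isMap_normalizer_iff hX'n.1 hE).1
        ((mem_autGroup_iff (le_normalizerIn hX'n.1)).1 a.2)
      exact (he'.mono le_sup_left).congr hee'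
    set f₂ : Ω → Ω := fun x => autFn (a : MulAut X') (f x)
    have hf₂ : IsMap F X f₂ :=
      hfXiso.1.comp (isIso_autFn hX'n.1 haF).1 fun x hx => hfXiso.mem hx
    have key : ∀ (x : Ω) (hx : x ∈ X), ∃ hx' : f₂ x ∈ normalizerIn S X',
        m₀ * j ⟨x, hXN hx⟩ * m₀⁻¹ = hM.emb ⟨f₂ x, hx'⟩ := fun x hx => by
      have h1 := hM.emb_conj m₀ ⟨f x, hfXiso.mem hx⟩
      simp only [f₂, autFn_apply (a : MulAut X') (hfXiso.mem hx)]
      exact ⟨le_normalizerIn hX'n.1 (Subtype.prop _), h1⟩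
    have hyQ : (y : Ω) ∈ NK S (img f₂ Q) (transK (hf₂.isIso_of_mono
        (le_sup_right : Q ≤ P ⊔ Q)) K) := by
      refine mem_NK.2 ⟨y.2.1, MulAut.congr (hf₂.isIso_of_mono (le_sup_right : Q ≤ P ⊔ Q)).equiv k,
        ⟨k, hk, rfl⟩, fun z => ?_⟩
      obtain ⟨x, rfl⟩ := (hf₂.isIso_of_mono (le_sup_right : Q ≤ P ⊔ Q)).equiv.surjective z
      rw [congr_apply_coe, IsIso.equiv_apply]
      obtain ⟨hx', e1⟩ := key x (Subgroup.mem_sup_right x.2)
      obtain ⟨hx'', e2⟩ := key (k x : Q) (Subgroup.mem_sup_right (k x).2)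
      refine congrArg Subtype.val (hM.emb_injective (a₁ := ⟨f₂ (k x : Q), hx''⟩)
        (a₂ := y * ⟨f₂ x, hx'⟩ * y⁻¹) ?_)
      rw [map_mul, map_mul, map_inv, hy, ← e1, ← e2, ← hcQ x]
      group
    have hyP : ∀ x ∈ P, (y : Ω) * f₂ x = f₂ x * y := fun x hx => by
      obtain ⟨hx', e1⟩ := key x (Subgroup.mem_sup_left hx)
      refine congrArg Subtype.val (hM.emb_injective (a₁ := y * ⟨f₂ x, hx'⟩)
        (a₂ := ⟨f₂ x, hx'⟩ * y) ?_)
      rw [map_mul, map_mul, hy, ← e1]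
      have h2 : c * j ⟨x, hPW hx⟩ * c⁻¹ = j ⟨x, hPW hx⟩ :=
        congrArg Subtype.val (hcent ⟨x, hPT hx⟩ hx)
      calc m₀ * c * m₀⁻¹ * (m₀ * j ⟨x, hPW hx⟩ * m₀⁻¹)
          = m₀ * (c * j ⟨x, hPW hx⟩ * c⁻¹) * c * m₀⁻¹ := by group
        _ = m₀ * j ⟨x, hPW hx⟩ * m₀⁻¹ * (m₀ * c * m₀⁻¹) := by rw [h2]; group
    obtain ⟨z, hz, e⟩ := (hf₂.mem_img_iff le_sup_left).1
      (centralizer_image_le hS hF hQK hPc hf₂ hyQ hyP)
    obtain ⟨hz', e1⟩ := key z (Subgroup.mem_sup_left hz)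
    refine ⟨⟨z, hPT hz⟩, hz, Subtype.ext ?_⟩
    have h2 : hM.emb ⟨f₂ z, hz'⟩ = m₀ * c * m₀⁻¹ := by
      rw [← hy]
      exact congrArg hM.emb (Subtype.ext e)
    rw [h2] at e1
    exact mul_left_cancel (mul_right_cancel e1)
  exact Agent.Involves.involves_of_subgroup (involves_of_model hncP hreal hn hC hκ' hH)

/-- `H`-freeness passes to the systems `N_F^K(Q)`. -/
theorem isSectionFree_kSys (hS : IsPGroup p S) (hF : F.IsSaturated p) (hQK : IsFullyK F Q K)
    {H : Type v} [Group H] (hfree : F.IsSectionFree p H) :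
    (kSys F Q K hQK.1).IsSectionFree p H := by
  intro P hP hPc E' hE' L _ κ' hκ' hH
  obtain ⟨X, E, hXn, hXc, -, hE, M, _, κ, hκ, h⟩ :=
    exists_ambient_model.{u, v} hS hF hQK hP hPc hE'
  exact hfree X hXn hXc E hE M κ hκ (h L κ' hκ' H hH)

/-- `H`-freeness passes to normalizer systems. -/
theorem isSectionFree_normalizer (hS : IsPGroup p S) (hF : F.IsSaturated p)
    (hQ : F.IsFullyNormalized Q) {E : FusionSystem (normalizerIn S Q)}
    (hE : F.IsNormalizerSystem Q E) {H : Type v} [Group H] (hfree : F.IsSectionFree p H) :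
    E.IsSectionFree p H :=
  sectionFree_congr (NK_top S Q) (fun P => (kSys_top_hom hQ.1 P).trans (hE P).symm)
    (isSectionFree_kSys hS hF (isFullyK_top_iff.2 hQ) hfree)

theorem normalizerSystem_congr {T T' : Subgroup Ω} (h : T = T') {E : FusionSystem T}
    {E' : FusionSystem T'} (hH : ∀ P, E.Hom P = E'.Hom P) {R : Subgroup Ω}
    (hn : E.IsNormal R) : E'.IsNormal R := by
  subst h
  rwa [← ext_of_hom hH]

theorem centric_congr {T T' : Subgroup Ω} (h : T = T') {E : FusionSystem T}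
    {E' : FusionSystem T'} (hH : ∀ P, E.Hom P = E'.Hom P) {R : Subgroup Ω}
    (hn : E.IsCentric R) : E'.IsCentric R := by
  subst h
  rwa [← ext_of_hom hH]

theorem fullyNormalized_of_normal {Q : Subgroup Ω} (hQ : F.IsNormal Q) :
    F.IsFullyNormalized Q := by
  refine ⟨hQ.1, fun R hR => ?_⟩
  obtain ⟨f, hf⟩ := isConj_iff.1 hR
  rw [show R = Q from eq_of_le_of_card hQ.1 (fun y hy => by
    obtain ⟨x, hx, rfl⟩ := hf.exists_eq hy
    exact FusionChain.mapsTo_of_normal hQ hf.1 le_rfl x hx) hf.card_eq.ge]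

theorem autGroup_normalizer (hQ : Q ≤ S) {E : FusionSystem (normalizerIn S Q)}
    (hE : F.IsNormalizerSystem Q E) : E.autGroup Q = F.autGroup Q := by
  ext α
  rw [mem_autGroup_iff (le_normalizerIn hQ), mem_autGroup_iff hQ, isMap_normalizer_iff hQ hE]
  refine ⟨fun ⟨_, _, f', hf', e, _⟩ => (hf'.mono le_sup_left).congr e, fun h => ?_⟩
  exact ⟨le_normalizerIn hQ, fun x hx => le_normalizerIn hQ (autFn_mem α hx), autFn α,
    by rwa [sup_idem], fun _ _ => rfl, fun x hx => autFn_mem α hx⟩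

/-- It suffices to look at the radical centric subgroups. -/
theorem isSectionFree_of_radical (hS : IsPGroup p S) (hF : F.IsSaturated p) {H : Type v}
    [Group H]
    (h : ∀ Q : Subgroup Ω, F.IsFullyNormalized Q → F.IsCentric Q → F.IsRadical p Q →
      ∀ E : FusionSystem (normalizerIn S Q), F.IsNormalizerSystem Q E →
        ∀ (L : Type u) [Group L] (κ : ↥(normalizerIn S Q) →* L), E.IsModel p L κ →
          ¬ Cfsg.Involves H L) : F.IsSectionFree p H := by
  suffices key : ∀ n, ∀ Q : Subgroup Ω, Nat.card S - Nat.card Q = n → F.IsFullyNormalized Q →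
      F.IsCentric Q → ∀ E : FusionSystem (normalizerIn S Q), F.IsNormalizerSystem Q E →
        ∀ (L : Type u) [Group L] (κ : ↥(normalizerIn S Q) →* L), E.IsModel p L κ →
          ¬ Cfsg.Involves H L from fun Q hn hc => key _ Q rfl hn hc
  intro n
  induction n using Nat.strong_induction_on with
  | _ n ih =>
  intro Q hcard hn hc E hE L _ κ hκ hH
  have hT : normalizerIn S Q ≤ S := inf_le_left
  have : Finite (normalizerIn S Q) := finite_of_le hT
  have hQ := nc_normalizer hS hF hn hc hE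
  set R := pre κ (Cfsg.pCore p L) with hR
  have hRn : E.IsNormal R := pre_pCore_normal hκ
  have hRc : E.IsCentric R := pre_pCore_centric hκ
  have hQR : Q ≤ R := by
    rw [hR, model_core hκ (hS.to_le hT)]
    exact le_sSup hQ.nor
  rcases hQR.eq_or_lt with e | hlt
  · refine h Q hn hc ?_ E hE L κ hκ hH
    have hr := pre_pCore_radical hκ (hS.to_le hT)
    rw [← hR, ← e, FusionChain.isRadical_iff, FusionChain.pCoreAut,
      autGroup_normalizer hn.1 hE] at hr
    exact FusionChain.isRadical_iff.2 ⟨hn.1, hr.2⟩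
  · have hK := isFullyK_top_iff.2 hn
    have hTe : NK S Q ⊤ = normalizerIn S Q := NK_top S Q
    have hH' : ∀ P, E.Hom P = (kSys F Q ⊤ hn.1).Hom P := fun P =>
      (hE P).trans (kSys_top_hom hn.1 P).symm
    have hRn' := normalizerSystem_congr hTe.symm hH' hRn
    have hRc' := centric_congr hTe.symm hH' hRc
    have : Finite (NK S Q ⊤) := finite_of_le (NK_le S Q ⊤)
    have hRN : normalizerIn (NK S Q ⊤) R = NK S Q ⊤ :=
      inf_eq_left.2 (normalizes_of_stronglyClosed (stronglyClosed_of_normal hRn'))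
    obtain ⟨E', hE'⟩ := exists_normalizerSystem (F := kSys F Q ⊤ hn.1) hRn'.1
    have hEE' : ∀ P, E.Hom P = E'.Hom P := fun P => by
      rw [hH' P, hE' P]
      ext φ
      refine ⟨fun hφ => ?_, fun hφ => hφ.1⟩
      obtain ⟨ψ, hψ, h1, h2⟩ := hRn'.2 P φ hφ
      refine ⟨hφ, ?_, fun x => ?_, ψ, hψ, h1, h2⟩
      · rw [hRN]; exact ((kSys F Q ⊤ hn.1).le_of_mem hφ).1
      · rw [hRN]; exact ((kSys F Q ⊤ hn.1).le_of_mem hφ).2 x
    obtain ⟨κ', hκ'⟩ := isModel_congr (hTe.symm.trans hRN.symm) hEE' hκ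
    obtain ⟨X, EX, hXn, hXc, hXcard, hEX, M, _, κX, hκX, hinv⟩ :=
      exists_ambient_model.{u, v} hS hF hK (fullyNormalized_of_normal hRn') hRc' hE'
    rw [sup_eq_left.2 hQR] at hXcard
    have hlt' : Nat.card Q < Nat.card X := by
      rw [hXcard]
      have hRS : R ≤ S := hRn.1.trans hT
      have := finite_of_le hRS
      exact lt_of_le_of_ne (Subgroup.card_le_of_le hQR) fun e =>
        hlt.ne (Subgroup.eq_of_le_of_card_ge hQR e.ge)
    have := Subgroup.card_le_of_le hXn.1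
    exact ih (Nat.card S - Nat.card X) (by omega) X rfl hXn hXc EX hEX M κX hκX
      (hinv L κ' hκ' H hH)

end Cfsg.Agent.Fusion
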